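import Cfsg.Agent.Lib.JT.Defs
import Cfsg.Agent.Lib.Known2.ES
import Cfsg.Agent.Lib.PGrp.Critical
import Cfsg.Agent.Lib.Transfer.SylowIn

/-! # An extraspecial group of order 32 with an automorphism of order 5 -/

set_option autoImplicit false
set_option maxRecDepth 100000

namespace Cfsg.Lib.JT

open Subgroup Cfsg.Lib.Comp Cfsg.Lib.Known2

variable {H : Type*} [Group H] {Q : Subgroup H} {z : H}

theorem es_sq_mul (h : ES Q z) {x y : H} (hx : x ∈ Q) (hy : y ∈ Q) :
    x * y * (x * y) = 1 ↔ ((x * x = 1 ↔ y * y = 1) ↔ x * y = y * x) := by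
  have z1 := h.ne
  have z2 := h.sq
  by_cases c : x * y = y * x
  · have : x * y * (x * y) = x * x * (y * y) := by rw [mul_assoc, ← mul_assoc y, ← c]; group
    rw [this]
    rcases h.sq_mem x hx with a | a <;> rcases h.sq_mem y hy with b | b <;> simp [a, b, c, z1, z2]
  · have : x * y * (x * y) = x * x * (y * y) * z := by
      rw [mul_assoc, ← mul_assoc y, h.anti hy hx (Ne.symm c), mul_assoc _ z, ← h.cen y hy]; group
    rw [this]
    rcases h.sq_mem x hx with a | a <;> rcases h.sq_mem y hy with b | b <;> simp [a, b, c, z1, z2]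

/-- five pairwise anticommuting involutions with product one, permuted by `c` -/
structure Pent (Q : Subgroup H) (z c : H) (U : Fin 5 → H) : Prop where
  mem : ∀ i, U i ∈ Q
  sq : ∀ i, U i * U i = 1
  anti : ∀ i j, i ≠ j → U i * U j ≠ U j * U i
  prod : U 0 * (U 1 * (U 2 * (U 3 * U 4))) = 1
  cj : c * U 0 * c⁻¹ = U 1
  gen : ∀ M : Subgroup H, z ∈ M → (∀ i, U i ∈ M) → Q ≤ M

theorem exists_pent [Finite H] [hn : Q.Normal] (h : ES Q z) (hz : ∀ g, g * z = z * g) (hc : Nat.card Q = 32) {c : H}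
    (c5 : c ^ 5 = 1) (hcQ : ¬ ∀ x ∈ Q, c * x = x * c) : ∃ U, Pent Q z c U := by
  have : Fact (Nat.Prime 5) := ⟨by norm_num⟩
  let f := MulAut.conj c
  have fQ : ∀ {x}, x ∈ Q → f x ∈ Q := fun hx => hn.conj_mem _ hx c
  have fz : f z = z := by simp [f, hz]
  have f5 : ∀ x, f (f (f (f (f x)))) = x := fun x => by
    have : f ^ 5 = 1 := by rw [← map_pow, c5, map_one]
    exact congrArg (fun g : MulAut H => g x) this
  have hp : IsPGroup 5 (zpowers c) := fun ⟨_, n, rfl⟩ => ⟨1, Subtype.ext (by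
    change (c ^ n) ^ 5 ^ 1 = 1
    rw [pow_one, ← zpow_natCast, ← zpow_mul, mul_comm, zpow_mul, zpow_natCast, c5, one_zpow])⟩
  have cnt : ∀ M : Subgroup H, M ≤ Q → (∀ x ∈ M, f x ∈ M) → ∃ k ≤ 5, ∃ l ≤ k, Nat.card M = 2 ^ k ∧
      Nat.card (M ⊓ centralizer (zpowers c : Set H) : Subgroup H) = 2 ^ l ∧ 2 ^ k % 5 = 2 ^ l % 5 := fun M hM hf => by
    have e := PGrp.card_modEq_card_inf_centralizer hp (H := M) (zpowers_le.2 (Transfer.mem_normalizer_of_cj_le (Transfer.cj_le_iff.2 hf)))
    obtain ⟨k, hk, e1⟩ := (Nat.dvd_prime_pow Nat.prime_two).1 (show Nat.card M ∣ 2 ^ 5 from (card_dvd_of_le hM).trans hc.dvd)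
    obtain ⟨l, hl, e2⟩ := (Nat.dvd_prime_pow Nat.prime_two).1
      (e1 ▸ card_dvd_of_le (inf_le_left : M ⊓ centralizer (zpowers c : Set H) ≤ M))
    exact ⟨k, hk, l, hl, e1, e2, by rw [← e1, ← e2]; exact e⟩
  have mC : ∀ {x}, x ∈ centralizer (zpowers c : Set H) ↔ c * x = x * c := fun {x} =>
    ⟨fun hx => hx c (mem_zpowers c), fun e => by rintro _ ⟨n, rfl⟩; exact (Commute.zpow_left e n).eq⟩
  have hZ : zpowers z ≤ Q ⊓ centralizer (zpowers c : Set H) := zpowers_le.2 ⟨h.mem, mC.2 (hz c)⟩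
  have hC : Nat.card (Q ⊓ centralizer (zpowers c : Set H) : Subgroup H) ≤ 2 := by
    obtain ⟨k, -, l, hl, e1, e2, e3⟩ := cnt Q le_rfl fun _ => fQ
    obtain rfl : k = 5 := Nat.pow_right_injective le_rfl (e1.symm.trans hc)
    have : l ≠ 5 := by
      rintro rfl
      exact hcQ fun x hx => mC.1 ((eq_of_le_of_card_ge inf_le_left (by rw [e1, e2])).ge hx).2
    rw [e2]; clear e1 e2; interval_cases l <;> omega
  have fix : ∀ x ∈ Q, f x = x ∨ f x = x * z → x = 1 ∨ x = z := fun x hx e => by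
    have e : f x = x := e.elim id fun e => by
      have := f5 x
      simp only [e, map_mul, fz, mul_assoc, h.sq, mul_one] at this
      exact absurd (mul_eq_left.1 this) h.ne
    exact h.mem_zp.1 ((eq_of_le_of_card_ge hZ (by rw [card_zpowers_invol h.sq h.ne]; exact hC)).ge
      ⟨hx, mC.2 (mul_inv_eq_iff_eq_mul.1 e)⟩)
  have full : ∀ M : Subgroup H, M ≤ Q → (∀ x ∈ M, f x ∈ M) → z ∈ M → (∃ x ∈ M, ¬ (x = 1 ∨ x = z)) → M = Q :=
    fun M hM hf hzM ⟨x, hx, hx'⟩ => by
      obtain ⟨k, hk, l, hl, e1, e2, e3⟩ := cnt M hM hf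
      have h1 := card_le_of_le (show zpowers z ≤ M ⊓ centralizer (zpowers c : Set H) from zpowers_le.2 ⟨hzM, mC.2 (hz c)⟩)
      have h2 := (card_le_of_le (inf_le_inf_right (centralizer (zpowers c : Set H)) hM)).trans hC
      have h3 := Transfer.card_lt_of_lt (show zpowers z < M from lt_of_le_of_ne (zpowers_le.2 hzM) fun e => hx' (h.mem_zp.1 (e.ge hx)))
      rw [card_zpowers_invol h.sq h.ne] at h1 h3
      refine eq_of_le_of_card_ge hM ?_
      rw [e1] at h3 ⊢; rw [e2] at h1 h2; rw [hc]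
      clear e1 e2; interval_cases k <;> interval_cases l <;> omega
  have cf : ∀ x y, f x * f y = f y * f x ↔ x * y = y * x := fun x y => by rw [← map_mul, ← map_mul, f.injective.eq_iff]
  have sf : ∀ x, f x * f x = 1 ↔ x * x = 1 := fun x => by rw [← map_mul, map_eq_one_iff _ f.injective]
  -- the norm and the commutation pattern
  have key : ∀ a ∈ Q, (a * (f a * (f (f a) * (f (f (f a)) * f (f (f (f a)))))) = 1 ∨
      a * (f a * (f (f a) * (f (f (f a)) * f (f (f (f a)))))) = z) ∧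
      (a * a = 1 ↔ (a * f a = f a * a ↔ a * f (f a) = f (f a) * a)) := fun a ha => by
    have m1 := fQ ha; have m2 := fQ m1; have m3 := fQ m2; have m4 := fQ m3
    have r3 := mul_mem m3 m4; have r2 := mul_mem m2 r3; have r1 := mul_mem m1 r2
    have hN := fix _ (mul_mem ha r1) (by
      simp only [map_mul, f5]
      rcases h.comm _ r1 a ha with e | e
      exacts [.inl (by simpa only [mul_assoc] using e), .inr (by simpa only [mul_assoc] using e)])
    refine ⟨hN, ?_⟩
    have h2 : a * (f a * (f (f a) * (f (f (f a)) * f (f (f (f a)))))) * (a * (f a * (f (f a) * (f (f (f a)) * f (f (f (f a))))))) = 1 := by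
      rcases hN with e | e <;> rw [e]
      exacts [one_mul 1, h.sq]
    have c4 : a * f (f (f (f a))) = f (f (f (f a))) * a ↔ a * f a = f a * a := by rw [← cf, f5, eq_comm]
    have c3 : a * f (f (f a)) = f (f (f a)) * a ↔ a * f (f a) = f (f a) * a := by rw [← cf, ← cf, f5, eq_comm]
    rw [es_sq_mul h ha r1, es_sq_mul h m1 r2, es_sq_mul h m2 r3, es_sq_mul h m3 m4, h.mul_comm_iff ha m1 r2,
      h.mul_comm_iff ha m2 r3, h.mul_comm_iff ha m3 m4, h.mul_comm_iff m1 m2 r3, h.mul_comm_iff m1 m3 m4,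
      h.mul_comm_iff m2 m3 m4] at h2
    simp only [sf, cf, c3, c4] at h2
    revert h2
    generalize (a * a = 1) = E, (a * f a = f a * a) = A, (a * f (f a) = f (f a) * a) = B
    by_cases E <;> by_cases A <;> by_cases B <;> simp [*]
  have gen : ∀ a ∈ Q, ¬ (a = 1 ∨ a = z) → closure {z, a, f a, f (f a), f (f (f a)), f (f (f (f a)))} = Q := fun a ha hn => by
    have m1 := fQ ha; have m2 := fQ m1; have m3 := fQ m2; have m4 := fQ m3
    refine full _ ((closure_le _).2 (by simp [Set.insert_subset_iff, h.mem, *])) (fun x hx => ?_) (subset_closure (by simp))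
      ⟨a, subset_closure (by simp), hn⟩
    refine (show Subgroup.closure _ ≤ (Subgroup.closure _).comap f.toMonoidHom from (closure_le _).2 fun t ht => subset_closure ?_) hx
    simp only [Set.mem_insert_iff, Set.mem_singleton_iff] at ht
    rcases ht with rfl | rfl | rfl | rfl | rfl | rfl <;> simp [fz, f5]
  obtain ⟨a, ha, a1, a2⟩ : ∃ a ∈ Q, ¬ (a = 1 ∨ a = z) ∧ a * a = 1 := by
    obtain ⟨x, hx, y, hy, e⟩ := h.nonab
    have x1 : ¬ (x = 1 ∨ x = z) := by rintro (rfl | rfl) <;> simp [hz] at e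
    by_cases x2 : x * x = 1
    · exact ⟨x, hx, x1, x2⟩
    have k : ∀ t ∈ Q, ¬ t * t = 1 → x * t = t * x → ¬ (t = x ∨ t = x * z) → ∃ a ∈ Q, ¬ (a = 1 ∨ a = z) ∧ a * a = 1 :=
      fun t ht t2 e hne => ⟨x * t, mul_mem hx ht, fun e => hne (by
        have xz := (h.sq_mem x hx).resolve_left x2
        rcases e with e | e
        · right; rw [← xz, ← mul_left_cancel_iff (a := x), e, ← mul_assoc, ← mul_assoc, xz, mul_assoc, xz, h.sq]
        · left; rw [← xz] at e; exact mul_left_cancel e), (es_sq_mul h hx ht).2 (iff_of_true (iff_of_false x2 t2) e)⟩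
    by_cases c1 : x * f x = f x * x
    · exact k _ (fQ hx) (by rwa [sf]) c1 fun e => x1 (fix x hx e)
    · refine k _ (fQ (fQ hx)) (by rwa [sf, sf]) (by_contra fun c2 => x2 ((key x hx).2.2 (iff_of_false c1 c2))) fun e => x1 (fix x hx ?_)
      have := f5 x
      rcases e with e | e <;> simp only [e, map_mul, fz, mul_assoc, h.sq, mul_one] at this <;> exact .inl this
  have pat : ∀ a ∈ Q, ¬ (a = 1 ∨ a = z) → a * a = 1 → a * (f a * (f (f a) * (f (f (f a)) * f (f (f (f a)))))) = 1 →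
      ∃ U, Pent Q z c U := fun a ha a1 a2 hN => by
    have m1 := fQ ha; have m2 := fQ m1; have m3 := fQ m2; have m4 := fQ m3
    have c4 : a * f (f (f (f a))) = f (f (f (f a))) * a ↔ a * f a = f a * a := by rw [← cf, f5, eq_comm]
    have c3 : a * f (f (f a)) = f (f (f a)) * a ↔ a * f (f a) = f (f a) * a := by rw [← cf, ← cf, f5, eq_comm]
    have k := (key a ha).2.1 a2
    have n1 : ¬ a * f a = f a * a := fun e => a1 (h.of_cen a ha fun y hy => by
      refine (show Subgroup.closure _ ≤ centralizer {a} from (closure_le _).2 fun t ht => ?_) ((gen a ha a1).ge hy) a rfl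
      simp only [Set.mem_insert_iff, Set.mem_singleton_iff] at ht
      rw [SetLike.mem_coe, mem_centralizer_singleton_iff]
      rcases ht with rfl | rfl | rfl | rfl | rfl | rfl
      exacts [(hz a).symm, rfl, e.symm, (k.1 e).symm, (c3.2 (k.1 e)).symm, (c4.2 e).symm])
    have n2 : ¬ a * f (f a) = f (f a) * a := fun e => n1 (k.2 e)
    have n3 := mt c3.1 n2
    have n4 := mt c4.1 n1
    refine ⟨![a, f a, f (f a), f (f (f a)), f (f (f (f a)))], fun i => ?_, fun i => ?_, fun i j hij => ?_, hN, rfl, fun M h1 h2 => ?_⟩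
    · fin_cases i <;> assumption
    · fin_cases i <;> simp only [Fin.zero_eta, Fin.mk_one, Fin.reduceFinMk, Matrix.cons_val, sf, a2]
    · fin_cases i <;> fin_cases j <;>
        simp only [Fin.zero_eta, Fin.mk_one, Fin.reduceFinMk, Matrix.cons_val, Ne, cf, not_true] at hij ⊢ <;>
        first | assumption | exact fun e => by simp only [e, not_true] at n1 n2 n3 n4
    · rw [← gen a ha a1]
      exact (closure_le _).2 (by simpa [Set.insert_subset_iff] using ⟨h1, h2 0, h2 1, h2 2, h2 3, h2 4⟩)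
  rcases (key a ha).1 with e | e
  · exact pat a ha a1 a2 e
  · refine pat (a * z) (mul_mem ha h.mem) (fun e => a1 ?_) (by rw [mul_assoc, ← mul_assoc z, ← hz, mul_assoc, h.sq, mul_one, a2]) ?_
    · rcases e with e | e
      · right; rw [← h.sq] at e; exact mul_right_cancel e
      · exact .inl (mul_eq_right.1 e)
    · have zz : ∀ t s : H, t * z * s = t * s * z := fun t s => by rw [mul_assoc, ← hz, mul_assoc]
      simp only [map_mul, fz, ← mul_assoc] at e ⊢
      simp only [zz _ (f _), e, h.sq, one_mul]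

end Cfsg.Lib.JT
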