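import Mathlib.GroupTheory.SpecificGroups.Alternating
import Mathlib.Tactic

/-! # An involution of `A₅` determined by an `A₄` -/

set_option autoImplicit false
set_option maxRecDepth 100000
set_option synthInstance.maxSize 2000

namespace Cfsg.Lib.JT

open Equiv

theorem a5w_perm : ∀ z : Perm (Fin 5), z * z = 1 → z ≠ 1 → ∀ u : Perm (Fin 5), u * u = 1 → u * z = z * u →
    ∀ y : Perm (Fin 5), y * z = z * u * y → y * u = z * y → y * y * y = 1 →
    ∃ w : Perm (Fin 5), (w * w = 1 ∧ w * y * (w * y) = 1 ∧ w * z * (w * z) * (w * z) = 1) ∧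
      ∀ v : Perm (Fin 5), v * v = 1 → v * y * (v * y) = 1 → v * z * (v * z) * (v * z) = 1 → v = w := by
  decide +kernel

theorem a5w {L : Type*} [Group L] (e : L ≃* alternatingGroup (Fin 5)) {z u y : L} (h1 : z * z = 1) (h2 : z ≠ 1)
    (h3 : u * u = 1) (h4 : u * z = z * u) (h5 : y * z = z * u * y) (h6 : y * u = z * y) (h7 : y * y * y = 1) :
    ∃ w : L, (w * w = 1 ∧ w * y * (w * y) = 1 ∧ w * z * (w * z) * (w * z) = 1) ∧
      ∀ v : L, v * v = 1 → v * y * (v * y) = 1 → v * z * (v * z) * (v * z) = 1 → v = w := by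
  let f : L →* Perm (Fin 5) := (alternatingGroup (Fin 5)).subtype.comp e.toMonoidHom
  have hf : Function.Injective f := Subtype.val_injective.comp e.injective
  obtain ⟨w, ⟨a1, a2, a3⟩, a4⟩ := a5w_perm (f z) (by rw [← map_mul, h1, map_one]) (fun h => h2 (hf (h.trans f.map_one.symm)))
    (f u) (by rw [← map_mul, h3, map_one]) (by simp only [← map_mul, h4]) (f y) (by simp only [← map_mul, h5])
    (by simp only [← map_mul, h6]) (by simp only [← map_mul, h7, map_one])
  have hz : Perm.sign (f z) = 1 := (e z).2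
  have hw : w ∈ alternatingGroup (Fin 5) := by
    have := congrArg Perm.sign a3
    simp only [map_mul, hz, mul_one, Int.units_mul_self, one_mul, map_one] at this
    exact this
  obtain ⟨w, rfl⟩ : ∃ v, f v = w := ⟨e.symm ⟨w, hw⟩, by simp [f]⟩
  refine ⟨w, ⟨hf ?_, hf ?_, hf ?_⟩, fun v b1 b2 b3 => hf (a4 _ ?_ ?_ ?_)⟩
  all_goals first | (simp only [map_mul, map_one, *]; done) | simp only [← map_mul, map_one, *]

end Cfsg.Lib.JT
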