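import Cfsg.Agent.Lib.JT.B1
import Cfsg.Agent.Lib.JT.A5w
import Cfsg.Agent.Lib.Transfer.Apps
import Cfsg.Agent.S3277

/-! # Type `J₂`: the centraliser of the second involution -/

set_option autoImplicit false
set_option maxRecDepth 100000
set_option linter.dupNamespace false

namespace Cfsg.Lib.JT

open Subgroup Cfsg.Lib.Transfer
open scoped commutatorElement

theorem cent_a_cls : ∀ k : HH false, k * a0 = a0 * k → k ∈ [1, z0, u0, z0 * u0] ∨ k = wt W1 k * a0 * (wt W1 k)⁻¹ := by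
  decide +kernel
theorem cent_a_dec : ∀ k : HH false, k * a0 = a0 * k → ∃ v ∈ [1, z0, u0, z0 * u0], ∃ t ∈ [1, a0, a1, a2], k = v * t := by
  decide +kernel

/-- the four-group `⟨z, u⟩` -/
def V0 : Subgroup (HH false) where
  carrier := {k | k ∈ [1, z0, u0, z0 * u0]}
  mul_mem' := fun {x y} hx hy => (show ∀ x ∈ [1, z0, u0, z0 * u0], ∀ y ∈ [1, z0, u0, z0 * u0],
    (x * y : HH false) ∈ [1, z0, u0, z0 * u0] by decide +kernel) x hx y hy
  one_mem' := List.mem_cons_self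
  inv_mem' := fun {x} hx => (show ∀ x ∈ [1, z0, u0, z0 * u0], (x⁻¹ : HH false) ∈ [1, z0, u0, z0 * u0] by decide +kernel) x hx

theorem card_V0 : Nat.card V0 = 4 := by
  rw [show Nat.card V0 = Nat.card ([1, z0, u0, z0 * u0] : List (HH false)).toFinset from
    Nat.card_congr (Equiv.subtypeEquivRight fun x => List.mem_toFinset.symm), Nat.card_eq_finsetCard,
    List.toFinset_card_of_nodup (by decide +kernel)]
  rfl

variable {G : Type*} [Group G] {φ : HH false →* G}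

/-- the relations for `y = m x⁻¹` -/
structure Y2 (φ : HH false →* G) (y : G) : Prop where
  y3 : y * y * y = 1
  yz : Cj φ y z0 (z0 * u0)
  yu : Cj φ y u0 z0
  yx : Cj φ y x0 x0
  ya : Cj φ y a0 a0

theorem M2.y2 {m : G} (h : M2 φ m) : Y2 φ (m * φ x0⁻¹) where
  y3 := by
    have h1 : Commute m (φ x0⁻¹) := h.mx.inv.comm
    rw [← pow_three', h1.mul_pow, h.m3, ← map_pow, show (x0⁻¹ ^ 3 : HH false) = 1 by decide +kernel]; simp
  yz := (Cj.of _ (z0_comm _)).comp h.mz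
  yu := (Cj.of _ (by decide +kernel)).comp h.mu
  yx := (Cj.of _ (by decide +kernel)).comp h.mx
  ya := (Cj.of (l := a2) _ (by decide +kernel)).comp (((h.mx.inv.mul h.ma).mul h.mx).cast (by decide +kernel) (by decide +kernel))

namespace Y2
variable {y : G} (h : Y2 φ y)
include h
theorem yzu : Cj φ y (z0 * u0) u0 := (h.yz.mul h.yu).cast rfl (by decide +kernel)
theorem ya1 : Cj φ y a1 a1 := ((h.yx.mul h.ya).mul h.yx.inv).cast (by decide +kernel) (by decide +kernel)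
theorem ya2 : Cj φ y a2 a2 := ((h.yx.inv.mul h.ya).mul h.yx).cast (by decide +kernel) (by decide +kernel)
theorem onV {v : HH false} (hv : v ∈ V0) : ∃ w ∈ V0, Cj φ y v w ∧ ∃ w' ∈ V0, Cj φ y⁻¹ v w' := by
  have hv : v ∈ [1, z0, u0, z0 * u0] := hv
  simp only [List.mem_cons, List.not_mem_nil, or_false] at hv
  have a1 : (z0 : HH false) ∈ V0 := by simp [V0, ← SetLike.mem_coe]
  have a2 : (u0 : HH false) ∈ V0 := by simp [V0, ← SetLike.mem_coe]
  rcases hv with rfl | rfl | rfl | rfl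
  exacts [⟨1, one_mem _, Cj.one _, 1, one_mem _, Cj.one _⟩, ⟨_, mul_mem a1 a2, h.yz, _, a2, h.yu.symm⟩,
    ⟨_, a1, h.yu, _, mul_mem a1 a2, h.yzu.symm⟩, ⟨_, a2, h.yzu, _, a1, h.yz.symm⟩]
theorem onE {k : HH false} (hk : k * a0 = a0 * k) :
    ∃ w ∈ V0, Cj φ y k (w * k) ∧ ∃ w' ∈ V0, Cj φ y⁻¹ k (w' * k) := by
  obtain ⟨v, hv, t, ht, rfl⟩ := cent_a_dec k hk
  have hv : v ∈ V0 := hv
  obtain ⟨w, hw, h1, w', hw', h2⟩ := h.onV hv
  have h3 : Cj φ y t t := by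
    simp only [List.mem_cons, List.not_mem_nil, or_false] at ht
    rcases ht with rfl | rfl | rfl | rfl
    exacts [Cj.one _, h.ya, h.ya1, h.ya2]
  exact ⟨w * v⁻¹, mul_mem hw (inv_mem hv), (h1.mul h3).cast rfl (by group), w' * v⁻¹, mul_mem hw' (inv_mem hv),
    (h2.mul h3.symm).cast rfl (by group)⟩
end Y2

/-- in case I an element of `C(a)` keeping `z` in `C_H(a)` lies in `C_H(a)⟨y⟩` -/
theorem JT.norm_E (hφ : JT φ) (hna : ¬ IsConj (φ z0) (φ a0)) {y : G} (h : Y2 φ y) {g : G} (hg : Cj φ g a0 a0)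
    {l : HH false} (hl : Cj φ g z0 l) (hla : l * a0 = a0 * l) :
    ∃ k, k * a0 = a0 * k ∧ (g = φ k ∨ g = y * φ k ∨ g = y⁻¹ * φ k) := by
  rcases cent_a_cls l hla with hv | e
  · simp only [List.mem_cons, List.not_mem_nil, or_false] at hv
    rcases hv with rfl | rfl | rfl | rfl
    · exact absurd (hl.inj hφ (Cj.one _)) (by decide +kernel)
    · obtain ⟨k, rfl⟩ := hφ.mem' hl
      exact ⟨k, hφ.of_cj hg, .inl rfl⟩
    · obtain ⟨k, hk⟩ := hφ.mem' (hl.comp h.yu)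
      exact ⟨k, hφ.of_cj (hk ▸ hg.comp h.ya), .inr (.inr (by rw [hk]; group))⟩
    · obtain ⟨k, hk⟩ := hφ.mem' (hl.comp h.yz.symm)
      exact ⟨k, hφ.of_cj (hk ▸ hg.comp h.ya.symm), .inr (.inl (by rw [hk]; group))⟩
  · exact absurd ((hl.cast rfl e).comp (Cj.self _ a0).symm).isConj hna

theorem JT.caseI_dich [Finite G] (hφ : JT φ) (hna : ¬ IsConj (φ z0) (φ a0)) {y : G} (h : Y2 φ y) :
    (∀ g, Cj φ g a0 a0 → ∃ k, k * a0 = a0 * k ∧ (g = φ k ∨ g = y * φ k ∨ g = y⁻¹ * φ k)) ∨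
      ∃ w, w * w = 1 ∧ w * y * (w * y) = 1 ∧ w * φ z0 * (w * φ z0) * (w * φ z0) = 1 ∧ Cj φ w a0 a0 ∧ Cj φ w x0 x0 := by
  have : Fact (Nat.Prime 2) := ⟨Nat.prime_two⟩
  set K := centralizer ({φ a0} : Set G)
  have mK : ∀ {g}, g ∈ K ↔ Cj φ g a0 a0 := fun {g} => mem_centralizer_singleton_iff.trans ⟨Cj.of_eq, Cj.comm⟩
  set E := (centralizer ({a0} : Set (HH false))).map φ
  have mE : ∀ {g}, g ∈ E ↔ ∃ k, k * a0 = a0 * k ∧ φ k = g := fun {g} => by
    simp only [E, mem_map, mem_centralizer_singleton_iff]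
  have hE2 : ∀ g ∈ E, g * g = 1 := fun g hg => by
    obtain ⟨k, hk, rfl⟩ := mE.1 hg
    rw [← map_mul, cent_a_sq k hk, map_one]
  have hEp : IsPGroup 2 E := fun g => ⟨1, Subtype.ext (by simpa [sq] using hE2 g g.2)⟩
  have hEc : IsMulCommutative E := ⟨⟨fun a b => Subtype.ext (by
    have h1 := eq_inv_of_mul_eq_one_left (hE2 _ (mul_mem a.2 b.2))
    rw [mul_inv_rev, ← eq_inv_of_mul_eq_one_left (hE2 _ a.2), ← eq_inv_of_mul_eq_one_left (hE2 _ b.2)] at h1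
    exact h1)⟩⟩
  have hEK : E ≤ K := fun g hg => by
    obtain ⟨k, hk, rfl⟩ := mE.1 hg
    exact mK.2 (Cj.of k hk)
  have hzE : φ z0 ∈ E := mE.2 ⟨_, (z0_comm _).symm, rfl⟩
  have hy1 : y ≠ 1 := fun e => absurd ((e ▸ h.yu : Cj φ 1 u0 z0).inj hφ (show Cj φ 1 z0 z0 by simp [Cj])) (by decide +kernel)
  have hyo : orderOf y = 3 := orderOf_eq_prime (by rw [pow_three', h.y3]) hy1
  have hN : ∀ g ∈ K, g * φ z0 * g⁻¹ ∈ E → ∃ k, k * a0 = a0 * k ∧ (g = φ k ∨ g = y * φ k ∨ g = y⁻¹ * φ k) :=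
    fun g hg hz => by
      obtain ⟨l, hl, e⟩ := mE.1 hz
      exact hφ.norm_E hna h (mK.1 hg) e.symm hl
  have hS : SylowIn 2 E K := sylowIn_of_maximal hEK hEp fun Q hQ h1 h2 => by
    by_contra hc
    obtain ⟨g, ⟨g1, g2⟩, g3⟩ := SetLike.exists_of_lt (lt_inf_normalizer hQ (lt_of_le_not_ge h1 hc))
    obtain ⟨k, hk, e⟩ := hN g (h2 g1) (conj_mem_of_mem_normalizer g2 hzE)
    have hkE : φ k ∈ E := mE.2 ⟨k, hk, rfl⟩
    have hyQ : y ∈ Q := by
      rcases e with rfl | rfl | rfl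
      · exact absurd hkE g3
      · exact (mul_mem_cancel_right (h1 hkE)).1 g1
      · exact inv_mem_iff.1 ((mul_mem_cancel_right (h1 hkE)).1 g1)
    obtain ⟨n, hn⟩ := hQ ⟨y, hyQ⟩
    have := orderOf_dvd_of_pow_eq_one (congrArg Subtype.val hn)
    rw [hyo] at this
    exact absurd (Nat.Prime.dvd_of_dvd_pow Nat.prime_three this) (by norm_num)
  set K0 := resOf 2 K
  have hV : E ⊓ K0 ≤ V0.map φ := by
    rw [hS.inf_resOf_of_comm hEc, commutator_le]
    rintro g hg n ⟨n1, n2⟩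
    obtain ⟨k, hk, rfl⟩ := mE.1 hg
    obtain ⟨l, hl, e⟩ := hN n n1 (conj_mem_of_mem_normalizer n2 hzE)
    have hc : Cj φ (φ l) k k := Cj.of_eq (congrArg Subtype.val (hEc.1.1 ⟨_, mE.2 ⟨l, hl, rfl⟩⟩ ⟨_, hg⟩))
    obtain ⟨w, hw, h1, w', hw', h2⟩ := h.onE hk
    have key : ∀ v ∈ V0, Cj φ n k (v * k) → ⁅φ k, n⁆ ∈ V0.map φ := fun v hv hn => by
      refine ⟨v⁻¹, inv_mem hv, ?_⟩
      rw [commutatorElement_def, mul_assoc, mul_assoc, ← mul_assoc n, ← map_inv, hn.inv, ← map_mul]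
      congr 1; group
    rcases e with rfl | rfl | rfl
    exacts [key 1 (one_mem _) (hc.cast rfl (one_mul _).symm), key w hw (hc.comp h1), key w' hw' (hc.comp h2)]
  have h3 : ∀ g ∈ K, g * g * g = 1 → g ∈ K0 := fun g hg e =>
    mem_resOf hg (Nat.Coprime.coprime_dvd_left (orderOf_dvd_of_pow_eq_one (by rw [pow_three', e])) (by norm_num))
  have hyK : y ∈ K := mK.2 h.ya
  have hy0 : y ∈ K0 := h3 y hyK h.y3
  have hnorm : ∀ g ∈ K, ∀ t ∈ K0, g * t * g⁻¹ ∈ K0 := fun g hg t ht => conj_mem_of_mem_normalizer (le_normalizer_resOf K hg) ht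
  have hu0 : φ u0 ∈ K0 := by
    have := mul_mem (hnorm _ (hEK hzE) y hy0) (inv_mem hy0)
    rwa [mul_assoc, mul_assoc, ← mul_assoc y, ← map_inv, h.yz.inv, ← map_mul,
      show (z0 * (z0 * u0)⁻¹ : HH false) = u0 by decide +kernel] at this
  have hz0 : φ z0 ∈ K0 := h.yu ▸ mul_mem (mul_mem hy0 hu0) (inv_mem hy0)
  have hV0 : V0.map φ ≤ K0 := by
    rintro _ ⟨v, hv, rfl⟩
    have hv : v ∈ [1, z0, u0, z0 * u0] := hv
    simp only [List.mem_cons, List.not_mem_nil, or_false] at hv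
    rcases hv with rfl | rfl | rfl | rfl
    exacts [by simp, hz0, hu0, map_mul φ z0 u0 ▸ mul_mem hz0 hu0]
  have hz2 : φ z0 * φ z0 = 1 := hE2 _ hzE
  have hz1 : φ z0 ≠ 1 := fun e => absurd (hφ.inj (e.trans φ.map_one.symm)) (by decide +kernel)
  have hC : centralizer ({⟨φ z0, hz0⟩} : Set K0) = (V0.map φ).subgroupOf K0 := by
    ext g
    rw [mem_centralizer_singleton_iff, mem_subgroupOf, Subtype.ext_iff]
    refine ⟨fun e => ?_, ?_⟩
    · obtain ⟨k, hk⟩ := hφ.mem e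
      exact hV ⟨mE.2 ⟨k, hφ.of_cj (hk ▸ mK.1 (resOf_le K g.2)), hk⟩, g.2⟩
    · rintro ⟨v, -, e⟩
      change g.1 * φ z0 = φ z0 * g.1
      rw [← e, ← map_mul, z0_comm, map_mul]
  by_cases hne : ∀ F : Subgroup K0, F.Normal → Cfsg.IsElementaryAbelian 2 F → Nat.card F ≠ 2 ∧ Nat.card F ≠ 4
  · right
    obtain ⟨e⟩ := Cfsg.Agent.S3277.result (G := K0) ⟨φ z0, hz0⟩
      (orderOf_eq_prime (Subtype.ext (by simpa [sq] using hz2)) fun e => hz1 (congrArg Subtype.val e))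
      (by rw [hC, Nat.card_congr (subgroupOfEquivOfLe hV0).toEquiv, card_map_of_injective hφ.inj, card_V0])
      (fun c hc => by
        rw [hC] at hc
        obtain ⟨v, hv, e⟩ := hc
        refine Subtype.ext ?_
        change c.1 ^ 2 = 1
        rw [show c.1 = φ v from e.symm, ← map_pow, (show ∀ v ∈ [1, z0, u0, z0 * u0], (v ^ 2 : HH false) = 1 by decide +kernel) v hv,
          map_one])
      (fun hp => by
        have := (hasNormalPComplement_iff.1 hp).disjoint (hEp.to_le (inf_le_left (b := K0)))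
        rw [resOf_resOf] at this
        exact hz1 (mem_bot.1 (this ▸ ⟨⟨hzE, hz0⟩, hz0⟩))) hne
    obtain ⟨w, ⟨w1, w2, w3⟩, w4⟩ := a5w e (z := ⟨_, hz0⟩) (u := ⟨_, hu0⟩) (y := ⟨y, hy0⟩) (Subtype.ext hz2)
      (fun e => hz1 (congrArg Subtype.val e)) (Subtype.ext (hE2 _ (mE.2 ⟨_, by decide +kernel, rfl⟩)))
      (Subtype.ext (Cj.of u0 (z0_comm _)).comm) (Subtype.ext (by simpa using h.yz.eq)) (Subtype.ext h.yu.eq) (Subtype.ext h.y3)
    have w1' : w.1 * w.1 = 1 := congrArg Subtype.val w1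
    have w2' : w.1 * y * (w.1 * y) = 1 := congrArg Subtype.val w2
    have w3' : w.1 * φ z0 * (w.1 * φ z0) * (w.1 * φ z0) = 1 := congrArg Subtype.val w3
    have key : ∀ c : HH false, Cj φ y c c → φ c * w * (φ c)⁻¹ ∈ K0 → Cj φ w c c := fun c hc hm => by
      have e1 : φ c * y * (φ c)⁻¹ = y := by rw [← hc.comm, mul_inv_cancel_right]
      have e2 : φ c * φ z0 * (φ c)⁻¹ = φ z0 := Cj.of c (z0_comm c)
      have := congrArg Subtype.val (w4 ⟨_, hm⟩ (Subtype.ext ?_) (Subtype.ext ?_) (Subtype.ext ?_))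
      · exact Cj.of_eq (mul_inv_eq_iff_eq_mul.1 this).symm
      · change φ c * w * (φ c)⁻¹ * (φ c * w * (φ c)⁻¹) = 1
        rw [conj_mul, w1']; simp
      · change φ c * w * (φ c)⁻¹ * y * (φ c * w * (φ c)⁻¹ * y) = 1
        rw [← e1, conj_mul, conj_mul, w2']; simp
      · change φ c * w * (φ c)⁻¹ * φ z0 * (φ c * w * (φ c)⁻¹ * φ z0) * (φ c * w * (φ c)⁻¹ * φ z0) = 1
        rw [← e2, conj_mul, conj_mul, conj_mul, w3']; simp
    have wa : Cj φ w a0 a0 := mK.1 (resOf_le K w.2)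
    have wa1 : Cj φ w a1 a1 := key a1 h.ya1 (hnorm _ (mK.2 (Cj.of _ (by decide +kernel))) _ w.2)
    have wa2 : Cj φ w a2 a2 := (wa.mul wa1).cast (by decide +kernel) (by decide +kernel)
    have hx : φ x0 * (w * φ z0) * (φ x0)⁻¹ ∈ K0 := by
      refine h3 _ (mK.2 ?_) (by rw [conj_mul, conj_mul, w3']; simp)
      have e : Cj φ (φ x0) a2 a0 := Cj.of _ (by decide +kernel)
      exact (e.symm.comp ((Cj.of z0 (z0_comm _).symm).comp wa2)).comp e |>.cast rfl rfl |> fun t => by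
        simpa only [mul_assoc] using t
    refine ⟨w, w1', w2', w3', wa, key x0 h.yx ?_⟩
    rw [← conj_mul, show φ x0 * φ z0 * (φ x0)⁻¹ = φ z0 from Cj.of _ (z0_comm _)] at hx
    exact (mul_mem_cancel_right hz0).1 hx
  · left
    push Not at hne
    obtain ⟨F, hF, hFe, hF4⟩ := hne
    have hFp : IsPGroup 2 F := fun g => ⟨1, Subtype.ext (by simpa using hFe.2 g g.2)⟩
    have hF' : IsPGroup 2 (F.map K0.subtype) := hFp.map _
    have hFn : ∀ g ∈ K0, ∀ t ∈ F.map K0.subtype, g * t * g⁻¹ ∈ F.map K0.subtype := by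
      rintro g hg _ ⟨t, ht, rfl⟩
      exact ⟨_, hF.conj_mem t ht ⟨g, hg⟩, rfl⟩
    have hFV : F.map K0.subtype ≤ V0.map φ := (hS.inf_resOf.le_of_le_normalizer hF' (map_subtype_le F)
      fun g hg => mem_normalizer_of_cj_le (cj_le_iff.2 (hFn g hg.2))).trans hV
    have hzF : φ z0 ∈ F.map K0.subtype := by
      obtain ⟨t, ht, ht1⟩ : ∃ t ∈ F, t ≠ 1 := by
        by_contra hc
        push Not at hc
        rw [(eq_bot_iff_forall F).2 hc, card_bot] at hF4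
        exact absurd (hF4 (by norm_num)) (by norm_num)
      have ht' : t.1 ∈ F.map K0.subtype := ⟨t, ht, rfl⟩
      obtain ⟨v, hv, e⟩ := hFV ht'
      have hv : v ∈ [1, z0, u0, z0 * u0] := hv
      simp only [List.mem_cons, List.not_mem_nil, or_false] at hv
      rw [← e] at ht'
      rcases hv with rfl | rfl | rfl | rfl
      · exact absurd (Subtype.ext (e.symm.trans φ.map_one)) ht1
      · exact ht'
      · exact h.yu ▸ hFn y hy0 _ ht'
      · exact h.yz.symm ▸ hFn _ (inv_mem hy0) _ ht'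
    intro g hg
    obtain ⟨w, hw, t, ht, rfl⟩ := hS.exists_resOf_mul (mK.2 hg)
    refine hN _ (mK.2 hg) ?_
    obtain ⟨k, hk, rfl⟩ := mE.1 ht
    obtain ⟨v, hv, e⟩ := hFV (hFn w hw _ hzF)
    have : w * φ k * φ z0 * (w * φ k)⁻¹ = φ v := (Cj.of k (z0_comm k)).comp e.symm
    rw [this]
    exact mE.2 ⟨v, (show ∀ v ∈ [1, z0, u0, z0 * u0], (v * a0 : HH false) = a0 * v by decide +kernel) v hv, rfl⟩

end Cfsg.Lib.JT
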