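import Cfsg.Agent.Lib.JT.S1
import Cfsg.Agent.Lib.JT.C1
import Cfsg.Agent.S0213

/-! # Type `J₂`: the order formula excludes `|C(a)| = 48` -/

set_option autoImplicit false
set_option maxRecDepth 100000
set_option linter.dupNamespace false

namespace Cfsg.Lib.JT

open Subgroup

def L1 : List (HH false) := [⟨0, 0⟩, ⟨1, 0⟩, ⟨2, 0⟩, ⟨3, 0⟩, ⟨4, 0⟩, ⟨5, 0⟩, ⟨8, 0⟩, ⟨9, 0⟩, ⟨16, 0⟩, ⟨17, 0⟩, ⟨30, 0⟩, ⟨31, 0⟩]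
def L2 : List (HH false) := [⟨0, 0⟩, ⟨1, 0⟩, ⟨2, 0⟩, ⟨3, 0⟩, ⟨4, 0⟩, ⟨5, 0⟩, ⟨8, 0⟩, ⟨9, 0⟩, ⟨16, 0⟩, ⟨17, 0⟩, ⟨30, 0⟩, ⟨31, 0⟩, ⟨0, 3⟩, ⟨1, 3⟩, ⟨2, 3⟩, ⟨3, 3⟩, ⟨12, 3⟩, ⟨13, 3⟩, ⟨14, 3⟩, ⟨15, 3⟩, ⟨0, 8⟩, ⟨1, 8⟩, ⟨2, 8⟩, ⟨3, 8⟩, ⟨20, 8⟩, ⟨21, 8⟩, ⟨22, 8⟩, ⟨23, 8⟩, ⟨0, 11⟩, ⟨1, 11⟩, ⟨2, 11⟩, ⟨3, 11⟩, ⟨24, 11⟩, ⟨25, 11⟩, ⟨26, 11⟩, ⟨27, 11⟩, ⟨0, 12⟩, ⟨1, 12⟩, ⟨6, 12⟩, ⟨7, 12⟩, ⟨8, 12⟩, ⟨9, 12⟩, ⟨14, 12⟩, ⟨15, 12⟩, ⟨0, 13⟩, ⟨1, 13⟩, ⟨6, 13⟩, ⟨7, 13⟩, ⟨24, 13⟩, ⟨25, 13⟩, ⟨30, 13⟩, ⟨31, 13⟩, ⟨0, 14⟩, ⟨1, 14⟩, ⟨6, 14⟩, ⟨7, 14⟩, ⟨16, 14⟩, ⟨17, 14⟩, ⟨22, 14⟩, ⟨23, 14⟩, ⟨0, 27⟩, ⟨1, 27⟩, ⟨4, 27⟩, ⟨5, 27⟩, ⟨10, 27⟩, ⟨11, 27⟩, ⟨14, 27⟩, ⟨15, 27⟩, ⟨0, 30⟩, ⟨1, 30⟩, ⟨10, 30⟩, ⟨11, 30⟩, ⟨20, 30⟩, ⟨21, 30⟩, ⟨30, 30⟩, ⟨31, 30⟩, ⟨0, 33⟩, ⟨1, 33⟩, ⟨10, 33⟩, ⟨11, 33⟩, ⟨16, 33⟩, ⟨17, 33⟩, ⟨26, 33⟩, ⟨27, 33⟩,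 ⟨0, 41⟩, ⟨1, 41⟩, ⟨4, 41⟩, ⟨5, 41⟩, ⟨18, 41⟩, ⟨19, 41⟩, ⟨22, 41⟩, ⟨23, 41⟩, ⟨0, 43⟩, ⟨1, 43⟩, ⟨12, 43⟩, ⟨13, 43⟩, ⟨18, 43⟩, ⟨19, 43⟩, ⟨30, 43⟩, ⟨31, 43⟩, ⟨0, 47⟩, ⟨1, 47⟩, ⟨8, 47⟩, ⟨9, 47⟩, ⟨18, 47⟩, ⟨19, 47⟩, ⟨26, 47⟩, ⟨27, 47⟩, ⟨0, 53⟩, ⟨1, 53⟩, ⟨4, 53⟩, ⟨5, 53⟩, ⟨24, 53⟩, ⟨25, 53⟩, ⟨28, 53⟩, ⟨29, 53⟩, ⟨0, 55⟩, ⟨1, 55⟩, ⟨12, 55⟩, ⟨13, 55⟩, ⟨16, 55⟩, ⟨17, 55⟩, ⟨28, 55⟩, ⟨29, 55⟩, ⟨0, 59⟩, ⟨1, 59⟩, ⟨8, 59⟩, ⟨9, 59⟩, ⟨20, 59⟩, ⟨21, 59⟩, ⟨28, 59⟩, ⟨29, 59⟩]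
def L3 : List (HH false) := [⟨0, 0⟩, ⟨1, 0⟩, ⟨12, 0⟩, ⟨13, 0⟩, ⟨20, 0⟩, ⟨21, 0⟩, ⟨24, 0⟩, ⟨25, 0⟩, ⟨0, 4⟩, ⟨1, 4⟩, ⟨12, 4⟩, ⟨13, 4⟩, ⟨20, 4⟩, ⟨21, 4⟩, ⟨24, 4⟩, ⟨25, 4⟩, ⟨0, 6⟩, ⟨1, 6⟩, ⟨12, 6⟩, ⟨13, 6⟩, ⟨20, 6⟩, ⟨21, 6⟩, ⟨24, 6⟩, ⟨25, 6⟩]
def L4 : List (HH false) := [⟨0, 0⟩, ⟨1, 0⟩, ⟨2, 0⟩, ⟨3, 0⟩, ⟨0, 3⟩, ⟨1, 3⟩, ⟨2, 3⟩, ⟨3, 3⟩, ⟨0, 8⟩, ⟨1, 8⟩, ⟨2, 8⟩, ⟨3, 8⟩, ⟨0, 11⟩, ⟨1, 11⟩, ⟨2, 11⟩, ⟨3, 11⟩]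

theorem mem_L1 : ∀ k : HH false, k * k = 1 → k.p = 0 → k ∈ L1 := by decide +kernel
theorem mem_L2 : ∀ k : HH false, k * k = 1 → k ∈ L2 := by decide +kernel
theorem mem_L3 : ∀ k : HH false, k * u0 = u0 * k → k * s0 = s0 * k → k ∈ L3 := by decide +kernel
theorem mem_L4 : ∀ k : HH false, k * a0 = a0 * k → k ∈ L4 := by decide +kernel

theorem card_le_of_list {α β : Type*} (p : α → Prop) (L : List β) (f : β → α) (h : ∀ x, p x → ∃ y ∈ L, f y = x) :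
    Nat.card {x // p x} ≤ L.length := by
  classical
  calc _ ≤ Nat.card (L.map f).toFinset := Nat.card_le_card_of_injective
        (fun x => ⟨x.1, by obtain ⟨y, hy, e⟩ := h x.1 x.2; simpa using ⟨y, hy, e⟩⟩)
        fun x y e => Subtype.ext (by simpa using e)
    _ ≤ _ := by rw [Nat.card_eq_finsetCard]; simpa using (L.map f).toFinset_card_le

theorem comm_of_mem_zpowers {G : Type*} [Group G] {s t z : G} (hs : s * s = 1) (ht : t * t = 1) (hz : z * z = 1)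
    (h : z ∈ zpowers (s * t)) : s * z = z * s ∧ t * z = z * t := by
  obtain ⟨n, rfl⟩ := h
  have e1 : s * (s * t) * s⁻¹ = (s * t)⁻¹ := by
    rw [← mul_assoc, hs, one_mul, mul_inv_rev, inv_eq_of_mul_eq_one_left ht]
  have e2 : t * (s * t) * t⁻¹ = (s * t)⁻¹ := by
    rw [← mul_assoc, mul_inv_cancel_right, mul_inv_rev, inv_eq_of_mul_eq_one_left ht, inv_eq_of_mul_eq_one_left hs]
  have e : ∀ g, g * (s * t) * g⁻¹ = (s * t)⁻¹ → g * (s * t) ^ n = (s * t) ^ n * g := fun g h => by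
    rw [← mul_inv_eq_iff_eq_mul, ← conj_zpow, h, inv_zpow, inv_eq_of_mul_eq_one_left hz]
  exact ⟨e s e1, e t e2⟩

variable {G : Type*} [Group G] {φ : HH false →* G} [Finite G]

omit [Finite G] in
theorem JT.card_H (hφ : JT φ) : Nat.card (centralizer ({φ z0} : Set G)) = 1920 := by
  rw [← hφ.cent, ← card_HH false]; exact (Nat.card_congr (MonoidHom.ofInjective hφ.inj).toEquiv).symm

theorem JT.card_ge (hφ : JT φ) {y : G} (h : Y2 φ y) : 153600 ≤ Nat.card G := by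
  set A := centralizer ({φ z0} : Set G)
  set B := centralizer ({y * φ s0 * y⁻¹} : Set G)
  have hA : Nat.card A = 1920 := hφ.card_H
  have hB : Nat.card B = 1920 := by
    obtain ⟨g, hg⟩ := isConj_iff.1 ((hφ.fus.trans (Cj.of (l := s0) n0 (by decide +kernel)).isConj).trans
      (isConj_iff.2 ⟨y, rfl⟩))
    rw [← hA, ← Transfer.card_cj g A]
    congr 2
    ext t
    rw [Transfer.mem_cj, mem_centralizer_singleton_iff, mem_centralizer_singleton_iff, ← hg]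
    exact ⟨fun e => by
      calc _ = g⁻¹ * (t * (g * φ z0 * g⁻¹)) * g := by group
        _ = _ := by rw [e]; group, fun e => by
      calc _ = g * (g⁻¹ * t * g * φ z0) * g⁻¹ := by group
        _ = _ := by rw [e]; group⟩
  have hC : Nat.card (A ⊓ B : Subgroup G) ≤ 24 := card_le_of_list (· ∈ A ⊓ B) L3 (fun k => y * φ k * y⁻¹) fun t ⟨t1, t2⟩ => by
    have e1 : Cj φ (y⁻¹ * (t * y)) u0 u0 := (h.yu.comp (Cj.of_eq (mem_centralizer_singleton_iff.1 t1))).comp h.yu.symm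
    have e2 : Cj φ (y⁻¹ * (t * y)) s0 s0 := Cj.of_eq (by
      have := mem_centralizer_singleton_iff.1 t2
      calc _ = y⁻¹ * (t * (y * φ s0 * y⁻¹)) * y := by group
        _ = _ := by rw [this]; group)
    obtain ⟨k, hk⟩ := hφ.mem' (((e1.mul e2).mul (e1.mul e2)).cast (by decide +kernel) (by decide +kernel))
    exact ⟨k, mem_L3 k (hφ.of_cj (hk ▸ e1)) (hφ.of_cj (hk ▸ e2)), by rw [hk]; group⟩
  have h1 := Transfer.card_mul_relIndex (inf_le_right : A ⊓ B ≤ B)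
  rw [inf_relIndex_right, hB] at h1
  have h2 : A.relIndex B ≤ A.index := by
    rw [← relIndex_top_right]; exact relIndex_le_of_le_right le_top (by rw [relIndex_top_right]; exact A.index_ne_zero_of_finite)
  have h3 := A.card_mul_index
  rw [hA] at h3
  nlinarith

theorem JT.ex_wI (hφ : JT φ) (hna : ¬ IsConj (φ z0) (φ a0)) {y : G} (h : Y2 φ y) :
    ∃ w, w * w = 1 ∧ w * y * (w * y) = 1 ∧ w * φ z0 * (w * φ z0) * (w * φ z0) = 1 ∧ Cj φ w a0 a0 ∧ Cj φ w x0 x0 := by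
  refine (hφ.caseI_dich hna h).resolve_left fun hK => ?_
  have sq : ∀ {k : HH false} {t : G}, k * k = 1 → IsConj (φ k) t → t * t = 1 := fun hk ht => by
    obtain ⟨g, rfl⟩ := isConj_iff.1 ht
    rw [conj_mul, ← map_mul, hk]; simp
  have z2 : (z0 * z0 : HH false) = 1 := by decide +kernel
  have a2 : (a0 * a0 : HH false) = 1 := by decide +kernel
  have hf := Cfsg.Agent.S0213.result (φ z0) (φ a0) hφ.oz (orderOf_eq_prime (by rw [_root_.sq, ← map_mul, a2, map_one])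
    fun e => absurd (hφ.inj (e.trans φ.map_one.symm)) (by decide +kernel)) hna fun t ht => by
      obtain ⟨g, -, e | e | e | e⟩ := hφ.inv_into le_top (mem_top t) (by rw [← _root_.sq, ← ht, pow_orderOf_eq_one])
      · simp [e] at ht
      · exact .inl (isConj_iff.2 ⟨g, e⟩).symm
      · exact .inl (hφ.fus.trans (isConj_iff.2 ⟨g, e⟩).symm)
      · exact .inr (isConj_iff.2 ⟨g, e⟩).symm
  have h1 : Nat.card (centralizer ({φ a0} : Set G)) ≤ 48 := card_le_of_list (· ∈ centralizer {φ a0}) ([1, y, y⁻¹] ×ˢ L4)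
    (fun t => t.1 * φ t.2) fun g hg => by
      obtain ⟨k, hk, e | e | e⟩ := hK g (Cj.of_eq (mem_centralizer_singleton_iff.1 hg))
      exacts [⟨(1, k), List.pair_mem_product.2 ⟨by simp, mem_L4 k hk⟩, by simp [e]⟩,
        ⟨(y, k), List.pair_mem_product.2 ⟨by simp, mem_L4 k hk⟩, e.symm⟩,
        ⟨(y⁻¹, k), List.pair_mem_product.2 ⟨by simp, mem_L4 k hk⟩, e.symm⟩]
  have h2 : Nat.card {p : G × G // IsConj (φ z0) p.1 ∧ IsConj (φ a0) p.2 ∧ φ z0 ∈ zpowers (p.1 * p.2)} ≤ 1584 :=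
    card_le_of_list _ (L1 ×ˢ L2) (fun t => (φ t.1, φ t.2)) fun ⟨s, t⟩ ⟨e1, e2, e3⟩ => by
      obtain ⟨c1, c2⟩ := comm_of_mem_zpowers (sq z2 e1) (sq a2 e2) (sq z2 (IsConj.refl _)) e3
      obtain ⟨k, rfl⟩ := hφ.mem c1
      obtain ⟨l, rfl⟩ := hφ.mem c2
      have k2 : k * k = 1 := hφ.inj (by rw [map_mul, map_one]; exact sq z2 e1)
      refine ⟨(k, l), List.pair_mem_product.2 ⟨mem_L1 k k2 ?_, mem_L2 l (hφ.inj (by rw [map_mul, map_one]; exact sq a2 e2))⟩, rfl⟩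
      rcases inv_cls k k2 with rfl | rfl | ⟨c, rfl | rfl⟩
      exacts [rfl, rfl, (Q0_normal _).conj_mem u0 rfl c, absurd (e1.trans (Cj.self c a0).isConj.symm) hna]
  have hE : ∀ t : G, t * t = 1 → t * φ a0 = φ a0 * t → ∃ k, k * a0 = a0 * k ∧ t = φ k := fun t t2 ht => by
    have key : ∀ l l', Cj φ t z0 l → Cj φ t l l' → l' = z0 := fun l l' e1 e2 =>
      (e1.comp e2).uniq hφ (by rw [t2]; simp [Cj])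
    obtain ⟨k, hk, e | e | e⟩ := hK t (Cj.of_eq ht)
    · exact ⟨k, hk, e⟩
    all_goals
      have k1 : Cj φ (φ k) z0 z0 := Cj.of k (z0_comm k)
      have k2 : Cj φ (φ k) u0 u0 := Cj.of k (hφ.inj (by
        have := sq (cent_a_sq (k * u0) (by rw [mul_assoc, show (u0 * a0 : HH false) = a0 * u0 by decide +kernel, ← mul_assoc, hk, mul_assoc])) (IsConj.refl _)
        have e1 := eq_inv_of_mul_eq_one_left this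
        rwa [← map_inv, mul_inv_rev, ← eq_inv_of_mul_eq_one_left (cent_a_sq k hk),
          show (u0⁻¹ : HH false) = u0 by decide +kernel] at e1))
    · exact absurd (key _ _ (e ▸ k1.comp h.yz) (e ▸ (k1.mul k2).comp h.yzu)) (by decide +kernel)
    · exact absurd (key _ _ (e ▸ k1.comp h.yu.symm) (e ▸ k2.comp h.yzu.symm)) (by decide +kernel)
  have h3 : Nat.card {p : G × G // IsConj (φ z0) p.1 ∧ IsConj (φ a0) p.2 ∧ φ a0 ∈ zpowers (p.1 * p.2)} ≤ 16 :=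
    card_le_of_list _ L4 (fun t => (φ t, φ t * φ a0)) fun ⟨s, t⟩ ⟨e1, e2, e3⟩ => by
      obtain ⟨c1, c2⟩ := comm_of_mem_zpowers (sq z2 e1) (sq a2 e2) (sq a2 (IsConj.refl _)) e3
      obtain ⟨k, hk, rfl⟩ := hE s (sq z2 e1) c1
      obtain ⟨l, hl, rfl⟩ := hE t (sq a2 e2) c2
      have h4 : φ k * φ l * (φ k * φ l) = 1 := by
        rw [← map_mul]; exact sq (cent_a_sq _ (by rw [mul_assoc, hl, ← mul_assoc, hk, mul_assoc])) (IsConj.refl _)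
      refine ⟨k, mem_L4 k hk, Prod.ext rfl ?_⟩
      obtain ⟨n, hn⟩ := e3
      have hn : (φ k * φ l) ^ n = φ a0 := hn
      obtain ⟨j, rfl | rfl⟩ := n.even_or_odd'
      · rw [zpow_mul, zpow_two, h4, one_zpow] at hn
        exact absurd (hφ.inj (hn.symm.trans φ.map_one.symm)) (by decide +kernel)
      · rw [zpow_add, zpow_mul, zpow_two, h4, one_zpow, one_mul, zpow_one] at hn
        change φ k * φ a0 = φ l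
        rw [← hn, ← mul_assoc, sq z2 e1, one_mul]
  have h4 := hφ.card_ge h
  rw [hφ.card_H] at hf
  have := Nat.mul_le_mul h1 h2
  omega

end Cfsg.Lib.JT
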