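import Cfsg.Agent.Lib.JT.C1

/-! # Type `J₃`: the involution `w` interchanging `z` and `a` -/

set_option autoImplicit false
set_option maxRecDepth 100000
set_option linter.dupNamespace false

namespace Cfsg.Lib.JT

open Subgroup

def W3 : ℕ := (nat_lit 0x1000000000000000000000000000000000000000000000000000000000000000000000000000000000000000060000000000000000000000000000000000000000000000000000000000000000000000000000000000000000000000000000000000000000000000000000000000000000000000000000000000000000000000000000001000000000000000000000000000000000000000000000000000000000000000000000000000000000000000000000000000000000000000000000000000000000000000000000000000000000000000000000000000000006000000000000000000000000000000000000000000000000000000000000000000000000000000000000000000000000000000000000000000000000000000000000000000000000000000000000000000000000000000000000000000000000000000000000000000000000000000000000000000000000000000000000000000000016000000000000000000000000000000000000000000000000000000000000000000000000000000000000001600000000000000000000000000000000000000000000000000000000000000000000000000000000000000000)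

theorem three_a : ∀ l : HH false, l * l * l = 1 → a0 * (l * a0 * l⁻¹) * (l⁻¹ * a0 * l) = 1 →
    wt W3 l * a0 = a0 * wt W3 l ∧ (wt W3 l * l * (wt W3 l)⁻¹ = x0 ∨ wt W3 l * l * (wt W3 l)⁻¹ = x0⁻¹) := by decide +kernel
theorem cent_a_comm : ∀ k : HH false, k * a0 = a0 * k → k * u0 = u0 * k ∧ k * a1 = a1 * k ∧ k * a2 = a2 * k := by decide +kernel

variable {G : Type*} [Group G] {φ : HH false →* G}

theorem M2.sms {m : G} (h : M2 φ m) : φ s0 * m * φ s0 = m⁻¹ := by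
  rw [eq_inv_iff_mul_eq_one]
  calc _ = m⁻¹ * (m * φ s0) ^ 2 * m := by simp only [sq, mul_assoc, inv_mul_cancel_left]
    _ = 1 := by rw [h.ms]; group

theorem M2.yb {m : G} (h : M2 φ m) : Cj φ (m * φ x0⁻¹) b0 b1 := by
  have hs : φ s0 * φ s0 = 1 := by rw [← map_mul, show (s0 * s0 : HH false) = 1 by decide +kernel, map_one]
  have h1 : Cj φ m a2 a0 := ((h.mx.inv.mul h.ma).mul h.mx).cast (by decide +kernel) (by decide +kernel)
  have h2 := ((Cj.of (k := b0) (l := a0) s0 (by decide +kernel)).comp h1.symm).comp (Cj.of (l := b2) s0 (by decide +kernel))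
  rw [← h.sms, show φ s0 * (φ s0 * m * φ s0 * φ s0) = m by
    rw [mul_assoc _ (φ s0) (φ s0), hs, mul_one, ← mul_assoc, hs, one_mul]] at h2
  exact (Cj.of (l := b2) _ (by decide +kernel)).comp (((h.mx.inv.mul h2).mul h.mx).cast (by decide +kernel) (by decide +kernel))

theorem JT.ex_w0 (hφ : JT φ) (ha : IsConj (φ z0) (φ a0)) {y : G} (h : Y2 φ y) :
    ∃ w, Cj φ w z0 a0 ∧ Cj φ w a0 z0 ∧ (w * φ x0 * w⁻¹ = y ∨ w * φ x0 * w⁻¹ = y⁻¹) := by
  obtain ⟨g, g1, g2⟩ := hφ.swap_a ha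
  obtain ⟨l, hl⟩ := hφ.mem' ((g1.comp h.ya).comp g1.symm)
  obtain ⟨t1, h1⟩ := hφ.ex (k := z0 * u0) g1.symm (by decide +kernel)
  obtain ⟨t2, h2⟩ := hφ.ex (k := u0) g1.symm (by decide +kernel)
  have e1 : Cj φ (φ l) a0 t1 := hl ▸ (g2.comp h.yz).comp h1
  have e2 : Cj φ (φ l)⁻¹ a0 t2 := by
    have := (g2.comp h.yu.symm).comp h2
    rwa [show g⁻¹ * (y⁻¹ * g) = (φ l)⁻¹ by rw [hl]; group] at this
  obtain ⟨c1, c2⟩ := three_a l (hφ.inj (by
      rw [map_mul, map_mul, hl, map_one]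
      calc _ = g⁻¹ * (y * y * y) * g := by group
        _ = 1 := by rw [h.y3]; group)) (by
      rw [(Cj.self l a0).uniq hφ e1, show l⁻¹ * a0 * l = t2 from ((Cj.self l⁻¹ a0).cast rfl (by rw [inv_inv])).uniq hφ (map_inv φ l ▸ e2)]
      exact ((g2.symm.mul h1).mul h2).uniq hφ ((Cj.one _).cast (by decide +kernel) rfl))
  set e := wt W3 l
  have k : g * (φ e)⁻¹ * φ (e * l * e⁻¹) * (g * (φ e)⁻¹)⁻¹ = y := by rw [map_mul, map_mul, map_inv, hl]; group
  refine ⟨g * (φ e)⁻¹, (Cj.of e (z0_comm e)).symm.comp g1, (Cj.of e c1).symm.comp g2, ?_⟩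
  rcases c2 with c | c <;> rw [c] at k
  · exact .inl k
  · right; rw [← k, map_inv]; group

theorem JT.ex_w1 (hφ : JT φ) (ha : IsConj (φ z0) (φ a0)) {y : G} (h : Y2 φ y) :
    ∃ w, w * w = 1 ∧ Cj φ w z0 a0 ∧ (w * φ x0 * w⁻¹ = y ∨ w * φ x0 * w⁻¹ = y⁻¹) := by
  obtain ⟨w, h1, h2, h3⟩ := hφ.ex_w0 ha h
  obtain ⟨e, he⟩ := hφ.mem' (h1.comp h2)
  have hea : e * a0 = a0 * e := hφ.of_cj (he ▸ h2.comp h1)
  obtain ⟨c1, c2, c3⟩ := cent_a_comm e hea
  have hc : Cj φ w e e := by rw [Cj, he]; group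
  -- the action of `w` on `E₁`
  obtain ⟨t, t', ht, ht', htt⟩ : ∃ t t', Cj φ w u0 t ∧ Cj φ w a1 t' ∧ ((t = a2 ∧ t' = z0 * u0) ∨ (t = a1 ∧ t' = u0)) := by
    have key : ∀ (y' : G) (t' : HH false), w * φ x0 * w⁻¹ = y' → Cj φ y' z0 t' → Cj φ w a1 t' := fun y' t' e1 e2 => by
      have : Cj φ (φ x0) a0 a1 := Cj.of _ (by decide +kernel)
      rw [Cj, ← this, ← e2, ← e1, ← h2]; group
    rcases h3 with e1 | e1
    · have k1 := key y _ e1 h.yz
      have k2 : Cj φ w (z0 * u0) a1 := by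
        have := (k1.symm.comp ((Cj.of e c2).cast rfl rfl))
        rwa [he, mul_inv_cancel_right] at this
      exact ⟨_, _, (h1.mul k2).cast (by decide +kernel) (by decide +kernel), k1, .inl ⟨rfl, rfl⟩⟩
    · have k1 := key y⁻¹ _ e1 h.yu.symm
      have k2 : Cj φ w u0 a1 := by
        have := (k1.symm.comp ((Cj.of e c2).cast rfl rfl))
        rwa [he, mul_inv_cancel_right] at this
      exact ⟨_, _, k2, k1, .inr ⟨rfl, rfl⟩⟩
  have hV : ∀ v ∈ [1, z0, u0, z0 * u0], ∃ v' ∈ [1, a0, a1, a2], Cj φ w v v' := fun v hv => by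
    simp only [List.mem_cons, List.not_mem_nil, or_false] at hv
    rcases htt with ⟨rfl, rfl⟩ | ⟨rfl, rfl⟩ <;> rcases hv with rfl | rfl | rfl | rfl
    exacts [⟨1, by simp, Cj.one _⟩, ⟨_, by simp, h1⟩, ⟨_, by simp, ht⟩, ⟨a1, by simp, (h1.mul ht).cast rfl (by decide +kernel)⟩,
      ⟨1, by simp, Cj.one _⟩, ⟨_, by simp, h1⟩, ⟨_, by simp, ht⟩, ⟨a2, by simp, (h1.mul ht).cast rfl (by decide +kernel)⟩]
  have hU : ∀ v ∈ [1, a0, a1, a2], ∃ v' ∈ [1, z0, u0, z0 * u0], Cj φ w v v' := fun v hv => by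
    simp only [List.mem_cons, List.not_mem_nil, or_false] at hv
    rcases htt with ⟨rfl, rfl⟩ | ⟨rfl, rfl⟩ <;> rcases hv with rfl | rfl | rfl | rfl
    exacts [⟨1, by simp, Cj.one _⟩, ⟨_, by simp, h2⟩, ⟨_, by simp, ht'⟩,
      ⟨u0, by simp, (h2.mul ht').cast (by decide +kernel) (by decide +kernel)⟩,
      ⟨1, by simp, Cj.one _⟩, ⟨_, by simp, h2⟩, ⟨_, by simp, ht'⟩, ⟨z0 * u0, by simp, (h2.mul ht').cast (by decide +kernel) rfl⟩]
  obtain ⟨v, hv, s, hs, rfl⟩ := cent_a_dec e hea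
  obtain ⟨v', hv', k1⟩ := hV v hv
  obtain ⟨s', hs', k2⟩ := hU s hs
  obtain ⟨f1, f2, f3⟩ := (show ∀ v ∈ [1, z0, u0, z0 * u0], ∀ s ∈ [1, a0, a1, a2], ∀ v' ∈ [1, a0, a1, a2],
    ∀ s' ∈ [1, z0, u0, z0 * u0], (v * s : HH false) = v' * s' → v' * (v * s) * v = 1 ∧ v * z0 = z0 * v ∧ v * x0 = x0 * v by
      decide +kernel) v hv s hs v' hv' s' hs' (hc.uniq hφ (k1.mul k2))
  refine ⟨w * φ v, ?_, (Cj.of v f2).comp h1, ?_⟩
  · rw [← φ.map_one, ← f1, map_mul, map_mul, he, ← k1]; group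
  · rwa [show w * φ v * φ x0 * (w * φ v)⁻¹ = w * φ x0 * w⁻¹ by rw [mul_assoc w, (Cj.of v f3 : Cj φ _ x0 x0).comm]; group]

theorem JT.ex_w2 (hφ : JT φ) (ha : IsConj (φ z0) (φ a0)) {y : G} (h : Y2 φ y) (hb : Cj φ y b0 b1) :
    ∃ w, w * w = 1 ∧ Cj φ w z0 a0 ∧ w * φ x0 * w⁻¹ = y⁻¹ ∧ (w * φ b0) ^ 3 = 1 := by
  obtain ⟨w, h0, h1, h3⟩ := hφ.ex_w1 ha h
  have wi : w⁻¹ = w := inv_eq_of_mul_eq_one_left h0
  have sy : ∀ {k l}, Cj φ w k l → Cj φ w l k := fun h => wi ▸ h.symm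
  have h2 := sy h1
  have key : ∀ (y' : G) (t' : HH false), w * φ x0 * w⁻¹ = y' → Cj φ y' z0 t' → Cj φ w a1 t' := fun y' t' e1 e2 => by
    have : Cj φ (φ x0) a0 a1 := Cj.of _ (by decide +kernel)
    rw [Cj, ← this, ← e2, ← e1, ← h2]; group
  have d1 : Cj φ (w * φ b0) z0 a0 := (Cj.of _ (z0_comm _)).comp h1
  have d2 : Cj φ (w * φ b0) a0 (z0 * a0) := (Cj.of (l := a0 * z0) _ (by decide +kernel)).comp (h2.mul h1)
  have d3 : Cj φ (w * φ b0) (z0 * a0) z0 := (d1.mul d2).cast rfl (by decide +kernel)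
  obtain ⟨k, hk⟩ := hφ.mem' ((d1.comp d2).comp d3)
  have hka : k * a0 = a0 * k := hφ.of_cj (hk ▸ (d2.comp d3).comp d1)
  rcases h3 with e1 | e1
  · exfalso
    have k1 := key y _ e1 h.yz
    have k2 : Cj φ w u0 a2 := (h1.mul (sy k1)).cast (by decide +kernel) (by decide +kernel)
    have n1 : Cj φ (w * φ b0) u0 a2 := (Cj.of _ (by decide +kernel)).comp k2
    have n2 : Cj φ (w * φ b0) a2 (u0 * a1) := (Cj.of (l := a2 * (z0 * u0)) _ (by decide +kernel)).comp ((sy k2).mul (sy k1))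
    have n3 : Cj φ (w * φ b0) (u0 * a1) (z0 * u0) := (Cj.of _ (by decide +kernel)).comp k1
    exact absurd ((hk ▸ (n1.comp n2).comp n3 : Cj φ (φ k) _ _).uniq hφ (Cj.of k (cent_a_comm k hka).1)) (by decide +kernel)
  · refine ⟨w, h0, h1, e1, ?_⟩
    have xy : y * φ x0 = φ x0 * y := h.yx.comm
    have c1 : Commute (y⁻¹ * φ x0) w := by
      have e2 : w * y⁻¹ * w⁻¹ = φ x0 := by rw [← e1, wi, ← mul_assoc, ← mul_assoc, h0, mul_assoc, h0]; simp
      have : w * (y⁻¹ * φ x0) * w⁻¹ = y⁻¹ * φ x0 := by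
        rw [← conj_mul, e2, e1]; exact ((show Commute y (φ x0) from xy).inv_left).symm
      exact (mul_inv_eq_iff_eq_mul.1 this).symm
    have c2 : Commute (y⁻¹ * φ x0) (φ b0) := ((Cj.of (l := b1) x0 (by decide +kernel)).comp hb.symm).comm
    have c3 : Cj φ (y⁻¹ * φ x0) k k := Cj.of_eq (hk ▸ (c1.mul_right c2).mul_right ((c1.mul_right c2).mul_right (c1.mul_right c2)))
    rw [pow_three, ← hk]
    obtain ⟨v, hv, t, ht, rfl⟩ := cent_a_dec k hka
    have hx : Cj φ (φ x0) (v * t) (x0 * (v * t) * x0⁻¹) := Cj.self _ _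
    have hy : Cj φ y (v * t) (x0 * (v * t) * x0⁻¹) := by
      have := (c3.symm.comp hx)
      rwa [show φ x0 * (y⁻¹ * φ x0)⁻¹ = y by group] at this
    have h3 : Cj φ y t t := by
      simp only [List.mem_cons, List.not_mem_nil, or_false] at ht
      rcases ht with rfl | rfl | rfl | rfl
      exacts [Cj.one _, h.ya, h.ya1, h.ya2]
    have fin : ∀ v', Cj φ y v v' → (v = 1 ∨ v' ≠ v) → v' ∈ [1, z0, u0, z0 * u0] → φ (v * t) = 1 := fun v' e1 e2 e3 => by
      rw [(show ∀ v ∈ [1, z0, u0, z0 * u0], ∀ t ∈ [1, a0, a1, a2], ∀ v' ∈ [1, z0, u0, z0 * u0], (v = 1 ∨ v' ≠ v) →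
        (x0 * (v * t) * x0⁻¹ : HH false) = v' * t → v * t = 1 by decide +kernel) v hv t ht v' e3 e2 (hy.uniq hφ (e1.mul h3)), map_one]
    simp only [List.mem_cons, List.not_mem_nil, or_false] at hv
    rcases hv with rfl | rfl | rfl | rfl
    exacts [fin 1 (Cj.one _) (.inl rfl) (by simp), fin _ h.yz (by decide +kernel) (by simp), fin _ h.yu (by decide +kernel) (by simp),
      fin _ h.yzu (by decide +kernel) (by simp)]

end Cfsg.Lib.JT
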