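import Cfsg.Agent.Lib.JT.Id2
import Cfsg.Agent.Lib.JT.C4
import Cfsg.Agent.Lib.JT.C2
import Cfsg.Agent.S0215
import Cfsg.Agent.S0481

/-! # The hypotheses of type `J₂`/`J₃` give `JT` -/

set_option autoImplicit false
set_option maxRecDepth 100000
set_option synthInstance.maxSize 2000

namespace Cfsg.Lib.JT

open Subgroup Cfsg.Lib.Known2 Cfsg.Lib.Transfer

theorem invQ' : ∀ (e : Bool) (q : Fin 32), (⟨q, 0⟩ : HH e) * ⟨q, 0⟩ = 1 → (⟨q, 0⟩ : HH e) = 1 ∨ (⟨q, 0⟩ : HH e) = z0 ∨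
    ∃ c : HH e, (⟨q, 0⟩ : HH e) = c * u0 * c⁻¹ := by decide +kernel
theorem inv_true : ∀ k : HH true, k * k = 1 → k.p = 0 := by decide +kernel
theorem z0_comm' : ∀ (e : Bool) (k : HH e), k * z0 = z0 * k := by decide +kernel
def LA : List (HH true) := [p0 * q0, p0 * r0, p0 * s0, q0 * r0, q0 * s0, r0 * s0, q0 * p0, r0 * p0, s0 * p0, r0 * q0, s0 * q0,
  s0 * r0, a0]
def LB : List (HH true) := [⟨20, 3⟩, ⟨21, 3⟩, ⟨22, 3⟩, ⟨23, 3⟩, ⟨24, 8⟩, ⟨25, 8⟩, ⟨26, 8⟩, ⟨27, 8⟩, ⟨12, 11⟩, ⟨13, 11⟩, ⟨14, 11⟩,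
  ⟨15, 11⟩]
theorem LA_spec : LA.Nodup ∧ ∀ k ∈ LA, k * k = z0 ∧ k * u0 = u0 * k := by decide +kernel
theorem LB_spec : ∀ k : HH true, k * k = u0 → k ∈ LB := by decide +kernel

variable {G : Type*} [Group G]

theorem ident [Finite G] {z : G} (hz : orderOf z = 2) (Q : Subgroup (centralizer ({z} : Set G))) [Q.Normal]
    (hQ : Cfsg.IsExtraspecial 2 Q) (hc : Nat.card Q = 32) (h2c : centralizer (Q : Set (centralizer ({z} : Set G))) ≤ Q)
    (hs : IsSimpleGroup (centralizer ({z} : Set G) ⧸ Q)) (h60 : Nat.card (centralizer ({z} : Set G) ⧸ Q) = 60) :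
    ∃ (b : Bool) (φ : HH b →* G), Function.Injective φ ∧ φ.range = centralizer {z} ∧ φ z0 = z ∧
      (Q0 b).map φ = Q.map (Subgroup.subtype _) := by
  obtain ⟨z1, -, h⟩ := exists_ES hQ
  let z' : centralizer ({z} : Set G) := ⟨z, mem_centralizer_singleton_iff.2 rfl⟩
  have hc' : ∀ g, g * z' = z' * g := fun g => Subtype.ext (mem_centralizer_singleton_iff.1 g.2)
  obtain rfl : z' = z1 := (h.of_cen z' (h2c fun g _ => hc' g) fun y _ => (hc' y).symm).resolve_left fun e => by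
    rw [show z = 1 from congrArg Subtype.val e] at hz; simp at hz
  obtain ⟨b, φ, h1, h2, h3⟩ := ident_core h hc' hc (fun g hg => h2c fun x hx => (hg x hx).symm) hs h60
  exact ⟨b, (Subgroup.subtype _).comp φ, Subtype.val_injective.comp h1.1,
    by rw [MonoidHom.range_comp, MonoidHom.range_eq_top.2 h1.2, ← MonoidHom.range_eq_map, range_subtype],
    congrArg Subtype.val h2, by rw [← map_map, h3]⟩

theorem not_fus_true {φ : HH true →* G} (hi : Function.Injective φ) (hr : φ.range = centralizer {φ z0})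
    (h : IsConj (φ z0) (φ u0)) : False := by
  have mem : ∀ g, g * φ z0 = φ z0 * g → ∃ k, φ k = g := fun g e => hr.ge (mem_centralizer_singleton_iff.2 e)
  have ex : ∀ (g : G) (t k : HH true), g * φ t * g⁻¹ = φ z0 → k * t = t * k → ∃ l, φ l = g * φ k * g⁻¹ := fun g t k h e =>
    mem _ (by rw [← h, conj_mul, conj_mul, ← map_mul, e, map_mul])
  obtain ⟨g, g1, g2⟩ : ∃ g, g * φ z0 * g⁻¹ = φ u0 ∧ g * φ u0 * g⁻¹ = φ z0 := by
    obtain ⟨g, hg⟩ := isConj_iff.1 h
    obtain ⟨k, hk⟩ := ex g⁻¹ u0 z0 (by rw [← hg]; group) (by decide +kernel)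
    have k2 : k * k = 1 := hi (by rw [map_mul, hk, conj_mul, ← map_mul, show (z0 * z0 : HH true) = 1 by decide +kernel]; simp)
    obtain ⟨q, p⟩ := k
    obtain rfl : p = 0 := inv_true _ k2
    rcases invQ' true q k2 with e | e | ⟨c, e⟩ <;> rw [e] at hk
    · exact absurd (hi ((conj_eq_one_iff.1 (hk.symm.trans φ.map_one)).trans φ.map_one.symm)) (by decide +kernel)
    · exact absurd (hi (show φ u0 = φ z0 by rw [← hg]; nth_rw 1 [hk]; group)) (by decide +kernel)
    · refine ⟨g * φ c, by rw [mul_assoc g, ← map_mul, z0_comm', map_mul, ← hg]; group, ?_⟩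
      rw [map_mul, map_mul, map_inv] at hk
      calc _ = g * (φ c * φ u0 * (φ c)⁻¹) * g⁻¹ := by group
        _ = _ := by rw [hk]; group
  have : ∀ k : HH true, ∃ l, k * u0 = u0 * k → φ l = g * φ k * g⁻¹ := fun k => by
    by_cases e : k * u0 = u0 * k
    · exact (ex g u0 k g2 e).imp fun _ h _ => h
    · exact ⟨1, fun h => absurd h e⟩
  choose f hf using this
  have := (List.subperm_of_subset (LA_spec.1.map_on (f := f) fun x hx y hy e => hi (by
    have := hf x (LA_spec.2 x hx).2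
    rw [e, hf y (LA_spec.2 y hy).2] at this
    exact (mul_left_cancel (mul_right_cancel this)).symm)) (l₂ := LB) fun l hl => by
      obtain ⟨k, hk, rfl⟩ := List.mem_map.1 hl
      exact LB_spec _ (hi (by rw [map_mul, hf k (LA_spec.2 k hk).2, conj_mul, ← map_mul, (LA_spec.2 k hk).1, g1]))).length_le
  simp [LA, LB] at this

theorem jt_of_nwc [Finite G] {z : G} (hz : orderOf z = 2) (Q : Subgroup (centralizer ({z} : Set G))) [Q.Normal]
    (hQ : Cfsg.IsExtraspecial 2 Q) (hc : Nat.card Q = 32) (h2c : centralizer (Q : Set (centralizer ({z} : Set G))) ≤ Q)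
    (hs : IsSimpleGroup (centralizer ({z} : Set G) ⧸ Q)) (h60 : Nat.card (centralizer ({z} : Set G) ⧸ Q) = 60)
    (hnwc : ∃ g : G, (∃ hq : g * z * g⁻¹ ∈ centralizer ({z} : Set G), (⟨g * z * g⁻¹, hq⟩ : centralizer ({z} : Set G)) ∈ Q) ∧
      g * z * g⁻¹ ≠ z) : ∃ φ : HH false →* G, JT φ ∧ φ z0 = z := by
  obtain ⟨b, φ, h1, h2, rfl, h4⟩ := ident hz Q hQ hc h2c hs h60
  obtain ⟨g, ⟨hq, hg⟩, hn⟩ := hnwc
  obtain ⟨⟨q, p⟩, hp, hk⟩ := h4.ge ⟨_, hg, rfl⟩
  obtain rfl : p = 0 := hp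
  have hk : φ ⟨q, 0⟩ = g * φ z0 * g⁻¹ := hk
  have : IsConj (φ z0) (φ u0) := by
    rcases invQ' b q (h1 (by rw [map_mul, hk, conj_mul, ← sq, ← hz, pow_orderOf_eq_one]; simp)) with e | e | ⟨c, e⟩ <;> rw [e] at hk
    · rw [conj_eq_one_iff.1 (hk.symm.trans φ.map_one)] at hz; simp at hz
    · exact absurd hk.symm hn
    · exact (isConj_iff.2 ⟨g, hk.symm⟩).trans (isConj_iff.2 ⟨φ c, by simp⟩).symm
  cases b
  · exact ⟨φ, ⟨h1, h2, this⟩, rfl⟩
  · exact (not_fus_true h1 h2 this).elim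

/-- `z ∼ a` forces `z ∼ u` -/
theorem fus_of_a {φ : HH false →* G} (hi : Function.Injective φ) (hr : φ.range = centralizer {φ z0})
    (h : IsConj (φ z0) (φ a0)) : IsConj (φ z0) (φ u0) := by
  by_contra hn
  have mem : ∀ g, g * φ z0 = φ z0 * g → ∃ k, φ k = g := fun g e => hr.ge (mem_centralizer_singleton_iff.2 e)
  have ex : ∀ {g : G} {t : HH false} (k : HH false), Cj φ g t z0 → k * t = t * k → ∃ l, Cj φ g k l := fun {g t} k h e =>
    (mem _ (by rw [← h, conj_mul, conj_mul, ← map_mul, e, map_mul])).imp fun _ h => h.symm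
  have un : ∀ {g : G} {k l l' : HH false}, Cj φ g k l → Cj φ g k l' → l = l' := fun a b => hi (Eq.trans (Eq.symm a) b)
  obtain ⟨g, g1, g2⟩ : ∃ g, Cj φ g z0 a0 ∧ Cj φ g a0 z0 := by
    obtain ⟨g, hg⟩ := isConj_iff.1 h
    have hg : Cj φ g z0 a0 := hg
    obtain ⟨k, hk⟩ := ex z0 hg.symm (z0_comm _).symm
    rcases inv_cls k (un (hk.mul hk) ((Cj.one _).cast (by decide +kernel) rfl)) with rfl | rfl | ⟨c, rfl | rfl⟩
    · exact absurd (un hk.symm (Cj.one _)) (by decide +kernel)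
    · exact absurd (un hk.symm' hg) (by decide +kernel)
    · exact absurd (hk.comp (Cj.self c u0).symm).isConj hn
    · exact ⟨g * φ c, (Cj.of c (z0_comm c)).comp hg, (Cj.self c a0).comp hk.symm'⟩
  have key : ∀ t : HH false, t * a0 = a0 * t → IsConj (φ t) (φ u0) → Cj φ g t u0 ∨ Cj φ g t (z0 * u0) := fun t ht e => by
    obtain ⟨l, hl⟩ := ex t g2 ht
    rcases cent_a_cls l (un (hl.mul g1) ((g1.mul hl).cast (z0_comm _).symm rfl)) with hv | e'
    · simp only [List.mem_cons, List.not_mem_nil, or_false] at hv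
      rcases hv with rfl | rfl | rfl | rfl
      · obtain rfl := un hl.symm (Cj.one _)
        exact absurd (hi ((isConj_one_left.1 (φ.map_one ▸ e.symm)).trans φ.map_one.symm)) (by decide +kernel)
      · exact absurd (hl.isConj.symm.trans e) hn
      exacts [.inl hl, .inr hl]
    · exact absurd (h.trans (((hl.cast rfl e').comp (Cj.self _ a0).symm).isConj.symm.trans e)) hn
  rcases key u0 (by decide +kernel) (IsConj.refl _) with a | a <;>
    rcases key (z0 * u0) (by decide +kernel) (Cj.of (l := u0) s0 (by decide +kernel)).isConj with b | b <;>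
    exact absurd (un (b.mul a) (g1.cast (by decide +kernel) rfl)) (by decide +kernel)

theorem not_wc [Finite G] [IsSimpleGroup G] {z : G} (hz : orderOf z = 2) (hC : ∃ g : G, g * z ≠ z * g) (P : Sylow 2 G) (hP : z ∈ P) :
    ∃ g : G, g * z * g⁻¹ ∈ P ∧ g * z * g⁻¹ ≠ z := by
  by_contra hc
  push Not at hc
  obtain ⟨N, hN, ho, h⟩ := Cfsg.Agent.S0215.result P z hz hP hc
  rcases hN.eq_bot_or_eq_top with rfl | rfl
  · obtain ⟨g, hg⟩ := hC
    exact hg (by have := mem_bot.1 (h g); rw [mul_inv_eq_one, mul_inv_eq_iff_eq_mul] at this; exact this.symm)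
  · rw [card_top] at ho
    exact Nat.not_even_iff_odd.2 ho (even_iff_two_dvd.2 (hz ▸ orderOf_dvd_natCard z))

theorem jt_of_h2c [Finite G] [IsSimpleGroup G] {z : G} (hz : orderOf z = 2) (Q : Subgroup (centralizer ({z} : Set G))) [Q.Normal]
    (hQ : Cfsg.IsExtraspecial 2 Q) (hc : Nat.card Q = 32) (h2c : centralizer (Q : Set (centralizer ({z} : Set G))) ≤ Q)
    (hs : IsSimpleGroup (centralizer ({z} : Set G) ⧸ Q)) (h60 : Nat.card (centralizer ({z} : Set G) ⧸ Q) = 60) :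
    ∃ φ : HH false →* G, JT φ ∧ φ z0 = z := by
  have : Fact (Nat.Prime 2) := ⟨Nat.prime_two⟩
  obtain ⟨b, φ, h1, h2, rfl, h4⟩ := ident hz Q hQ hc h2c hs h60
  obtain ⟨z1, -, h⟩ := exists_ES hQ
  have e := Q.equivMapOfInjective _ (centralizer ({φ z0} : Set G)).subtype_injective
  obtain ⟨⟨P, hP⟩, -⟩ := Cfsg.Agent.S0481.result (φ z0) hz (Q.map (Subgroup.subtype _)) (map_subtype_le _)
    (by rintro g hg _ ⟨q, hq, rfl⟩; exact ⟨_, ‹Q.Normal›.conj_mem q hq ⟨g, hg⟩, rfl⟩) (hQ.1.1.map _)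
    (by rw [← hQ.2]; exact (Nat.card_congr (centerCongr e).toEquiv).symm)
    (fun x => by
      obtain ⟨x, rfl⟩ := e.surjective x
      rw [← map_pow]
      refine (centerCongr e ⟨x ^ 2, mem_center_iff.2 fun y => Subtype.ext ?_⟩).2
      change y.1 * x.1 ^ 2 = x.1 ^ 2 * y.1
      rcases h.sq_mem x x.2 with t | t <;> rw [sq, t]
      exacts [by simp, h.cen y y.2])
    fun g hg => by
      have hz' : φ z0 ∈ Q.map (Subgroup.subtype _) := h4.le ⟨z0, rfl, rfl⟩
      exact ⟨⟨g, mem_centralizer_singleton_iff.2 (hg _ hz').symm⟩, h2c fun x hx => Subtype.ext (hg x ⟨x, hx, rfl⟩), rfl⟩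
  have hzP : φ z0 ∈ P := ((sylowIn_of_le P hP).le_of_le_normalizer (Q := zpowers (φ z0)) (IsPGroup.of_card (n := 1) (by simp [hz]))
    (zpowers_le.2 (mem_centralizer_singleton_iff.2 rfl)) fun g hg => mem_normalizer_of_cj_le (cj_le_iff.2 (by
      rintro _ ⟨n, rfl⟩
      exact ⟨n, by rw [← conj_zpow, mem_centralizer_singleton_iff.1 (hP hg), mul_inv_cancel_right]⟩))) (mem_zpowers _)
  obtain ⟨g, hg, hn⟩ := not_wc hz (by
    by_contra hc
    push Not at hc
    rcases (show (zpowers (φ z0)).Normal from ⟨by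
      rintro _ ⟨n, rfl⟩ g
      exact ⟨n, by rw [← conj_zpow, hc, mul_inv_cancel_right]⟩⟩).eq_bot_or_eq_top with e | e
    · rw [zpowers_eq_bot.1 e] at hz; simp at hz
    · have := Nat.card_le_card_of_injective φ h1
      rw [card_HH, ← card_top, ← e, Nat.card_zpowers, hz] at this
      omega) P hzP
  obtain ⟨k, hk⟩ := h2.ge (hP hg)
  have k2 : k * k = 1 := h1 (by rw [map_mul, hk, conj_mul, ← sq, ← hz, pow_orderOf_eq_one]; simp)
  have k1 : k ≠ 1 := by rintro rfl; rw [conj_eq_one_iff.1 (hk.symm.trans φ.map_one)] at hz; simp at hz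
  have kz : k ≠ z0 := by rintro rfl; exact hn hk.symm
  have cj : ∀ c t, k = c * t * c⁻¹ → IsConj (φ z0) (φ t) := fun c t e =>
    (isConj_iff.2 ⟨g, hk.symm⟩).trans (isConj_iff.2 ⟨φ c, by simp [e]⟩).symm
  cases b
  · obtain ⟨c, e | e⟩ := ((inv_cls k k2).resolve_left k1).resolve_left kz
    exacts [⟨φ, ⟨h1, h2, cj _ _ e⟩, rfl⟩, ⟨φ, ⟨h1, h2, fus_of_a h1 h2 (cj _ _ e)⟩, rfl⟩]
  · obtain ⟨q, p⟩ := k
    obtain rfl : p = 0 := inv_true _ k2
    obtain ⟨c, e⟩ := ((invQ' true q k2).resolve_left k1).resolve_left kz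
    exact (not_fus_true h1 h2 (cj _ _ e)).elim

theorem h2c_of_central [Finite G] [IsSimpleGroup G] {z : G} (hz : Cfsg.IsTwoCentralInvolution z)
    (Q : Subgroup (centralizer ({z} : Set G))) [hn : Q.Normal] (hQ : Cfsg.IsExtraspecial 2 Q) (hc : Nat.card Q = 32)
    (hs : IsSimpleGroup (centralizer ({z} : Set G) ⧸ Q)) (h60 : Nat.card (centralizer ({z} : Set G) ⧸ Q) = 60) :
    centralizer (Q : Set (centralizer ({z} : Set G))) ≤ Q := by
  have : Fact (Nat.Prime 2) := ⟨Nat.prime_two⟩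
  obtain ⟨hz, P, hzP, hP⟩ := hz
  by_contra h2c
  have hC : Nat.card (centralizer ({z} : Set G)) = 1920 := by rw [card_eq_card_quotient_mul_card_subgroup Q, h60, hc]
  obtain ⟨z1, -, h⟩ := exists_ES hQ
  let z' : centralizer ({z} : Set G) := ⟨z, mem_centralizer_singleton_iff.2 rfl⟩
  have hc' : ∀ g, g * z' = z' * g := fun g => Subtype.ext (mem_centralizer_singleton_iff.1 g.2)
  have oz : orderOf z' = 2 := (orderOf_coe z').symm.trans hz
  let π := QuotientGroup.mk' Q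
  have hzQ : z' ∈ Q := by
    rcases (show (zpowers (π z')).Normal from ⟨by
      rintro _ ⟨n, rfl⟩ g
      obtain ⟨g, rfl⟩ := QuotientGroup.mk'_surjective Q g
      exact ⟨n, by rw [← conj_zpow, ← map_inv, ← map_mul, ← map_mul, hc', mul_inv_cancel_right]⟩⟩).eq_bot_or_eq_top with e | e
    · exact (QuotientGroup.eq_one_iff _).1 (zpowers_eq_bot.1 e)
    · have := Nat.le_of_dvd (by norm_num) (oz ▸ orderOf_map_dvd π z')
      rw [← Nat.card_zpowers, e, card_top, h60] at this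
      omega
  obtain rfl : z' = z1 := (h.of_cen z' hzQ fun y _ => (hc' y).symm).resolve_left fun e => by rw [e] at oz; simp at oz
  have dec : ∀ x, ∃ k ∈ centralizer (Q : Set (centralizer ({z} : Set G))), ∃ q ∈ Q, k * q = x := fun x => by
    rcases ((normal_centralizer (H := Q)).map _ (QuotientGroup.mk'_surjective Q)).eq_bot_or_eq_top with e | e
    · exact absurd (by rwa [Subgroup.map_eq_bot_iff, QuotientGroup.ker_mk'] at e) h2c
    · obtain ⟨k, hk, e⟩ := e.ge (mem_top (π x))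
      obtain ⟨q, hq, e⟩ := (QuotientGroup.mk'_eq_mk' Q).1 e
      exact ⟨k, hk, q, hq, e⟩
  have hPC : (P : Subgroup G) ≤ centralizer {z} := fun x hx => mem_centralizer_singleton_iff.2 (hP x hx)
  have hS := sylowIn_of_le P hPC
  let T := (P : Subgroup G).subgroupOf (centralizer {z})
  have hQT : Q ≤ T := fun q hq => hS.le_of_le_normalizer (hQ.1.1.map (Subgroup.subtype _)) (map_subtype_le _)
    (fun g hg => mem_normalizer_of_cj_le (cj_le_iff.2 (by
      rintro _ ⟨q, hq, rfl⟩; exact ⟨_, hn.conj_mem q hq ⟨g, hPC hg⟩, rfl⟩))) ⟨q, hq, rfl⟩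
  have hT : Nat.card (T.map π) = 2 ^ 2 := by
    have h1 : Nat.card T = 128 := by
      rw [Nat.card_congr (subgroupOfEquivOfLe hPC).toEquiv, hS.card_eq_pow, hC,
        show (1920 : ℕ) = 2 ^ 7 * 15 by norm_num, Nat.factorization_mul (by norm_num) (by norm_num), Nat.Prime.factorization_pow Nat.prime_two]
      simp [Nat.factorization_eq_zero_of_not_dvd (show ¬ 2 ∣ 15 by norm_num)]
    have h2 := card_mul_relIndex hQT
    rw [← relIndex_ker, QuotientGroup.ker_mk']
    rw [hc, h1] at h2; omega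
  have hcm : ∀ x ∈ T, ∀ y ∈ T, x * y = y * x ∨ x * y = y * x * z' := fun x hx y hy => by
    obtain ⟨k, hk, q, hq, rfl⟩ := dec x
    obtain ⟨l, hl, r, hr, rfl⟩ := dec y
    have k1 := (mul_mem_cancel_right (hQT hq)).1 hx
    have l1 := (mul_mem_cancel_right (hQT hr)).1 hy
    have e1 : π k * π l = π l * π k := congrArg Subtype.val
      ((IsPGroup.isMulCommutative_of_card_eq_prime_sq hT).1.1 ⟨_, k, k1, rfl⟩ ⟨_, l, l1, rfl⟩)
    rw [← map_mul, ← map_mul] at e1
    obtain ⟨t, ht, e1⟩ := (QuotientGroup.mk'_eq_mk' Q).1 e1.symm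
    have ht' : t = 1 ∨ t = z' := h.of_cen t ht fun y hy =>
      (((mul_mem_cancel_left (mul_mem hl hk)).1 (e1 ▸ mul_mem hk hl)) y hy).symm
    have a1 : k * q * (l * r) = k * l * (q * r) := by rw [mul_assoc, ← mul_assoc q, hl q hq]; group
    have a2 : l * r * (k * q) = l * k * (r * q) := by rw [mul_assoc, ← mul_assoc r, hk r hr]; group
    rw [a1, a2, ← e1]
    rcases ht' with rfl | rfl <;> rcases h.comm q hq r hr with e | e <;> rw [e]
    · simp
    · simp [mul_assoc]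
    · right; rw [mul_assoc, ← hc', ← mul_assoc]
    · left; rw [mul_assoc, ← mul_assoc z', ← hc', mul_assoc _ z', h.sq, mul_one]
  obtain ⟨g, hg, hne⟩ := not_wc hz (by
    by_contra hc
    push Not at hc
    rcases (show (zpowers z).Normal from ⟨by
      rintro _ ⟨n, rfl⟩ g
      exact ⟨n, by rw [← conj_zpow, hc, mul_inv_cancel_right]⟩⟩).eq_bot_or_eq_top with e | e
    · rw [zpowers_eq_bot.1 e] at hz; simp at hz
    · have := card_le_card_group (centralizer ({z} : Set G))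
      rw [hC, ← card_top, ← e, Nat.card_zpowers, hz] at this
      omega) P hzP
  obtain ⟨k, hk, q, hq, e⟩ := dec ⟨_, hPC hg⟩
  obtain ⟨x, hx, y, hy, c1, c2, c3⟩ : ∃ x ∈ Q, ∃ y ∈ Q, q * x = x * q ∧ q * y = y * q ∧ x * y ≠ y * x := by
    by_contra hh
    push Not at hh
    have k1 : ∀ x ∈ Q, q * x = x * q → x ∈ [1, z', q, q * z'] := fun x hx e => by
      simpa [or_assoc] using h.double_perp hq hx fun y hy e' => hh x hx y hy e e'
    obtain ⟨a, ha, ha'⟩ : ∃ a ∈ Q, ∀ x ∈ Q, q * x = x * q ∨ ¬ q * a = a * q := by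
      by_contra hh
      push Not at hh
      obtain ⟨x, hx, e, -⟩ := hh 1 (one_mem _)
      obtain ⟨y, -, -, e'⟩ := hh x hx
      exact e e'
    have := card_le_of_list (· ∈ Q) ([1, a⁻¹] ×ˢ [1, z', q, q * z']) (fun t => t.1 * t.2) fun x hx => by
      by_cases e : q * x = x * q
      · exact ⟨(1, x), List.pair_mem_product.2 ⟨by simp, k1 x hx e⟩, one_mul x⟩
      · exact ⟨(a⁻¹, a * x), List.pair_mem_product.2 ⟨by simp, k1 _ (mul_mem ha hx) ((h.mul_comm_iff hq ha hx).2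
          (iff_of_false ((ha' x hx).resolve_left e) e))⟩, inv_mul_cancel_left a x⟩
    exact absurd (hc.symm.trans_le this) (by simp)
  have cm : ∀ x ∈ Q, q * x = x * q → g⁻¹ * x * g ∈ centralizer ({z} : Set G) := fun x hx c => by
    have : (k * q) * x = x * (k * q) := by rw [mul_assoc, c, ← mul_assoc, ← hk x hx, mul_assoc]
    have : g * z * g⁻¹ * x = x * (g * z * g⁻¹) := by rw [e] at this; exact congrArg Subtype.val this
    rw [mem_centralizer_singleton_iff]
    calc _ = g⁻¹ * (x * (g * z * g⁻¹)) * g := by group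
      _ = _ := by rw [← this]; group
  obtain ⟨f, hf, hf'⟩ := hS.exists_cj_le (Q := cj g⁻¹ P ⊓ centralizer {z}) (isPGroup_cj _ P.2).to_inf_left inf_le_right
  have mv : ∀ x ∈ Q, q * x = x * q → f * (g⁻¹ * x * g) * f⁻¹ ∈ (P : Subgroup G) := fun x hx c =>
    cj_le_iff.1 hf' _ ⟨by simpa [mem_cj, mul_assoc] using mem_subgroupOf.1 (hQT hx), cm x hx c⟩
  have xy : x.1 * y.1 = y.1 * x.1 * z := congrArg Subtype.val (h.anti hx hy c3)
  have fz : f * z * f⁻¹ = z := by rw [mem_centralizer_singleton_iff.1 hf, mul_inv_cancel_right]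
  rcases hcm ⟨_, hPC (mv x hx c1)⟩ (mv x hx c1) ⟨_, hPC (mv y hy c2)⟩ (mv y hy c2) with e | e <;>
    replace e := congrArg Subtype.val e
  · exact c3 (Subtype.ext (by simpa [← mul_assoc] using (show x.1 * (y.1 * (g * f⁻¹)) = y.1 * (x.1 * (g * f⁻¹)) by
      simpa [mul_assoc] using e)))
  · have e : f * (g⁻¹ * (x.1 * y.1) * g) * f⁻¹ = f * (g⁻¹ * (y.1 * x.1) * g * z) * f⁻¹ := by
      nth_rw 2 [← conj_mul]; rw [fz]; simpa [mul_assoc] using e
    rw [xy] at e
    refine hne ?_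
    have e : z * g = g * z := by simpa [← mul_assoc] using (show z * (g * f⁻¹) = g * (z * f⁻¹) by simpa [mul_assoc] using e)
    rw [← e, mul_inv_cancel_right]

end Cfsg.Lib.JT
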