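import Cfsg.Agent.Lib.JT.F1

/-! # Type `J₂`/`J₃`: conjugation calculus, the element `m` normalising `⟨z, u⟩` -/

set_option autoImplicit false
set_option maxRecDepth 100000
set_option linter.dupNamespace false

namespace Cfsg.Lib.JT

open Subgroup

variable {G : Type*} [Group G] {φ : HH false →* G}

/-- `g` conjugates `φ k` to `φ l` -/
def Cj (φ : HH false →* G) (g : G) (k l : HH false) : Prop := g * φ k * g⁻¹ = φ l

namespace Cj
variable {g h : G} {k l k' l' j : HH false}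
theorem mul (a : Cj φ g k l) (b : Cj φ g k' l') : Cj φ g (k * k') (l * l') := by
  unfold Cj at *; rw [map_mul, map_mul, ← a, ← b]; group
theorem inv (a : Cj φ g k l) : Cj φ g k⁻¹ l⁻¹ := by
  unfold Cj at *; rw [map_inv, map_inv, ← a]; group
theorem comp (a : Cj φ g k l) (b : Cj φ h l j) : Cj φ (h * g) k j := by
  unfold Cj at *; rw [← b, ← a]; group
theorem symm (a : Cj φ g k l) : Cj φ g⁻¹ l k := by
  unfold Cj at *; rw [← a]; group
theorem symm' (a : Cj φ g⁻¹ k l) : Cj φ g l k := by simpa using a.symm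
theorem self (c k : HH false) : Cj φ (φ c) k (c * k * c⁻¹) := by
  unfold Cj; simp
theorem of (c : HH false) (e : c * k = l * c) : Cj φ (φ c) k l := by
  have := self (φ := φ) c k; rwa [e, mul_inv_cancel_right] at this
theorem one (g : G) : Cj φ g 1 1 := by simp [Cj]
theorem cast (a : Cj φ g k l) (e : k = k') (e' : l = l') : Cj φ g k' l' := e ▸ e' ▸ a
theorem uniq (hφ : JT φ) (a : Cj φ g k l) (b : Cj φ g k l') : l = l' := hφ.inj (Eq.trans (Eq.symm a) b)
theorem inj (hφ : JT φ) (a : Cj φ g k l) (b : Cj φ g k' l) : k = k' := a.symm.uniq hφ b.symm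
theorem comm (a : Cj φ g k k) : g * φ k = φ k * g := by rw [Cj, mul_inv_eq_iff_eq_mul] at a; exact a
theorem eq (a : Cj φ g k l) : g * φ k = φ l * g := by rw [Cj, mul_inv_eq_iff_eq_mul] at a; exact a
theorem of_eq (a : g * φ k = φ l * g) : Cj φ g k l := by rw [Cj, a, mul_inv_cancel_right]
theorem isConj (a : Cj φ g k l) : IsConj (φ k) (φ l) := isConj_iff.2 ⟨g, a⟩
end Cj

theorem JT.mem (hφ : JT φ) {g : G} (h : g * φ z0 = φ z0 * g) : ∃ k, φ k = g := by
  have : g ∈ φ.range := by rw [hφ.cent, mem_centralizer_singleton_iff]; exact h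
  exact this

theorem JT.mem' (hφ : JT φ) {g : G} (h : Cj φ g z0 z0) : ∃ k, φ k = g := hφ.mem h.comm

/-- an element commuting with a preimage of `z` is carried into `H` -/
theorem JT.ex (hφ : JT φ) {g : G} {t k : HH false} (h : Cj φ g t z0) (e : k * t = t * k) : ∃ l, Cj φ g k l := by
  obtain ⟨l, hl⟩ := hφ.mem (g := g * φ k * g⁻¹) (by
    rw [← h]; simp only [mul_assoc, inv_mul_cancel_left]; rw [← mul_assoc (φ k), ← map_mul, e, map_mul, mul_assoc])
  exact ⟨l, hl.symm⟩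

theorem JT.of_cj (hφ : JT φ) {c k l : HH false} (h : Cj φ (φ c) k l) : c * k = l * c :=
  hφ.inj (by rw [map_mul, map_mul]; exact h.eq)

theorem JT.swap_aux (hφ : JT φ) {t : HH false} (ht : t ≠ z0) (h : IsConj (φ z0) (φ t)) :
    ∃ g k c, Cj φ g z0 t ∧ Cj φ g k z0 ∧ (k = c * u0 * c⁻¹ ∨ k = c * a0 * c⁻¹) := by
  obtain ⟨g, hg⟩ := isConj_iff.1 h
  have hg : Cj φ g z0 t := hg
  obtain ⟨k, hk⟩ := hφ.ex hg.symm (z0_comm t).symm
  have h2 : k * k = 1 := (hk.mul hk).uniq hφ ((Cj.one _).cast (by decide +kernel) rfl)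
  rcases inv_cls k h2 with rfl | rfl | ⟨c, hc⟩
  · exact absurd (hk.inj hφ (Cj.one _)) (by decide +kernel)
  · exact absurd (hk.symm'.uniq hφ hg).symm ht
  · exact ⟨g, k, c, hg, hk.symm', hc⟩

theorem JT.swap_u (hφ : JT φ) : ∃ g, Cj φ g z0 u0 ∧ Cj φ g u0 z0 := by
  obtain ⟨g, k, c, h1, h2, rfl | rfl⟩ := hφ.swap_aux (by decide +kernel) hφ.fus
  · exact ⟨g * φ c, (Cj.of c (z0_comm c)).comp h1, (Cj.self c u0).comp h2⟩
  · exfalso
    have h3 : Cj φ (g * φ c) a0 z0 := (Cj.self c a0).comp h2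
    have h4 : Cj φ (g * φ c) z0 u0 := (Cj.of c (z0_comm c)).comp h1
    obtain ⟨l, hl⟩ := hφ.ex (k := x0) h4.symm (by decide +kernel)
    have h5 := cent_a_sq l ((hl.mul h3.symm).uniq hφ ((h3.symm.mul hl).cast (z0_comm _).symm rfl))
    exact absurd ((hl.mul hl).inj hφ ((Cj.one _).cast rfl h5.symm)) (by decide +kernel)

theorem JT.swap_a (hφ : JT φ) (h : IsConj (φ z0) (φ a0)) : ∃ g, Cj φ g z0 a0 ∧ Cj φ g a0 z0 := by
  obtain ⟨g, k, c, h1, h2, rfl | rfl⟩ := hφ.swap_aux (by decide +kernel) h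
  · exfalso
    have h3 : Cj φ (g * φ c) u0 z0 := (Cj.self c u0).comp h2
    have h4 : Cj φ (g * φ c) z0 a0 := (Cj.of c (z0_comm c)).comp h1
    obtain ⟨l, hl⟩ := hφ.ex (k := x0) h3 (by decide +kernel)
    have h5 := cent_a_sq l ((hl.mul h4).uniq hφ ((h4.mul hl).cast (z0_comm _).symm rfl))
    exact absurd ((hl.mul hl).inj hφ ((Cj.one _).cast rfl h5.symm)) (by decide +kernel)
  · exact ⟨g * φ c, (Cj.of c (z0_comm c)).comp h1, (Cj.self c a0).comp h2⟩

/-- the relations for `m` -/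
structure M2 (φ : HH false →* G) (m : G) : Prop where
  m3 : m ^ 3 = 1
  ms : (m * φ s0) ^ 2 = 1
  mz : Cj φ m z0 (z0 * u0)
  mu : Cj φ m u0 z0
  mx : Cj φ m x0 x0
  ma : Cj φ m a0 a1

theorem JT.ex_m1 (hφ : JT φ) : ∃ m, Cj φ m z0 (z0 * u0) ∧ Cj φ m u0 z0 ∧ Cj φ m x0 x0 := by
  obtain ⟨g, h1, h2⟩ := hφ.swap_u
  obtain ⟨l, hl⟩ := hφ.ex (k := x0) h2 (by decide +kernel)
  obtain ⟨hc, hx⟩ := three_cls' l ((hl.mul h1).uniq hφ ((h1.mul hl).cast (z0_comm _).symm rfl))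
    (((hl.mul hl).mul hl).uniq hφ ((Cj.one _).cast (by decide +kernel) rfl))
    (fun e => absurd (hl.inj hφ ((Cj.one _).cast rfl e.symm)) (by decide +kernel))
  set c := wt W2 l
  have a1 : Cj φ (φ c * g * φ s0) z0 u0 := (Cj.of s0 (z0_comm _)).comp (h1.comp (Cj.of c hc))
  have a2 : Cj φ (φ c * g * φ s0) u0 (z0 * u0) := (Cj.of (l := u0 * z0) s0 (by decide +kernel)).comp
    ((h2.comp (Cj.of c (z0_comm c))).mul (h1.comp (Cj.of c hc)))
  have a3 : Cj φ (φ c * g * φ s0) (z0 * u0) z0 := (a1.mul a2).cast rfl (by decide +kernel)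
  have a4 : Cj φ (φ c * g * φ s0) x0 (c * l * c⁻¹) := (Cj.of s0 (by decide +kernel)).comp (hl.comp (Cj.self c l))
  refine ⟨_, a1.comp a2, a2.comp a3, ?_⟩
  rcases hx with e | e <;> rw [e] at a4
  · exact a4.comp a4
  · exact a4.comp (a4.inv.cast rfl (inv_inv _))

theorem JT.ex_m2 (hφ : JT φ) : ∃ m, Cj φ m z0 (z0 * u0) ∧ Cj φ m u0 z0 ∧ Cj φ m x0 x0 ∧ (m * φ s0) ^ 2 = 1 := by
  obtain ⟨m, h1, h2, h3⟩ := hφ.ex_m1
  have h4 : Cj φ m (z0 * u0) u0 := (h1.mul h2).cast rfl (by decide +kernel)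
  have t1 : Cj φ (m * φ s0) z0 (z0 * u0) := (Cj.of s0 (z0_comm _)).comp h1
  have t2 : Cj φ (m * φ s0) u0 u0 := (Cj.of s0 (by decide +kernel)).comp h4
  have t3 : Cj φ (m * φ s0) (z0 * u0) z0 := (t1.mul t2).cast rfl (by decide +kernel)
  have t4 : Cj φ (m * φ s0) x0 x0 := (Cj.of s0 (by decide +kernel)).comp h3
  obtain ⟨k, hk⟩ := hφ.mem' (t1.comp t3)
  obtain ⟨i, hi, v, hv, rfl⟩ := cent_ux k (hφ.of_cj (hk ▸ t2.comp t2)) (hφ.of_cj (hk ▸ t4.comp t4))
  have hc : Cj φ (m * φ s0) (i * v) (i * v) := by rw [Cj, hk]; group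
  have hi' : Cj φ (m * φ s0) i i := by
    simp only [List.mem_cons, List.not_mem_nil, or_false] at hi
    rcases hi with rfl | rfl | rfl
    exacts [Cj.one _, t4, t4.inv]
  have key : ∀ c d : HH false, c * z0 = z0 * c → c * u0 = u0 * c → c * x0 = x0 * c → c * s0 = s0 * c →
      Cj φ (m * φ s0) d c → i * v * d * c = 1 →
      ∃ m, Cj φ m z0 (z0 * u0) ∧ Cj φ m u0 z0 ∧ Cj φ m x0 x0 ∧ (m * φ s0) ^ 2 = 1 := fun c d c1 c2 c3 c4 c5 c6 => by
    refine ⟨m * φ c, (Cj.of c c1).comp h1, (Cj.of c c2).comp h2, (Cj.of c c3).comp h3, ?_⟩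
    rw [mul_assoc, ← map_mul, c4, map_mul, ← mul_assoc, sq, ← φ.map_one, ← c6, map_mul, map_mul, hk, ← c5]
    group
  simp only [List.mem_cons, List.not_mem_nil, or_false] at hi hv
  rcases hv with rfl | rfl | rfl | rfl
  · exact key i i (by rcases hi with rfl | rfl | rfl <;> decide +kernel) (by rcases hi with rfl | rfl | rfl <;> decide +kernel)
      (by rcases hi with rfl | rfl | rfl <;> decide +kernel) (by rcases hi with rfl | rfl | rfl <;> decide +kernel) hi'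
      (by rcases hi with rfl | rfl | rfl <;> decide +kernel)
  · exact absurd (hc.uniq hφ (hi'.mul t1)) (by rcases hi with rfl | rfl | rfl <;> decide +kernel)
  · exact key (i * z0) (i * (z0 * u0)) (by rcases hi with rfl | rfl | rfl <;> decide +kernel)
      (by rcases hi with rfl | rfl | rfl <;> decide +kernel)
      (by rcases hi with rfl | rfl | rfl <;> decide +kernel) (by rcases hi with rfl | rfl | rfl <;> decide +kernel) (hi'.mul t3)
      (by rcases hi with rfl | rfl | rfl <;> decide +kernel)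
  · exact absurd (hc.uniq hφ (hi'.mul t3)) (by rcases hi with rfl | rfl | rfl <;> decide +kernel)

theorem JT.ex_m (hφ : JT φ) : ∃ m, M2 φ m := by
  obtain ⟨m, h1, h2, h3, h4⟩ := hφ.ex_m2
  have hz : Cj φ m (z0 * u0) u0 := (h1.mul h2).cast rfl (by decide +kernel)
  have hs : φ s0 * φ s0 = 1 := by rw [← map_mul, show (s0 * s0 : HH false) = 1 by decide +kernel, map_one]
  have hsm : φ s0 * m * φ s0 = m⁻¹ := by
    rw [eq_inv_iff_mul_eq_one]
    calc _ = m⁻¹ * (m * φ s0) ^ 2 * m := by simp only [sq, mul_assoc, inv_mul_cancel_left]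
      _ = 1 := by rw [h4]; group
  have h5 : m ^ 3 = 1 := by
    obtain ⟨k, hk⟩ := hφ.mem' ((h1.comp hz).comp h2)
    obtain ⟨i, hi, v, hv, rfl⟩ := cent_ux k (hφ.of_cj (hk ▸ (h2.comp h1).comp hz)) (hφ.of_cj (hk ▸ (h3.comp h3).comp h3))
    have hc : Cj φ m (i * v) (i * v) := by rw [Cj, hk]; group
    have hd : s0 * (i * v) * s0 * (i * v) = 1 := hφ.inj (by
      rw [map_mul, map_mul, map_mul, hk, map_one]
      calc _ = (φ s0 * m * φ s0) * (φ s0 * m * φ s0) * (φ s0 * m * φ s0) * (m * (m * m)) := by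
            simp only [mul_assoc, ← mul_assoc (φ s0) (φ s0), hs, one_mul]
        _ = 1 := by rw [hsm]; group)
    have hi' : Cj φ m i i := by
      simp only [List.mem_cons, List.not_mem_nil, or_false] at hi
      rcases hi with rfl | rfl | rfl
      exacts [Cj.one _, h3, h3.inv]
    rw [pow_three, ← hk]
    simp only [List.mem_cons, List.not_mem_nil, or_false] at hi hv
    rcases hv with rfl | rfl | rfl | rfl
    · rcases hi with rfl | rfl | rfl
      · simp
      all_goals exact absurd hd (by decide +kernel)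
    · exact absurd (hc.uniq hφ (hi'.mul h1)) (by rcases hi with rfl | rfl | rfl <;> decide +kernel)
    · exact absurd (hc.uniq hφ (hi'.mul h2)) (by rcases hi with rfl | rfl | rfl <;> decide +kernel)
    · exact absurd (hc.uniq hφ (hi'.mul hz)) (by rcases hi with rfl | rfl | rfl <;> decide +kernel)
  refine ⟨m, h5, h4, h1, h2, h3, ?_⟩
  have six' : ∀ t : HH false, t * u0 = u0 * t → t * t = 1 → t * (x0 * t * x0⁻¹) * (x0⁻¹ * t * x0) = 1 →
      ∃ l ∈ [1, a0, a1, a2, b0, b1, b2], Cj φ m t l := fun t e1 e2 e3 => by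
    obtain ⟨l, hl⟩ := hφ.ex h2 e1
    refine ⟨l, six l ((hl.mul hz).uniq hφ ((hz.mul hl).cast ?_ rfl)) ((hl.mul hl).uniq hφ ((Cj.one _).cast e2.symm rfl))
      (((hl.mul ((h3.mul hl).mul h3.inv)).mul ((h3.inv.mul hl).mul h3)).uniq hφ ((Cj.one _).cast e3.symm rfl)), hl⟩
    rw [mul_assoc, ← e1, ← mul_assoc, ← mul_assoc, z0_comm]
  obtain ⟨α, hα, ha⟩ := six' a0 (by decide +kernel) (by decide +kernel) (by decide +kernel)
  obtain ⟨β, hβ, hb⟩ := six' b0 (by decide +kernel) (by decide +kernel) (by decide +kernel)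
  -- `m` is a homomorphism on `⟨a, a₁, b, b₁⟩`, and `s m s = m⁻¹`
  have sw : ∀ {k l : HH false}, Cj φ m k l → Cj φ m (s0 * l * s0) (s0 * k * s0) := fun {k l} h => by
    have e1 : Cj φ (φ s0) (s0 * l * s0) l := Cj.of s0 (by
      rw [← mul_assoc, ← mul_assoc, show (s0 * s0 : HH false) = 1 by decide +kernel, one_mul])
    have e2 : Cj φ (φ s0) k (s0 * k * s0) := Cj.of s0 (by
      rw [mul_assoc _ s0 s0, show (s0 * s0 : HH false) = 1 by decide +kernel, mul_one])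
    have := (e1.comp h.symm).comp e2
    rwa [← hsm, show φ s0 * (φ s0 * m * φ s0 * φ s0) = m by
      rw [mul_assoc _ (φ s0) (φ s0), hs, mul_one, ← mul_assoc, hs, one_mul]] at this
  have ha1 := (h3.mul ha).mul h3.inv
  have c1 := ((ha.mul hb).mul (ha.mul hb)).uniq hφ (h1.cast (by decide +kernel) rfl)
  have c2 := ((ha1.mul hb).mul (ha1.mul hb)).uniq hφ (h2.cast (by decide +kernel) rfl)
  have c3 := sw hb
  have : α = a1 ∨ (α = a0 ∧ β = b1) ∨ (α = a2 ∧ β = b0) := by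
    clear c3 ha1 ha hb; revert α β; decide +kernel
  rcases this with rfl | ⟨rfl, rfl⟩ | ⟨rfl, rfl⟩
  · exact ha
  · exact absurd (ha1.uniq hφ (c3.cast (by decide +kernel) rfl)) (by decide +kernel)
  · exact absurd (ha.uniq hφ (c3.cast (by decide +kernel) rfl)) (by decide +kernel)

end Cfsg.Lib.JT
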