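import Cfsg.Agent.S3035
import Cfsg.Agent.Lib.Psp43.Fm
import Cfsg.Agent.Lib.Linear.SmallIso

/-! Step 3 of the J₂/J₃ identification: a group with an involution centraliser `D₈` and two elements of order 3. -/

set_option autoImplicit false
set_option maxRecDepth 100000

namespace Cfsg.Lib.JT

open Cfsg.Lib.FO Cfsg.Lib.Golay Subgroup

namespace S3

/-- the statement, nested as the kernel check evaluates it -/
def Q {G : Type*} [Group G] (z u s m k w : G) : Prop :=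
  u * u = 1 → s * s = 1 → (u * s) * (u * s) = z → m * u = z * m → m * z = z * u * m → m * m * m = 1 →
    (m * s) * (m * s) = 1 → k * s = z * k → k * z = z * s * k → k * k * k = 1 → (k * u) * (k * u) = 1 →
    w * w = 1 → (w * m) * (w * m) = 1 → (w * z) * (w * z) * (w * z) = 1 →
    w = z * k * m * k⁻¹ ∨ w = z * k * m⁻¹ * u * k⁻¹

theorem Q.of_map {G H : Type*} [Group G] [Group H] (f : G →* H) (hf : Function.Injective f) {z u s m k w : G}
    (h : Q (f z) (f u) (f s) (f m) (f k) (f w)) : Q z u s m k w := by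
  unfold Q at h ⊢
  simpa only [← map_mul, ← map_inv, map_eq_one_iff f hf, hf.eq_iff] using h

/-- all squares of elements of order 4 are conjugate to the constant `c 2` -/
def f1 : Fm := .all 0 (.lt (.v 0 * .v 0) (.imp (.eq (.v 0 * .v 0) 1) (.or (.eq (.v 0) 1)
  (.ex 0 (.eq (.v 0 * .v 1) (.c 2 * .v 0))))))

def f2 : Fm :=
  .all 0 <| .imp (.eq (.v 0 * .v 0) 1) <|
  .all 0 <| .imp (.eq (.v 0 * .v 0) 1) <| .imp (.eq ((.v 1 * .v 0) * (.v 1 * .v 0)) (.c 2)) <|
  .all 0 <| .imp (.eq (.v 0 * .v 2) (.c 2 * .v 0)) <| .imp (.eq (.v 0 * .c 2) (.c 2 * .v 2 * .v 0)) <|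
    .imp (.eq (.v 0 * .v 0 * .v 0) 1) <| .imp (.eq ((.v 0 * .v 1) * (.v 0 * .v 1)) 1) <|
  .all 0 <| .imp (.eq (.v 0 * .v 2) (.c 2 * .v 0)) <| .imp (.eq (.v 0 * .c 2) (.c 2 * .v 2 * .v 0)) <|
    .imp (.eq (.v 0 * .v 0 * .v 0) 1) <| .imp (.eq ((.v 0 * .v 3) * (.v 0 * .v 3)) 1) <|
  .all 0 <| .imp (.eq (.v 0 * .v 0) 1) <| .imp (.eq ((.v 0 * .v 2) * (.v 0 * .v 2)) 1) <|
    .imp (.eq ((.v 0 * .c 2) * (.v 0 * .c 2) * (.v 0 * .c 2)) 1) <|
    .or (.eq (.v 0) (.c 2 * .v 1 * .v 2 * (.v 1)⁻¹)) (.eq (.v 0) (.c 2 * .v 1 * (.v 2)⁻¹ * .v 4 * (.v 1)⁻¹))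

theorem Q_of {G : Type*} [Group G] {C : ℕ → G} {A : Subgroup G} (h1 : f1.P C [A] []) (h2 : f2.P C [A] [])
    {z u s m k w : G} (hz : z ≠ 1) (hz2 : z * z = 1) (hu : u ∈ A) (hs : s ∈ A) (hm : m ∈ A) (hk : k ∈ A)
    (hw : w ∈ A) : Q z u s m k w := by
  by_cases e : (u * s) * (u * s) = z
  swap
  · exact fun _ _ h => absurd h e
  obtain h | ⟨g, hg, h⟩ : (u * s) * (u * s) = 1 ∨ ∃ g ∈ A, g * ((u * s) * (u * s)) = C 2 * g :=
    h1 (u * s) (mul_mem hu hs) (show (u * s) * (u * s) * ((u * s) * (u * s)) = 1 by rw [e, hz2])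
  · exact absurd (e.symm.trans h) hz
  have hc : ∀ {x : G}, x ∈ A → (MulAut.conj g).toMonoidHom x ∈ A := fun hx =>
    mul_mem (mul_mem hg hx) (inv_mem hg)
  refine Q.of_map (MulAut.conj g).toMonoidHom (MulAut.conj g).injective ?_
  rw [show (MulAut.conj g).toMonoidHom z = C 2 from mul_inv_eq_of_eq_mul (e ▸ h)]
  exact fun a1 a2 a3 a4 a5 a6 a7 a8 a9 a10 a11 a12 a13 a14 =>
    h2 _ (hc hu) a1 _ (hc hs) a2 a3 _ (hc hm) a4 a5 a6 a7 _ (hc hk) a8 a9 a10 a11 _ (hc hw) a12 a13 a14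

noncomputable abbrev c6 : Coding (Fin 6) := finCoding 6 (by norm_num)
noncomputable abbrev c7 : Coding (Fin 7) := finCoding 7 (by norm_num)

def cs6 : List ℕ := [nat_lit 0x050403020001, nat_lit 0x000504030201, nat_lit 0x050402030001]
def cs7 : List ℕ := [nat_lit 0x04050603020001, nat_lit 0x05030106040200, nat_lit 0x04050603020001]

theorem chk6 : chk 6 1021 10 12 cs6 [[.c 0, .c 1]] (.and (.card 0 720) (.and f1 f2)) = true := by
  decide +kernel

theorem chk7 : chk 7 1021 10 4 cs7 [[.c 0, .c 1]] (.and (Fm.ands [.ne (.c 0) 1, .eq (.c 0 * .c 0) 1,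
    .eq (.c 1 * .c 1 * .c 1) 1, .lt (.c 0 * .c 1) (.eq (.v 0 * .v 0 * .v 0 * .v 0 * .v 0 * .v 0 * .v 0) 1),
    .lt (.c 0 * .c 1 * .c 0 * (.c 1)⁻¹) (.eq (.v 0 * .v 0 * .v 0 * .v 0) 1)]) (.and f1 f2)) = true := by
  decide +kernel

theorem in6 : ∀ y ∈ cs6, c6.InH ⊤ y := fun y hy =>
  ⟨Coding.valid_of_isPerm ((by decide +kernel : ∀ g ∈ cs6, isPerm 6 g = true) y hy), mem_top _⟩

theorem in7 : ∀ y ∈ cs7, c7.InH ⊤ y := fun y hy =>
  ⟨Coding.valid_of_isPerm ((by decide +kernel : ∀ g ∈ cs7, isPerm 7 g = true) y hy), mem_top _⟩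

theorem Q6 {z u s m k w : Equiv.Perm (Fin 6)} (hz : z ≠ 1) (hz2 : z * z = 1) : Q z u s m k w := by
  obtain ⟨h0, h1, h2⟩ := chk_sound (c := c6) (φ := (⊤ : Subgroup (Equiv.Perm (Fin 6))).subtype)
    (subtype_injective _) in6 chk6
  have ht := eq_top_of_card_eq _ (Eq.trans h0 (by rw [Nat.card_perm, Nat.card_fin]; rfl))
  exact Q_of h1 h2 hz hz2 (ht.ge trivial) (ht.ge trivial) (ht.ge trivial) (ht.ge trivial) (ht.ge trivial)

theorem Q7 {z u s m k w : Matrix.SpecialLinearGroup (Fin 3) (ZMod 2)} (hz : z ≠ 1) (hz2 : z * z = 1) :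
    Q z u s m k w := by
  obtain ⟨⟨a1, a2, a3, a4, a5⟩, h1, h2⟩ := chk_sound (c := c7) (φ := (⊤ : Subgroup (Equiv.Perm (Fin 7))).subtype)
    (subtype_injective _) in7 chk7
  set C := cst c7 (⊤ : Subgroup (Equiv.Perm (Fin 7))).subtype cs7
  obtain ⟨φ, hx, hy⟩ := Linear.exists_hom_SL32 (x := C 0) (y := C 1) a2 (by rw [pow_three']; exact a3)
    (by simp only [pow_succ, pow_zero, one_mul]; exact a4) (by simp only [pow_succ, pow_zero, one_mul]; exact a5)
  have := Linear.sl_isSimpleGroup_of_card_two (ι := Fin 3) (F := ZMod 2) (by simp) (by simp)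
  have hi : Function.Injective φ := (MonoidHom.ker_eq_bot_iff φ).1
    ((IsSimpleGroup.eq_bot_or_eq_top_of_normal _ inferInstance).resolve_right fun h =>
      a1 (hx.symm.trans (show Linear.l32x ∈ φ.ker from h ▸ mem_top _)))
  have hA : ∀ g, φ g ∈ gen [C 0, C 1] := fun g => by
    have : (⊤ : Subgroup _) ≤ (gen [C 0, C 1]).comap φ := by
      rw [← Linear.closure_l32, closure_le]
      rintro _ ⟨i, hi, rfl⟩
      have hi : i < 3 := hi
      have b0 : φ Linear.l32x ∈ gen [C 0, C 1] := hx ▸ mem_gen (by simp)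
      have b1 : φ Linear.l32y ∈ gen [C 0, C 1] := hy ▸ mem_gen (by simp)
      interval_cases i
      exacts [b0, b1, inv_mem (show Linear.l32y ∈ (gen [C 0, C 1]).comap φ from b1)]
    exact this (mem_top g)
  exact Q.of_map φ hi (Q_of h1 h2 ((map_ne_one_iff φ hi).2 hz) (by rw [← map_mul, hz2, map_one])
    (hA _) (hA _) (hA _) (hA _) (hA _))

theorem Q_emb {Y : Type*} [Group Y] (f : Y →* Equiv.Perm (Fin 6)) (hf : Function.Injective f) {z u s m k w : Y}
    (hz : z ≠ 1) (hz2 : z * z = 1) : Q z u s m k w :=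
  Q.of_map f hf (Q6 ((map_ne_one_iff f hf).2 hz) (by rw [← map_mul, hz2, map_one]))

end S3

open S3 in
theorem step3 {Y : Type*} [Group Y] [Finite Y] {z u s m k : Y} (hz : orderOf z = 2) (hu : u * u = 1) (hs : s * s = 1)
    (hus : (u * s) ^ 2 = z) (hC : centralizer ({z} : Set Y) = closure {u, s})
    (hm : m ^ 3 = 1) (hms : (m * s) ^ 2 = 1) (hmz : m * z * m⁻¹ = z * u) (hmu : m * u * m⁻¹ = z)
    (hk : k ^ 3 = 1) (hku : (k * u) ^ 2 = 1) (hkz : k * z * k⁻¹ = z * s) (hks : k * s * k⁻¹ = z) :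
    ∀ w : Y, w * w = 1 → (w * m) ^ 2 = 1 → (w * z) ^ 3 = 1 → w = z * k * m * k⁻¹ ∨ w = z * k * m⁻¹ * u * k⁻¹ := by
  classical
  intro w w1 w2 w3
  have z1 : z ≠ 1 := by rintro rfl; simp at hz
  have z2 : z * z = 1 := by rw [← sq, ← hz, pow_orderOf_eq_one]
  suffices h : Q z u s m k w from h hu hs (sq (u * s) ▸ hus) (eq_mul_of_mul_inv_eq hmu) (eq_mul_of_mul_inv_eq hmz)
    (pow_three' m ▸ hm) (sq (m * s) ▸ hms) (eq_mul_of_mul_inv_eq hks) (eq_mul_of_mul_inv_eq hkz) (pow_three' k ▸ hk)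
    (sq (k * u) ▸ hku) w1 (sq (w * m) ▸ w2) (pow_three' (w * z) ▸ w3)
  have u1 : u ≠ 1 := by rintro rfl; exact z1 (by rw [← hmu]; group)
  have uz : u ≠ z := by
    rintro rfl
    rw [hu] at hmz
    exact u1 (by simpa using hmz)
  have ho : orderOf (u * s) = 4 := by
    have : Fact (Nat.Prime 2) := ⟨Nat.prime_two⟩
    exact orderOf_eq_prime_pow (p := 2) (n := 1) (by rw [pow_one, hus]; exact z1)
      (by rw [show 2 ^ (1 + 1) = 2 * 2 from rfl, pow_mul, hus, sq, z2])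
  have hui : u⁻¹ = u := inv_eq_of_mul_eq_one_right hu
  have hsi : s⁻¹ = s := inv_eq_of_mul_eq_one_right hs
  have hD : Nonempty (centralizer ({z} : Set Y) ≃* DihedralGroup 4) := by
    have e : closure ({u, s} : Set Y) = closure {u, u * s} := by
      refine le_antisymm ((closure_le _).2 ?_) ((closure_le _).2 ?_)
      · have b1 : u ∈ closure ({u, u * s} : Set Y) := Subgroup.subset_closure (by simp)
        have b2 : u * s ∈ closure ({u, u * s} : Set Y) := Subgroup.subset_closure (by simp)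
        have := mul_mem (inv_mem b1) b2
        rw [inv_mul_cancel_left] at this
        exact Set.pair_subset b1 this
      · have b1 : u ∈ closure ({u, s} : Set Y) := Subgroup.subset_closure (by simp)
        have b2 : s ∈ closure ({u, s} : Set Y) := Subgroup.subset_closure (by simp)
        exact Set.pair_subset b1 (mul_mem b1 b2)
    rw [hC, e]
    refine Invol.closure_mulEquiv_dihedral hu (by rw [mul_inv_rev, hui, hsi, ← mul_assoc, hu, one_mul]) ho ?_
    intro h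
    obtain ⟨i, hi, e⟩ := (mem_zpowers_iff_mem_range_orderOf.1 h |> Finset.mem_image.1)
    rw [ho, Finset.mem_range] at hi
    interval_cases i
    · exact u1 (by simpa using e.symm)
    · rw [pow_one] at e
      exact z1 (by rw [← hus, e, sq, hu])
    · exact uz (e.symm.trans hus)
    · refine z1 ?_
      have h6 : (u * s) ^ 6 = 1 := by rw [show 6 = 3 + 3 from rfl, pow_add, e, hu]
      rwa [show 6 = 2 * 3 from rfl, pow_mul, hus, pow_three', z2, one_mul] at h6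
  rcases Cfsg.Agent.S3035.result z hz hD with h | ⟨⟨e⟩⟩ | ⟨⟨e⟩⟩ | ⟨⟨e⟩⟩ | ⟨⟨e⟩⟩
  · exfalso
    have hN : ∀ g : Y, g * z * g⁻¹ * z⁻¹ ∈ oddCore Y := fun g => by
      obtain ⟨c, hc, o, ho, rfl⟩ := (mem_sup_of_normal_right.1 (h.ge (mem_top g)))
      have hc' : c * z = z * c := (mem_centralizer_iff.1 hc z rfl).symm
      have : c * o * z * (c * o)⁻¹ * z⁻¹ = c * (o * (z * o⁻¹ * z⁻¹)) * c⁻¹ := by
        calc _ = c * o * z * o⁻¹ * (z * c)⁻¹ := by group
          _ = _ := by rw [← hc']; group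
      rw [this]
      exact Normal.conj_mem inferInstance _ (mul_mem ho (Normal.conj_mem inferInstance _ (inv_mem ho) _)) _
    have hu' : u ∈ oddCore Y := by
      have := Normal.conj_mem inferInstance _ (hN m) z⁻¹
      rwa [hmz, show z⁻¹ * (z * u * z⁻¹) * z⁻¹⁻¹ = u by group] at this
    have : Fact (Nat.Prime 2) := ⟨Nat.prime_two⟩
    have h2 := (oddCore Y).orderOf_dvd_natCard hu'
    rw [orderOf_eq_prime (p := 2) (by rw [sq, hu]) u1] at h2
    exact (Nat.not_even_iff_odd.2 (Core.odd_card_oddCore Y)) (even_iff_two_dvd.2 h2)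
  · exact Q_emb ((Equiv.Perm.viaEmbeddingHom (Fin.castLEEmb (by norm_num : 4 ≤ 6))).comp e.toMonoidHom)
      ((Equiv.Perm.viaEmbeddingHom_injective _).comp e.injective) z1 z2
  · exact Q_emb ((Equiv.Perm.viaEmbeddingHom (Fin.castLEEmb (by norm_num : 5 ≤ 6))).comp e.toMonoidHom)
      ((Equiv.Perm.viaEmbeddingHom_injective _).comp e.injective) z1 z2
  · exact Q.of_map e.toMonoidHom e.injective (Q7 ((map_ne_one_iff e e.injective).2 z1)
      (by rw [← map_mul, z2, map_one]))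
  · exact Q_emb ((alternatingGroup (Fin 6)).subtype.comp e.toMonoidHom)
      ((subtype_injective _).comp e.injective) z1 z2

end Cfsg.Lib.JT
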