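import Cfsg.Agent.Lib.JT.C4
import Cfsg.Agent.Lib.JT.D8

/-! # Type `J₂`/`J₃`: the centraliser of `x` -/

set_option autoImplicit false
set_option maxRecDepth 100000
set_option linter.dupNamespace false

namespace Cfsg.Lib.JT

open Subgroup

theorem cent_x : ∀ k : HH false, k * x0 = x0 * k → ∃ i ∈ [1, x0, x0⁻¹],
    ∃ d ∈ [1, s0, s0 * u0, s0 * u0 * s0, u0, u0 * s0, u0 * s0 * u0, u0 * s0 * u0 * s0], k = d * i := by decide +kernel

def X0 : Subgroup (HH false) where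
  carrier := {k | k ∈ [1, x0, x0⁻¹]}
  mul_mem' := fun {x y} hx hy => (show ∀ x ∈ [1, x0, x0⁻¹], ∀ y ∈ [1, x0, x0⁻¹],
    (x * y : HH false) ∈ [1, x0, x0⁻¹] by decide +kernel) x hx y hy
  one_mem' := List.mem_cons_self
  inv_mem' := fun {x} hx => (show ∀ x ∈ [1, x0, x0⁻¹], (x⁻¹ : HH false) ∈ [1, x0, x0⁻¹] by decide +kernel) x hx

variable {G : Type*} [Group G] {φ : HH false →* G}

theorem map_sq {k : HH false} (h : k * k = 1) : φ k * φ k = 1 := by rw [← map_mul, h, map_one]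

theorem JT.step3' [Finite G] (hφ : JT φ) {m : G} (h : M2 φ m) {w : G} (w1 : w * w = 1) (wx : Cj φ w x0 x0)
    (w2 : (w * m) ^ 2 ∈ X0.map φ) (w3 : (w * φ z0) ^ 3 = 1) : ∃ i ∈ [1, x0, x0⁻¹],
      w = φ z0 * (φ n0 * m * φ n0) * m * (φ n0 * m * φ n0)⁻¹ * φ i ∨
      w = φ z0 * (φ n0 * m * φ n0) * m⁻¹ * φ u0 * (φ n0 * m * φ n0)⁻¹ * φ i := by
  set X := centralizer ({φ x0} : Set G)
  have mX : ∀ {g}, g ∈ X ↔ Cj φ g x0 x0 := fun {g} => mem_centralizer_singleton_iff.trans ⟨Cj.of_eq, Cj.comm⟩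
  set N := (X0.map φ).subgroupOf X
  have hcen : ∀ g : X, ∀ i ∈ X0, Cj φ g.1 i i := fun g i hi => by
    have hi : i ∈ [1, x0, x0⁻¹] := hi
    simp only [List.mem_cons, List.not_mem_nil, or_false] at hi
    rcases hi with rfl | rfl | rfl
    exacts [Cj.one _, mX.1 g.2, (mX.1 g.2).inv]
  have hN : N.Normal := ⟨fun n ⟨i, hi, e⟩ g => ⟨i, hi, by
    change φ i = g.1 * n.1 * g.1⁻¹
    rw [show n.1 = φ i from e.symm, hcen g i hi]⟩⟩
  let π := QuotientGroup.mk' N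
  have n2 : φ n0 * φ n0 = 1 := map_sq (by decide +kernel)
  have ni : (φ n0)⁻¹ = φ n0 := inv_eq_of_mul_eq_one_left n2
  have nn : ∀ {k l k' l'}, Cj φ m k l → n0 * k' = k * n0 → n0 * l = l' * n0 → Cj φ (φ n0 * m * φ n0) k' l' :=
    fun a b c => mul_assoc (φ n0) m _ ▸ ((Cj.of n0 b).comp a).comp (Cj.of n0 c)
  have hz : φ z0 ∈ X := mX.2 (Cj.of _ (by decide +kernel))
  have hu : φ u0 ∈ X := mX.2 (Cj.of _ (by decide +kernel))
  have hs : φ s0 ∈ X := mX.2 (Cj.of _ (by decide +kernel))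
  have hm : m ∈ X := mX.2 h.mx
  have hk : φ n0 * m * φ n0 ∈ X := mX.2 (nn h.mx.inv (by decide +kernel) (by decide +kernel))
  have key := step3 (Y := X ⧸ N) (z := π ⟨_, hz⟩) (u := π ⟨_, hu⟩) (s := π ⟨_, hs⟩) (m := π ⟨_, hm⟩) (k := π ⟨_, hk⟩)
    (orderOf_eq_prime (by rw [← map_pow, ← π.map_one]; congr 1; exact Subtype.ext ((sq _).trans (map_sq (by decide +kernel))))
      fun e => by
        obtain ⟨i, hi, e⟩ := (QuotientGroup.eq_one_iff _).1 e
        exact absurd (hφ.inj e ▸ hi : z0 ∈ [1, x0, x0⁻¹]) (by decide +kernel))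
    (by rw [← map_mul, ← π.map_one]; congr 1; exact Subtype.ext (map_sq (by decide +kernel)))
    (by rw [← map_mul, ← π.map_one]; congr 1; exact Subtype.ext (map_sq (by decide +kernel)))
    (by
      rw [← map_mul, ← map_pow]; congr 1
      exact Subtype.ext (show (φ u0 * φ s0) ^ 2 = φ z0 by
        rw [← map_mul, ← map_pow, show ((u0 * s0) ^ 2 : HH false) = z0 by decide +kernel]))
    (by
      have a1 := subset_closure (k := {π ⟨_, hu⟩, π ⟨_, hs⟩}) (Set.mem_insert _ _)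
      have a2 := subset_closure (k := {π ⟨_, hu⟩, π ⟨_, hs⟩}) (Set.mem_insert_of_mem _ rfl)
      refine le_antisymm (fun g hg => ?_) ((closure_le _).2 ?_)
      · obtain ⟨g, rfl⟩ := QuotientGroup.mk'_surjective N g
        rw [mem_centralizer_singleton_iff, ← map_mul, ← map_mul] at hg
        obtain ⟨_, ⟨i, hi, rfl⟩, e⟩ : ∃ t ∈ X0.map φ, g.1 * φ z0 * t = φ z0 * g.1 := by
          obtain ⟨t, ht, e⟩ := (QuotientGroup.mk'_eq_mk' N).1 hg
          exact ⟨t.1, ht, congrArg Subtype.val e⟩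
        have e1 : Cj φ g.1 z0 (z0 * i⁻¹) := Cj.of_eq (by
          rw [map_mul, mul_assoc, ← (hcen g _ (inv_mem hi)).comm, ← mul_assoc, ← e, map_inv, mul_inv_cancel_right])
        have e2 := (show ∀ i ∈ [1, x0, x0⁻¹], (z0 * i⁻¹ * (z0 * i⁻¹) : HH false) = 1 → z0 * i⁻¹ = z0 by decide +kernel) i hi
          ((e1.mul e1).uniq hφ ((Cj.one _).cast (by decide +kernel) rfl))
        obtain ⟨k, hk⟩ := hφ.mem' (e1.cast rfl e2)
        obtain ⟨i, hi, d, hd, rfl⟩ := cent_x k (hφ.of_cj (hk ▸ mX.1 g.2))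
        have hd' : ∃ hd : φ d ∈ X, π ⟨φ d, hd⟩ ∈ closure {π ⟨_, hu⟩, π ⟨_, hs⟩} := by
          have mu : ∀ {a b : HH false}, (∃ hd : φ a ∈ X, π ⟨φ a, hd⟩ ∈ closure {π ⟨_, hu⟩, π ⟨_, hs⟩}) →
              (∃ hd : φ b ∈ X, π ⟨φ b, hd⟩ ∈ closure {π ⟨_, hu⟩, π ⟨_, hs⟩}) →
              ∃ hd : φ (a * b) ∈ X, π ⟨φ (a * b), hd⟩ ∈ closure {π ⟨_, hu⟩, π ⟨_, hs⟩} := fun ⟨x1, x2⟩ ⟨y1, y2⟩ =>
            ⟨map_mul φ _ _ ▸ mul_mem x1 y1, by
              have := mul_mem x2 y2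
              rw [← map_mul] at this
              convert this using 2
              exact Subtype.ext (map_mul φ _ _)⟩
          have U : ∃ hd : φ u0 ∈ X, π ⟨φ u0, hd⟩ ∈ closure {π ⟨_, hu⟩, π ⟨_, hs⟩} := ⟨hu, a1⟩
          have S : ∃ hd : φ s0 ∈ X, π ⟨φ s0, hd⟩ ∈ closure {π ⟨_, hu⟩, π ⟨_, hs⟩} := ⟨hs, a2⟩
          simp only [List.mem_cons, List.not_mem_nil, or_false] at hd
          rcases hd with rfl | rfl | rfl | rfl | rfl | rfl | rfl | rfl
          exacts [⟨by simp, by simp [show ∀ h, (⟨1, h⟩ : X) = 1 from fun _ => rfl]⟩, S, mu S U, mu (mu S U) S, U, mu U S,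
            mu (mu U S) U, mu (mu (mu U S) U) S]
        obtain ⟨d1, d2⟩ := hd'
        convert d2 using 1
        refine ((QuotientGroup.mk'_eq_mk' N).2 ⟨⟨φ i, ?_⟩, ⟨i, hi, rfl⟩, Subtype.ext ((map_mul φ d i).symm.trans hk)⟩).symm
        exact (mul_mem_cancel_left d1).1 (map_mul φ d i ▸ hk ▸ g.2)
      · rintro _ (rfl | rfl) <;> rw [SetLike.mem_coe, mem_centralizer_singleton_iff, ← map_mul, ← map_mul] <;> congr 1 <;>
          exact Subtype.ext (Cj.of _ (z0_comm _)).comm)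
    (by rw [← map_pow, ← π.map_one]; congr 1; exact Subtype.ext h.m3)
    (by rw [← map_mul, ← map_pow, ← π.map_one]; congr 1; exact Subtype.ext h.ms)
    (by rw [← map_inv, ← map_mul, ← map_mul, ← map_mul]; congr 1; exact Subtype.ext (h.mz.trans (map_mul φ _ _)))
    (by rw [← map_inv, ← map_mul, ← map_mul]; congr 1; exact Subtype.ext h.mu)
    (by
      rw [← map_pow, ← π.map_one]; congr 1
      exact Subtype.ext (show (φ n0 * m * φ n0) ^ 3 = 1 by nth_rw 2 [← ni]; rw [conj_pow, h.m3]; simp))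
    (by
      rw [← map_mul, ← map_pow, ← π.map_one]; congr 1
      refine Subtype.ext (show (φ n0 * m * φ n0 * φ u0) ^ 2 = 1 from ?_)
      rw [mul_assoc, (Cj.of (l := s0) n0 (by decide +kernel)).eq, ← mul_assoc, mul_assoc _ m]
      nth_rw 2 [← ni]; rw [conj_pow, h.ms]; simp)
    (by
      rw [← map_inv, ← map_mul, ← map_mul, ← map_mul]; congr 1
      exact Subtype.ext ((nn h.mz (z0_comm _) (by decide +kernel)).trans (map_mul φ _ _)))
    (by rw [← map_inv, ← map_mul, ← map_mul]; congr 1; exact Subtype.ext (nn h.mu (by decide +kernel) (z0_comm _)))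
    (π ⟨w, mX.2 wx⟩) (by rw [← map_mul, ← π.map_one]; congr 1; exact Subtype.ext w1)
    (by rw [← map_mul, ← map_pow]; exact (QuotientGroup.eq_one_iff _).2 w2)
    (by rw [← map_mul, ← map_pow, ← π.map_one]; congr 1; exact Subtype.ext w3)
  simp only [← map_inv, ← map_mul] at key
  rcases key with e | e <;> obtain ⟨t, ⟨i, hi, ht⟩, e⟩ := (QuotientGroup.mk'_eq_mk' N).1 e.symm
  · exact ⟨i, hi, .inl (by rw [ht]; exact (congrArg Subtype.val e).symm)⟩
  · exact ⟨i, hi, .inr (by rw [ht]; exact (congrArg Subtype.val e).symm)⟩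

end Cfsg.Lib.JT
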