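import Cfsg.Agent.Lib.JT.H0

/-! # Groups of type `J₂`/`J₃`: the involution centraliser is `HH false = 2^{1+4}_-:A₅` -/

set_option autoImplicit false

namespace Cfsg.Lib.JT

/-- `φ` identifies `HH false` with the centraliser of `z = φ z0`, and `z` is conjugate to `u = φ u0 ∈ Q`. -/
structure JT {G : Type*} [Group G] (φ : HH false →* G) : Prop where
  inj : Function.Injective φ
  cent : φ.range = Subgroup.centralizer {φ z0}
  fus : IsConj (φ z0) (φ u0)

end Cfsg.Lib.JT
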