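import Cfsg.Agent.Lib.JT.Id1

/-! # Identification of `2^{1+4}.A₅` with the table groups -/

set_option autoImplicit false
set_option maxRecDepth 100000
set_option synthInstance.maxSize 2000

namespace Cfsg.Lib.JT

open Subgroup Cfsg.Lib.Comp Cfsg.Lib.Known2

noncomputable instance decAllQ (P : Q0 false → Prop) [DecidablePred P] : Decidable (∀ x, P x) :=
  decidable_of_iff (∀ q : Fin 32, P ⟨⟨q, 0⟩, rfl⟩) ⟨fun h ⟨⟨q, p⟩, hp⟩ => by obtain rfl : p = 0 := hp; exact h q, fun h _ => h _⟩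
noncomputable instance decExQ (P : Q0 false → Prop) [DecidablePred P] : Decidable (∃ x, P x) :=
  decidable_of_iff (∃ q : Fin 32, P ⟨⟨q, 0⟩, rfl⟩)
    ⟨fun ⟨_, h⟩ => ⟨_, h⟩, fun ⟨⟨⟨q, p⟩, hp⟩, h⟩ => by obtain rfl : p = 0 := hp; exact ⟨q, h⟩⟩

def zQ : Q0 false := ⟨z0, rfl⟩
def UQ : Fin 5 → Q0 false := ![⟨u0, rfl⟩, ⟨p0, rfl⟩, ⟨q0, rfl⟩, ⟨r0, rfl⟩, ⟨s0, rfl⟩]

theorem invQ : ∀ t : Q0 false, t * t = 1 → t = 1 ∨ t = zQ ∨ ∃ i, t = UQ i ∨ t = UQ i * zQ := by decide +kernel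
theorem uniQ : ∀ i j, UQ i = UQ j ∨ UQ i = UQ j * zQ → i = j := by decide +kernel
theorem corQ : ∀ e0 ∈ [1, zQ], ∀ e1 ∈ [1, zQ], ∀ e2 ∈ [1, zQ], ∀ e3 ∈ [1, zQ], ∃ t, t * UQ 0 * t⁻¹ = UQ 0 * e0 ∧
    t * UQ 1 * t⁻¹ = UQ 1 * e1 ∧ t * UQ 2 * t⁻¹ = UQ 2 * e2 ∧ t * UQ 3 * t⁻¹ = UQ 3 * e3 := by decide +kernel

theorem cent_Q' : ∀ (e : Bool) (k : HH e), k * u0 = u0 * k → k * p0 = p0 * k → k * q0 = q0 * k → k * r0 = r0 * k → k = 1 ∨ k = z0 := by
  decide +kernel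
theorem ncl_q' : ∀ (e : Bool) (q : Fin 32), (⟨q, 0⟩ : HH e) = 1 ∨ (⟨q, 0⟩ : HH e) = z0 ∨
    ∃ d ∈ [u0, p0, q0, r0], (⟨q, 0⟩ : HH e) * (d * (⟨q, 0⟩ : HH e)⁻¹ * d⁻¹) = z0 := by decide +kernel

theorem Q0_normal' (e : Bool) : (Q0 e).Normal := ⟨fun k hk c => by
  change pm (pm c.p k.p) (pi' c.p) = 0
  rw [show k.p = 0 from hk]; generalize c.p = p; revert p; decide +kernel⟩

theorem z0_mem {e : Bool} (N : Subgroup (HH e)) [hN : N.Normal] {k : HH e} (hk : k ∈ N) (k1 : k ≠ 1) : z0 ∈ N := by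
  have hc : ∀ k ∈ N, ∀ c, k * (c * k⁻¹ * c⁻¹) ∈ N := fun k hk c => mul_mem hk (hN.conj_mem _ (inv_mem hk) c)
  have hq : ∀ t ∈ Q0 e, k * t = t * k ∨ z0 ∈ N := fun t ht => by
    have h1 := hc k hk t
    have h2 : k * (t * k⁻¹ * t⁻¹) ∈ Q0 e := by
      simpa only [mul_assoc] using mul_mem ((Q0_normal' _).conj_mem t ht k) (inv_mem ht)
    generalize e : k * (t * k⁻¹ * t⁻¹) = l at h1 h2
    obtain ⟨q, p⟩ := l
    obtain rfl : p = 0 := h2
    rcases ncl_q' _ q with e1 | e1 | ⟨d, -, e1⟩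
    · left; rw [e1] at e; rw [← mul_inv_eq_one, ← e]; group
    · exact .inr (e1 ▸ h1 :)
    · exact .inr (e1 ▸ hc _ h1 d :)
  by_contra hz
  rcases cent_Q' _ k ((hq _ rfl).resolve_right hz) ((hq _ rfl).resolve_right hz) ((hq _ rfl).resolve_right hz)
    ((hq _ rfl).resolve_right hz) with rfl | rfl
  exacts [k1 rfl, hz hk]

variable {H : Type*} [Group H] {Q : Subgroup H} {z c : H} {U : Fin 5 → H}

theorem Pent.rels (h : ES Q z) (hU : Pent Q z c U) (a v : H) : Rels (lt8 z (U 0) (U 1) (U 2) (U 3) (U 4) a v) JTa.T1_R := by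
  have a1 : ∀ i, (z * U i) ^ 2 = 1 := fun i => by
    rw [_root_.sq, mul_assoc, ← mul_assoc (U i), h.cen _ (hU.mem i), mul_assoc, hU.sq, mul_one, h.sq]
  have a2 : ∀ i j, i ≠ j → U i * (U j * (U i * (U j * z))) = 1 := fun i j hij => by
    rw [← mul_assoc (U i) (U j) z, h.anti (hU.mem i) (hU.mem j) (hU.anti i j hij), mul_assoc _ z, h.sq, mul_one,
      ← mul_assoc (U j), hU.sq, one_mul, hU.sq]
  simp only [Rels, JTa.T1_R, List.forall_mem_cons, ev, List.map, List.prod_cons, List.prod_nil, mul_one, lt8]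
  norm_num
  simp only [a1, hU.prod, true_and]
  simp [a2, _root_.sq, h.sq, hU.sq]

theorem Pent.iv (h : ES Q z) (hU : Pent Q z c U) (a v : H) : IvOK (lt8 z (U 0) (U 1) (U 2) (U 3) (U 4) a v) JTa.iv :=
  lt8_iv a v h.sq (hU.sq _) (hU.sq _) (hU.sq _) (hU.sq _) (hU.sq _)

theorem Pent.theta [Finite H] (h : ES Q z) (hU : Pent Q z c U) (hc : Nat.card Q = 32) :
    ∃ θ : Q0 false →* H, Function.Injective θ ∧ θ.range = Q ∧ θ zQ = z ∧ ∀ i, θ (UQ i) = U i := by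
  obtain ⟨f, hf⟩ := hom_of_ord JTa.T1_ord (iv0 false) (rel_q false) (hU.iv h 1 1) (hU.rels h 1 1) (by rw [cl_Q, card_Q0])
  let θ := f.comp (MulEquiv.subgroupCongr (cl_Q false).symm).toMonoidHom
  have k : ∀ i (hi : i ∈ [1, 2, 3, 4, 5, 6]) (t : Q0 false), t.1 = γ0 false i → θ t = lt8 z (U 0) (U 1) (U 2) (U 3) (U 4) 1 1 i :=
    fun i hi t e => by
      rw [← ev_single (lt8 z (U 0) (U 1) (U 2) (U 3) (U 4) 1 1) i, ← hf [i] (by simpa using hi)]
      exact congrArg f (Subtype.ext (e.trans (ev_single _ i).symm))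
  have h1 : θ zQ = z := k 1 (by simp) _ rfl
  have h2 : ∀ i, θ (UQ i) = U i := fun i => by
    fin_cases i
    exacts [k 2 (by simp) _ rfl, k 3 (by simp) _ rfl, k 4 (by simp) _ rfl, k 5 (by simp) _ rfl, k 6 (by simp) _ rfl]
  have h3 := hU.gen θ.range ⟨_, h1⟩ fun i => ⟨_, h2 i⟩
  have h4 : Nat.card θ.range ≤ 32 := card_Q0 false ▸ Nat.card_le_card_of_surjective _ θ.rangeRestrict_surjective
  have h5 := (eq_of_le_of_card_ge h3 (hc ▸ h4)).symm
  exact ⟨θ, θ.rangeRestrict_injective_iff.1 ((Nat.bijective_iff_surjective_and_card _).2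
    ⟨θ.rangeRestrict_surjective, by rw [h5, hc, card_Q0]⟩).1, h5, h1, h2⟩

theorem Pent.lift [Finite H] [hn : Q.Normal] (h : ES Q z) (hU : Pent Q z c U) (hz : ∀ g, g * z = z * g) (hc : Nat.card Q = 32)
    (hs : IsSimpleGroup (H ⧸ Q)) (h60 : Nat.card (H ⧸ Q) = 60) (τ : Equiv.Perm (Fin 5)) (hτ : τ ∈ alternatingGroup (Fin 5))
    (h4 : (UQ (τ 0) * (UQ (τ 1) * (UQ (τ 2) * UQ (τ 3))))⁻¹ = UQ (τ 4)) : ∃ g : H, ∀ i, g * U i * g⁻¹ = U (τ i) := by
  obtain ⟨θ, θi, θr, θz, θU⟩ := hU.theta h hc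
  have cz : ∀ g, g * z * g⁻¹ = z := fun g => by rw [hz, mul_inv_cancel_right]
  let P : H → Fin 5 → Fin 5 → Prop := fun g i j => g * U i * g⁻¹ = U j ∨ g * U i * g⁻¹ = U j * z
  have ex : ∀ g i, ∃ j, P g i j := fun g i => by
    obtain ⟨t, ht⟩ := θr.ge (hn.conj_mem _ (hU.mem i) g)
    have n : ¬ (U i = 1 ∨ U i = z) := by
      obtain ⟨j, hj⟩ := exists_ne i
      have := hU.anti j i hj
      rintro (e | e) <;> simp [e, hz] at this
    rcases invQ t (θi (by rw [map_mul, ht, conj_mul, hU.sq]; simp)) with rfl | rfl | ⟨j, rfl | rfl⟩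
    · exact absurd (.inl (conj_eq_one_iff.1 (ht.symm.trans θ.map_one))) n
    · exact absurd (.inr (by rw [θz, ← cz g] at ht; exact (mul_left_cancel (mul_right_cancel ht)).symm)) n
    · exact ⟨j, .inl (by rw [← ht, θU])⟩
    · exact ⟨j, .inr (by rw [← ht, map_mul, θU, θz])⟩
  have un : ∀ {g i j j'}, P g i j → P g i j' → j = j' := fun {g i j j'} a b => uniQ j j' (by
    rw [← θi.eq_iff, ← θi.eq_iff, map_mul, θU, θU, θz]
    rcases a with a | a <;> rcases b with b | b <;> rw [a] at b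
    exacts [.inl b, .inr b, .inr (by rw [← b, mul_assoc, h.sq, mul_one]), .inl (mul_right_cancel b)])
  have co : ∀ {g g' i j k}, P g i j → P g' j k → P (g' * g) i k := fun {g g' i j k} a b => by
    have e : g' * g * U i * (g' * g)⁻¹ = g' * (g * U i * g⁻¹) * g'⁻¹ := by group
    rcases a with a | a <;> rcases b with b | b
    · exact .inl (by rw [e, a, b])
    · exact .inr (by rw [e, a, b])
    · exact .inr (by rw [e, a, ← conj_mul, b, cz])
    · exact .inl (by rw [e, a, ← conj_mul, b, cz, mul_assoc, h.sq, mul_one])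
  choose s hs' using ex
  let act : MulAction H (Fin 5) :=
    { smul := s
      one_smul := fun i => un (hs' 1 i) (.inl (by simp))
      mul_smul := fun g g' i => un (hs' _ i) (co (hs' g' i) (hs' g _)) }
  let σ := MulAction.toPermHom H (Fin 5)
  have σP : ∀ g i, P g i (σ g i) := hs'
  have k1 : Q ≤ σ.ker := fun g hg => Equiv.ext fun i => un (σP g i) (h.conj_eq hg (hU.mem i))
  have k2 : σ.ker = Q := by
    rcases (σ.normal_ker.map _ (QuotientGroup.mk'_surjective Q)).eq_bot_or_eq_top with e | e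
    · exact le_antisymm (by rwa [Subgroup.map_eq_bot_iff, QuotientGroup.ker_mk'] at e) k1
    · have := congrArg (comap (QuotientGroup.mk' Q)) e
      rw [comap_map_eq, QuotientGroup.ker_mk', sup_eq_left.2 k1, comap_top] at this
      have h1 := σP c 0
      rw [show σ c = 1 from this.ge (mem_top c)] at h1
      exact absurd (un h1 (.inl hU.cj)) (by decide)
  have k3 : σ.range = alternatingGroup (Fin 5) := Equiv.Perm.eq_alternatingGroup_of_index_eq_two (by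
    have h1 := σ.range.card_mul_index
    rw [← index_ker, k2, index_eq_card, h60, Nat.card_perm, Nat.card_eq_fintype_card, Fintype.card_fin] at h1
    norm_num [Nat.factorial] at h1; omega)
  obtain ⟨g, rfl⟩ := k3.ge hτ
  have sg : ∀ i, ∃ e ∈ [1, zQ], g * (U i * θ e) * g⁻¹ = U (σ g i) := fun i => by
    rcases σP g i with e | e
    · exact ⟨1, by simp, by simpa using e⟩
    · exact ⟨zQ, by simp, by rw [θz, ← conj_mul, e, cz, mul_assoc, h.sq, mul_one]⟩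
  obtain ⟨e0, a0, b0⟩ := sg 0
  obtain ⟨e1, a1, b1⟩ := sg 1
  obtain ⟨e2, a2, b2⟩ := sg 2
  obtain ⟨e3, a3, b3⟩ := sg 3
  obtain ⟨t, t0, t1, t2, t3⟩ := corQ e0 a0 e1 a1 e2 a2 e3 a3
  have k : ∀ i e, t * UQ i * t⁻¹ = UQ i * e → g * (U i * θ e) * g⁻¹ = U (σ g i) → g * θ t * U i * (g * θ t)⁻¹ = U (σ g i) :=
    fun i e a b => by rw [← b, ← θU i, ← map_mul, ← a, map_mul, map_mul, map_inv]; group
  refine ⟨g * θ t, fun i => ?_⟩
  fin_cases i
  exacts [k _ _ t0 b0, k _ _ t1 b1, k _ _ t2 b2, k _ _ t3 b3, by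
    change _ * U 4 * _ = U (σ g 4)
    have : U 4 = (U 0 * (U 1 * (U 2 * U 3)))⁻¹ := eq_inv_of_mul_eq_one_right (by simpa only [mul_assoc] using hU.prod)
    rw [this, ← conj_inv, ← conj_mul, ← conj_mul, ← conj_mul, k _ _ t0 b0, k _ _ t1 b1, k _ _ t2 b2, k _ _ t3 b3, ← θU, ← θU, ← θU,
      ← θU, ← θU, ← h4, map_inv, map_mul, map_mul, map_mul]]

theorem ident_core [Finite H] [hn : Q.Normal] (h : ES Q z) (hz : ∀ g, g * z = z * g) (hc : Nat.card Q = 32)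
    (h2c : ∀ g, (∀ x ∈ Q, g * x = x * g) → g ∈ Q) (hs : IsSimpleGroup (H ⧸ Q)) (h60 : Nat.card (H ⧸ Q) = 60) :
    ∃ (b : Bool) (φ : HH b →* H), Function.Bijective φ ∧ φ z0 = z ∧ (Q0 b).map φ = Q := by
  have : Fact (Nat.Prime 5) := ⟨by norm_num⟩
  have hH : Nat.card H = 1920 := by rw [card_eq_card_quotient_mul_card_subgroup Q, h60, hc]
  obtain ⟨c, c5⟩ := exists_prime_orderOf_dvd_card' (G := H) 5 (by rw [hH]; norm_num)
  obtain ⟨U, hU⟩ := exists_pent h hz hc (c5 ▸ pow_orderOf_eq_one c) fun e => by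
    have := Q.orderOf_dvd_natCard (h2c c e)
    rw [c5, hc] at this; norm_num at this
  obtain ⟨a, ha⟩ := hU.lift h hz hc hs h60 (Equiv.swap 1 4 * Equiv.swap 2 3) (Equiv.Perm.mem_alternatingGroup.2 (by decide +kernel))
    (by decide +kernel)
  obtain ⟨v, hv⟩ := hU.lift h hz hc hs h60 (Equiv.swap 0 2 * Equiv.swap 0 1) (Equiv.Perm.mem_alternatingGroup.2 (by decide +kernel))
    (by decide +kernel)
  have fix : ∀ g : H, (∀ i, g * U i * g⁻¹ = U i) → g = 1 ∨ g = z := fun g hg => by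
    have : ∀ x ∈ Q, g * x = x * g := fun x hx => (hU.gen (centralizer {g}) (mem_centralizer_singleton_iff.2 (hz g).symm)
      (fun i => mem_centralizer_singleton_iff.2 (mul_inv_eq_iff_eq_mul.1 (hg i)).symm) hx g rfl)
    exact h.of_cen g (h2c g this) this
  have co : ∀ {g g' : H} {τ τ' : Equiv.Perm (Fin 5)}, (∀ i, g * U i * g⁻¹ = U (τ i)) → (∀ i, g' * U i * g'⁻¹ = U (τ' i)) →
      ∀ i, g * g' * U i * (g * g')⁻¹ = U ((τ * τ') i) := fun a b i => by rw [Equiv.Perm.mul_apply, ← a, ← b]; group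
  have pw : ∀ {g : H} {τ : Equiv.Perm (Fin 5)}, (∀ i, g * U i * g⁻¹ = U (τ i)) → ∀ n : ℕ, τ ^ n = 1 → g ^ n = 1 ∨ g ^ n = z :=
    fun {g τ} a n e => fix _ (by
      have : ∀ n : ℕ, ∀ i, g ^ n * U i * (g ^ n)⁻¹ = U ((τ ^ n) i) := fun n => by
        induction n with
        | zero => simp
        | succ n ih => rw [pow_succ, pow_succ]; exact co ih a
      simpa [e] using this n)
  have zU : ∀ {g : H} {τ : Equiv.Perm (Fin 5)}, (∀ i, g * U i * g⁻¹ = U (τ i)) → ∀ i, g * z * U i * (g * z)⁻¹ = U (τ i) :=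
    fun a i => by rw [← a, mul_assoc _ z, ← hz, mul_inv_rev, ← mul_assoc, ← mul_assoc, mul_inv_cancel_right]
  have zp : ∀ (g : H) (n : ℕ), (g * z) ^ n = g ^ n * z ^ n := fun g n => Commute.mul_pow (hz g) n
  have z3 : z * z ^ 3 = 1 := by rw [pow_three', h.sq, one_mul, h.sq]
  have z5 : z * z ^ 5 = 1 := by rw [← pow_succ', show 5 + 1 = 2 * 3 from rfl, pow_mul, sq, h.sq, one_pow]
  obtain ⟨v, hv, v3⟩ : ∃ v : H, (∀ i, v * U i * v⁻¹ = U ((Equiv.swap 0 2 * Equiv.swap 0 1 : Equiv.Perm (Fin 5)) i)) ∧ v ^ 3 = 1 := by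
    rcases pw hv 3 (by decide +kernel) with e | e
    exacts [⟨v, hv, e⟩, ⟨v * z, zU hv, by rw [zp, e, z3]⟩]
  obtain ⟨a, ha, a5⟩ : ∃ a : H, (∀ i, a * U i * a⁻¹ = U ((Equiv.swap 1 4 * Equiv.swap 2 3 : Equiv.Perm (Fin 5)) i)) ∧
      (a * v) ^ 5 = 1 := by
    rcases pw (co ha hv) 5 (by decide +kernel) with e | e
    exacts [⟨a, ha, e⟩, ⟨a * z, zU ha, by rw [mul_assoc, ← hz, ← mul_assoc, zp, e, z5]⟩]
  have r1 : Rels (lt8 z (U 0) (U 1) (U 2) (U 3) (U 4) a v) [([1, 8, 1, 7], 0), ([7, 2, 8, 2], 0), ([7, 3, 8, 6], 0),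
      ([7, 4, 8, 5], 0), ([7, 5, 8, 4], 0), ([7, 6, 8, 3], 0), ([1, 10, 1, 9], 0), ([9, 2, 10, 3], 0), ([9, 3, 10, 4], 0),
      ([9, 4, 10, 2], 0), ([9, 5, 10, 5], 0), ([9, 6, 10, 6], 0), ([9], 2), ([7, 9], 4), ([7, 8], 0), ([9, 10], 0)] := by
    have k : ∀ {g : H} {τ : Equiv.Perm (Fin 5)}, (∀ i, g * U i * g⁻¹ = U (τ i)) → ∀ i j, τ i = j → g * (U i * (g⁻¹ * U j)) = 1 :=
      fun a i j e => by rw [← mul_assoc, ← mul_assoc, a, e, hU.sq]
    have k' : ∀ g : H, z * (g⁻¹ * (z * g)) = 1 := fun g => by rw [← hz g, inv_mul_cancel_left, h.sq]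
    simp only [Rels, List.forall_mem_cons, ev, List.map, List.prod_cons, List.prod_nil, mul_one, lt8]
    norm_num
    exact ⟨k' a, k ha _ _ rfl, k ha _ _ rfl, k ha _ _ rfl, k ha _ _ rfl, k ha _ _ rfl, k' v, k hv _ _ rfl, k hv _ _ rfl, k hv _ _ rfl,
      k hv _ _ rfl, k hv _ _ rfl, v3, a5⟩
  have fin : ∀ (b : Bool) (R : List (List ℕ × ℕ)), Ord JTa.iv R JTa.L 1920 → Rels (γ0 b) R →
      Rels (lt8 z (U 0) (U 1) (U 2) (U 3) (U 4) a v) R →
      ∃ (b : Bool) (φ : HH b →* H), Function.Bijective φ ∧ φ z0 = z ∧ (Q0 b).map φ = Q := fun b R o s1 s2 => by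
    obtain ⟨f, hf⟩ := hom_of_ord o (iv0 b) s1 (hU.iv h a v) s2 (by rw [cl_top, card_top, card_HH])
    let φ := f.comp ((MulEquiv.subgroupCongr (cl_top b).symm).toMonoidHom.comp topEquiv.symm.toMonoidHom)
    have k : ∀ i ∈ JTa.L, φ (γ0 b i) = lt8 z (U 0) (U 1) (U 2) (U 3) (U 4) a v i := fun i hi => by
      rw [← ev_single (γ0 b) i, ← ev_single (lt8 z (U 0) (U 1) (U 2) (U 3) (U 4) a v) i, ← hf [i] (by simpa using hi)]; rfl
    have h1 : φ z0 = z := k 1 (by decide +kernel)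
    have h2 : Function.Injective φ := (injective_iff_map_eq_one φ).2 fun x hx => by_contra fun x1 =>
      h.ne (h1 ▸ z0_mem φ.ker hx x1)
    refine ⟨b, φ, (Nat.bijective_iff_injective_and_card _).2 ⟨h2, by rw [hH, card_HH]⟩, h1,
      (eq_of_le_of_card_ge (hU.gen ((Q0 b).map φ) ⟨_, rfl, h1⟩ fun i => ?_) (by rw [card_map_of_injective h2, card_Q0, hc])).symm⟩
    fin_cases i
    exacts [⟨_, rfl, k 2 (by decide +kernel)⟩, ⟨_, rfl, k 3 (by decide +kernel)⟩, ⟨_, rfl, k 4 (by decide +kernel)⟩,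
      ⟨_, rfl, k 5 (by decide +kernel)⟩, ⟨_, rfl, k 6 (by decide +kernel)⟩]
  rcases pw ha 2 (by decide +kernel) with e | e
  · exact fin false _ JTa.ord rel_a ((((hU.rels h a v).append r1).append (R' := [([7], 1)]) (by simpa [Rels, ev, lt8] using e)).mono
      (by decide +kernel))
  · exact fin true _ JTb.ord rel_b ((((hU.rels h a v).append r1).append (R' := [([7, 7, 1], 0)]) (by
      simp [Rels, ev, lt8]; rw [← mul_assoc, ← sq, e, h.sq])).mono (by decide +kernel))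

end Cfsg.Lib.JT
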