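import Cfsg.Agent.Lib.JT.P1

/-! # Type `J₂`/`J₃`: uniqueness -/

set_option autoImplicit false
set_option linter.dupNamespace false

namespace Cfsg.Lib.JT

open Subgroup Cfsg.Lib.Comp

variable {G G' : Type*} [Group G] [Group G'] {φ : HH false →* G} {ψ : HH false →* G'}

theorem Cj.prod {g : G} {g' : G'} {k l : HH false} (a : Cj φ g k l) (b : Cj ψ g' k l) : Cj (φ.prod ψ) (g, g') k l :=
  Prod.ext a b

theorem M2.prod {m : G} {m' : G'} (a : M2 φ m) (b : M2 ψ m') : M2 (φ.prod ψ) (m, m') :=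
  ⟨Prod.ext a.m3 b.m3, Prod.ext a.ms b.ms, a.mz.prod b.mz, a.mu.prod b.mu, a.mx.prod b.mx, a.ma.prod b.ma⟩

theorem gam_prod (m w : G) (m' w' : G') : gam (φ.prod ψ) (m, m') (w, w') = fun i => (gam φ m w i, gam ψ m' w' i) := by
  funext i
  unfold gam
  split_ifs
  · rfl
  · generalize i - 11 = j
    rcases j with _ | _ | _ | _ | _ | j <;> rfl

theorem iso_of_card [IsSimpleGroup G] [Nontrivial G'] {γ : ℕ → G} {δ : ℕ → G'} {L : List ℕ} (h1 : cl γ L = ⊤) (h2 : cl δ L = ⊤)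
    (h : Finite (cl (fun i => (γ i, δ i)) L) ∧ Nat.card (cl (fun i => (γ i, δ i)) L) ≤ Nat.card G) : Nonempty (G' ≃* G) := by
  have := h.1
  obtain ⟨f, hf⟩ := hom_of_card (γ := γ) (δ := δ) (L := L) (by rw [h1, card_top]; exact h.2)
  let g : G →* G' := f.comp ((MulEquiv.subgroupCongr h1.symm).toMonoidHom.comp topEquiv.symm.toMonoidHom)
  have hs : Function.Surjective g := by
    rw [← MonoidHom.range_eq_top, eq_top_iff, ← h2]
    refine cl_le.2 fun x hx => ⟨ev γ [x], ?_⟩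
    rw [← ev_single δ x]; exact hf [x] (by simpa using hx)
  have hi : Function.Injective g := (MonoidHom.ker_eq_bot_iff g).1 ((g.normal_ker.eq_bot_or_eq_top).resolve_right fun e => by
    obtain ⟨y, hy⟩ := exists_ne (1 : G')
    obtain ⟨x, rfl⟩ := hs y
    exact hy (e.ge (mem_top x)))
  exact ⟨(MulEquiv.ofBijective g ⟨hi, hs⟩).symm⟩

variable [Finite G] [Finite G']

theorem JT.iso_I (hφ : JT φ) (hψ : JT ψ) (a : ¬ IsConj (φ z0) (φ a0)) (b : ¬ IsConj (ψ z0) (ψ a0)) (hc : Nat.card G = 604800) :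
    Nonempty (G' ≃* G) := by
  obtain ⟨m, w, h1, h2, h3, h4⟩ := hφ.caseI a
  obtain ⟨m', w', k1, k2, k3, k4⟩ := hψ.caseI b
  have := hφ.simple
  have := hψ.simple
  refine iso_of_card h4 k4 ?_
  rw [← gam_prod, hc]
  exact card_I (h1.prod k1) ⟨Prod.ext h2.w2 k2.w2, Prod.ext h2.wy k2.wy, Prod.ext h2.wz k2.wz, h2.wa.prod k2.wa, h2.wx.prod k2.wx⟩
    (Prod.ext h3 k3)

theorem JT.iso_II (hφ : JT φ) (hψ : JT ψ) (a : IsConj (φ z0) (φ a0)) (b : IsConj (ψ z0) (ψ a0)) (hc : Nat.card G = 50232960) :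
    Nonempty (G' ≃* G) := by
  obtain ⟨m, w, h1, h2, h3, h4⟩ := hφ.caseII a
  obtain ⟨m', w', k1, k2, k3, k4⟩ := hψ.caseII b
  have := hφ.simple
  have := hψ.simple
  refine iso_of_card h4 k4 ?_
  rw [← gam_prod, hc]
  exact card_II (h1.prod k1) ⟨Prod.ext h2.w2 k2.w2, h2.wz.prod k2.wz, Prod.ext h2.wx k2.wx, Prod.ext h2.wb k2.wb⟩ (Prod.ext h3 k3)

/-- in case II all involutions are conjugate -/
theorem JT.conj_of_II (hφ : JT φ) (a : IsConj (φ z0) (φ a0)) {t : G} (ht : orderOf t = 2) : IsConj (φ z0) t := by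
  obtain ⟨g, -, e | e | e | e⟩ := hφ.inv_into le_top (mem_top t) (by rw [← sq, ← ht, pow_orderOf_eq_one])
  · simp [e] at ht
  · exact (isConj_iff.2 ⟨g, e⟩).symm
  · exact hφ.fus.trans (isConj_iff.2 ⟨g, e⟩).symm
  · exact a.trans (isConj_iff.2 ⟨g, e⟩).symm

end Cfsg.Lib.JT
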