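import Cfsg.Agent.Lib.Psp43.Fm
import Cfsg.Agent.Lib.Golay.Cls
import Cfsg.Agent.Lib.Core.PCore
import Cfsg.Agent.Lib.Linear.Triangle
import Cfsg.Agent.Lib.J2.Five

/-! General lemmas for local facts about explicit groups. -/

set_option autoImplicit false

namespace Cfsg.Lib.JT

open Subgroup MulAction Cfsg.Lib.Golay Cfsg.Lib.FO

variable {G : Type*} [Group G]

section
variable {α : Type*} {c : Coding α} {H : Subgroup (Equiv.Perm α)}

theorem cst_conj (φ : H ≃* G) (g : G) (cs : List ℕ) (i : ℕ) :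
    cst c (φ.trans (MulAut.conj g) : H →* G) cs i = g * cst c (φ : H →* G) cs i * g⁻¹ := by
  unfold cst el
  split_ifs <;> simp

/-- conjugation of codes -/
noncomputable def cjF (n g y : ℕ) : ℕ := forceN (inv2 n g) fun h => packN 8 (fun i => app g (app y (app h i))) n

theorem impl_cjF {g : ℕ} (hg : c.Valid g) : c.conjCode.Impl (c.dec g) (cjF c.n g) := by
  have : cjF c.n g = conjN c.n g := by
    obtain ⟨σ, rfl⟩ := hg
    funext y
    rw [cjF, conjN, enc_inv2, c.enc_inv]; rfl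
  exact this ▸ hg.impl_conj

theorem cls_cert [Finite α] {gs : List ℕ} (hv : ∀ g ∈ gs, c.Valid g) (hH : c.gen gs = H) (φ : H ≃* G) {cs : List ℕ}
    (hcs : ∀ y ∈ cs, c.InH H y) {i : ℕ} {js : List ℕ} {n N M d a : ℕ} (hN : Nat.card H = n * N)
    (hb : frc cs (fun cs => frc gs fun g => bfsH M d (mapL (cjF c.n) g) a (getL cs (idN c.n) i) fun m L =>
      band (Nat.beq (lenL L) n) (allL js fun j => bnot (m (getL cs (idN c.n) j)))) = true) :
    Nat.card (centralizer {cst c (φ : H →* G) cs i}) = N ∧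
      ∀ j ∈ js, ¬ IsConj (cst c (φ : H →* G) cs i) (cst c (φ : H →* G) cs j) := by
  subst hH
  rw [frc_eq, frc_eq] at hb
  obtain ⟨hx, e⟩ := R_cst (φ := (φ : c.gen gs →* G)) hcs i
  obtain ⟨m, t, L, h1, h2, h3⟩ := Coding.bfsH_gen c.conjCode _ (fun g hg => impl_cjF (hv g hg)) hx.1 hb
  obtain ⟨h4, h5⟩ := band_iff.1 h1
  refine ⟨?_, fun j hj h => ?_⟩
  · rw [← e, MonoidHom.coe_coe, ← Nat.card_congr (centralizerEquiv φ _).toEquiv,
      Nat.card_congr (conjTo_centralizer_elem (k := 1) (z := c.dec (getL cs (idN c.n) i)) (one_mem _) (by simp)).equiv.toEquiv,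
      ← stabilizer_toCj]
    exact card_stab_of_ncard_orbit (h2.ncard.trans (beq_iff.1 h4)) hN
  · obtain ⟨hy, e'⟩ := R_cst (φ := (φ : c.gen gs →* G)) hcs j
    rw [← e, ← e'] at h
    obtain ⟨g, hg⟩ := isConj_iff.1 ((φ.symm : G →* c.gen gs).map_isConj h)
    simp only [MonoidHom.coe_coe, MulEquiv.symm_apply_apply] at hg
    exact bnot_iff.1 (allL_iff.1 h5 j hj) ((h3 _ hy.1).2 (mem_orbit_toCj.2 ⟨g, g.2, congrArg Subtype.val hg⟩))

end

theorem gen_conj (g : G) (l : List G) : gen (l.map fun x => g * x * g⁻¹) = (gen l).map (MulAut.conj g).toMonoidHom := by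
  rw [gen, gen, MonoidHom.map_closure]
  congr 1
  ext x; simp

theorem gen_append (l m : List G) : gen (l ++ m) = gen l ⊔ gen m := by
  rw [gen, gen, gen, ← Subgroup.closure_union]
  congr 1
  ext x; simp

theorem cent_eq [Finite G] {x : G} {l : List G} {N : ℕ} (h : ∀ g ∈ l, g * x = x * g) (h1 : Nat.card (gen l) = N)
    (h2 : Nat.card (centralizer {x}) = N) : centralizer {x} = gen l :=
  (eq_of_le_of_card_ge (gen_le.2 fun g hg => mem_centralizer_singleton_iff.2 (h g hg)) (h2.trans h1.symm).le).symm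

theorem norm_eq [Finite G] {P : Subgroup G} {l : List G} {x : G} (hx : x ∈ P)
    (hN : ∀ n ∈ l, ∀ w ∈ P, n * w * n⁻¹ ∈ P) (h1 : ∀ w ∈ P, IsConj x w → ∃ n ∈ gen l, n * w * n⁻¹ = x)
    (h2 : ∀ c ∈ centralizer {x}, (∀ w ∈ P, c * w * c⁻¹ ∈ P) → c ∈ gen l) : normalizer (P : Set G) = gen l := by
  have h0 : gen l ≤ normalizer (P : Set G) := gen_le.2 fun n hn => mem_normalizer_fintype (hN n hn)
  refine le_antisymm (fun g hg => ?_) h0
  obtain ⟨n, hn, e⟩ := h1 _ ((mem_normalizer_iff.1 hg x).1 hx) (isConj_iff.2 ⟨g, rfl⟩)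
  refine (mul_mem_cancel_left hn).1 (h2 _ (mem_centralizer_singleton_iff.2 ?_)
    fun w hw => (mem_normalizer_iff.1 (mul_mem (h0 hn) hg) w).1 hw)
  conv_rhs => rw [← e]
  group

theorem sylow_conj [Finite G] {p k m : ℕ} [hp : Fact p.Prime] {P : Subgroup G} (hP : Nat.card P = p ^ k)
    (hG : Nat.card G = p ^ k * m) (hm : ¬ p ∣ m) (Q : Sylow p G) :
    ∃ g : G, (Q : Subgroup G) = P.map (MulAut.conj g).toMonoidHom := by
  have h : ¬ p ∣ P.index := by
    have := P.card_mul_index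
    rw [hP, hG, Nat.mul_right_inj (pow_pos hp.out.pos k).ne'] at this
    rwa [this]
  obtain ⟨g, hg⟩ := exists_smul_eq G ((IsPGroup.of_card hP).toSylow h) Q
  exact ⟨g, hg ▸ rfl⟩

theorem conj_into [Finite G] {p k m : ℕ} [hp : Fact p.Prime] {P : Subgroup G} (hP : Nat.card P = p ^ k)
    (hG : Nat.card G = p ^ k * m) (hm : ¬ p ∣ m) {x : G} (hx : orderOf x = p) : ∃ g : G, g * x * g⁻¹ ∈ P := by
  obtain ⟨Q, hQ⟩ := (IsPGroup.of_card (G := zpowers x) (n := 1) (by rw [Nat.card_zpowers, hx, pow_one])).exists_le_sylow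
  obtain ⟨g, hg⟩ := sylow_conj hP hG hm Q
  obtain ⟨y, hy, e⟩ := hg.le (hQ (mem_zpowers x))
  exact ⟨g⁻¹, by rw [← e]; simpa [mul_assoc] using hy⟩

theorem range_eq {A : Type*} [Group A] [Finite A] (f : A →* G) {l : List G} (h : ∀ x ∈ l, x ∈ f.range)
    (hc : Nat.card A ≤ Nat.card (gen l)) : f.range = gen l :=
  have : Finite f.range := Set.finite_range f
  (eq_of_le_of_card_ge (gen_le.2 h) ((Nat.card_le_card_of_surjective _ f.rangeRestrict_surjective).trans hc)).symm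

theorem prod_iso {A B : Type*} [Group A] [Group B] [Finite A] [Finite B] (f : A →* G) (g : B →* G)
    {K : Subgroup G} (hc : ∀ x ∈ f.range, ∀ y ∈ g.range, x * y = y * x) (hK : K = f.range ⊔ g.range)
    (h : Nat.card A * Nat.card B ≤ Nat.card K) : Nonempty (K ≃* A × B) := by
  have hc' : ∀ a b, Commute (f a) (g b) := fun a b => hc _ ⟨a, rfl⟩ _ ⟨b, rfl⟩
  rw [← MonoidHom.noncommCoprod_range f g hc'] at hK
  subst hK
  have : Finite (f.noncommCoprod g hc').range := Set.finite_range _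
  exact ⟨(MulEquiv.ofBijective _ ((Nat.bijective_iff_surjective_and_card _).2
    ⟨(f.noncommCoprod g hc').rangeRestrict_surjective, le_antisymm ((Nat.card_prod A B).trans_le h)
      (Nat.card_le_card_of_surjective _ (f.noncommCoprod g hc').rangeRestrict_surjective)⟩)).symm⟩

theorem exists_hom_two {t : G} (h : t * t = 1) : ∃ f : Multiplicative (ZMod 2) →* G, f (.ofAdd 1) = t ∧
    ∀ x, f x = 1 ∨ f x = t :=
  ⟨MonoidHom.mk' (fun x => if x = 1 then 1 else t) (fun a b => by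
    rcases (by decide : ∀ a : Multiplicative (ZMod 2), a = 1 ∨ a = .ofAdd 1) a with rfl | rfl <;>
    rcases (by decide : ∀ a : Multiplicative (ZMod 2), a = 1 ∨ a = .ofAdd 1) b with rfl | rfl
    · simp
    · simp
    · simp
    · rw [if_pos (by decide), if_neg (by decide), h]), by simp, fun x => by
      by_cases e : x = 1
      exacts [Or.inl (if_pos e), Or.inr (if_neg e)]⟩

theorem exists_hom_four {t u : G} (ht : t * t = 1) (hu : u * u = 1) (h : t * u = u * t) :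
    ∃ f : Multiplicative (ZMod 2) × Multiplicative (ZMod 2) →* G, ∀ x ∈ [t, u], x ∈ f.range := by
  obtain ⟨f, f1, f2⟩ := exists_hom_two ht
  obtain ⟨g, g1, g2⟩ := exists_hom_two hu
  refine ⟨f.noncommCoprod g fun a b => ?_, ?_⟩
  · rcases f2 a with e | e <;> rcases g2 b with e' | e' <;> rw [e, e']
    exacts [Commute.one_left _, Commute.one_right _, h]
  · simp only [List.forall_mem_cons, List.not_mem_nil, IsEmpty.forall_iff, implies_true, and_true]
    exact ⟨⟨(.ofAdd 1, 1), by simp [f1]⟩, ⟨(1, .ofAdd 1), by simp [g1]⟩⟩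

theorem eq_of_prime [Finite G] {p : ℕ} [hp : Fact p.Prime] {A B : Subgroup G} (hA : Nat.card A = p) (hB : Nat.card B = p)
    {x : G} (h1 : x ≠ 1) (ha : x ∈ A) (hb : x ∈ B) : A = B := by
  have k : ∀ {A : Subgroup G}, Nat.card A = p → x ∈ A → zpowers x = A := fun {A} hA ha =>
    eq_of_le_of_card_ge (zpowers_le.2 ha) (by
      rw [hA, Nat.card_zpowers, ((Nat.dvd_prime hp.out).1 (hA ▸ orderOf_dvd_natCard A ha)).resolve_left
        (mt orderOf_eq_one_iff.1 h1)])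
  rw [← k hA ha, k hB hb]

open Cfsg.Lib.J2 Cfsg.Lib.J2.Five

theorem j2_perm (h : Spor.IsoJ2 G) : Nonempty (pc.gen gs ≃* G) :=
  let ⟨e⟩ := h; let ⟨f, _⟩ := equiv100; ⟨(e.trans f).symm⟩

theorem j2_card (φ : pc.gen gs ≃* G) : Nat.card G = 604800 := (Nat.card_congr φ.toEquiv).symm.trans card_gen

noncomputable def g2 : List ℕ := mapL wd [[0], [4, 3, 2, 1]]

theorem g2_valid : ∀ g ∈ g2, pc.Valid g := fun g hg => (wds_inH _ g hg).1

theorem gen_g2 : pc.gen g2 = pc.gen gs := le_antisymm (Coding.gen_le (wds_inH _)) (Coding.gen_le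
  (inH_of_words (Coding.inH_gen g2_valid) [[0], [1, 1, 0, 1, 1, 0, 1, 0, 1, 0, 1, 0, 1, 1, 0, 1, 0, 1, 0, 1, 0, 1, 0, 1, 0],
    [0, 1, 1, 1, 1, 0, 1, 1, 1, 1, 1, 1, 1, 1, 1, 1, 1, 0],
    [1, 1, 0, 1, 0, 1, 1, 1, 1, 1, 1, 1, 1, 0, 1, 1, 1, 0, 1, 1, 0, 1, 1, 1, 1, 1, 0, 1, 0],
    [1, 1, 0, 1, 1, 0, 1, 0, 1, 1, 0, 1, 1, 0, 1, 0, 1, 1, 0, 1, 0, 1, 1, 1, 1, 0, 1]] (by decide +kernel)))

end Cfsg.Lib.JT
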