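import Cfsg.Agent.Lib.JT.J2K2

/-! Involutions of `J₂`. -/

set_option autoImplicit false
set_option maxRecDepth 100000

namespace Cfsg.Lib.JT

open Subgroup Cfsg.Lib.Golay Cfsg.Lib.FO Cfsg.Lib.J2 Cfsg.Lib.J2.Five

variable {G : Type*} [Group G] [Finite G]

omit [Finite G] in
theorem two_facts (φ : pc.gen gs ≃* G) {C : ℕ → G} (h : C = cst pc (φ : pc.gen gs →* G) k2) :
    (∃ U : Subgroup G, Nat.card U = 2 ^ 7 ∧ C 6 * C 5 * (C 6)⁻¹ = C 3 ∧ ∀ w ∈ U, w * w = 1 → w = 1 ∨ w = C 3 ∨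
      ∃ n ∈ gen [C 7, C 8], n * w * n⁻¹ = C 5 ∨ n * w * n⁻¹ = C 0) ∧ Nat.card (centralizer {C 0}) = 240 ∧
    Nat.card (gen [C 0, C 1]) = 4 ∧ Nat.card (gen [C 3, C 4]) = 60 ∧ Nat.card (gen [C 0, C 2]) = 12 ∧
    Nat.card (gen [C 0, C 1, C 3, C 4]) = 240 ∧ Nat.card (gen [C 0, C 2, C 3, C 4]) = 720 ∧ C 0 * C 0 = 1 ∧
    C 1 * C 1 = 1 ∧ C 0 * C 1 = C 1 * C 0 ∧ C 3 * C 0 = C 0 * C 3 ∧ C 4 * C 0 = C 0 * C 4 ∧ C 2 * C 2 * C 2 = 1 ∧
    C 0 * C 2 * (C 0 * C 2) * (C 0 * C 2) = 1 ∧ C 3 * C 3 = 1 ∧ C 4 * C 4 * C 4 = 1 ∧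
    C 3 * C 4 * (C 3 * C 4) * (C 3 * C 4) * (C 3 * C 4) * (C 3 * C 4) = 1 ∧ C 0 ≠ 1 ∧ C 1 ∈ gen [C 0, C 2] ∧
    (∀ x ∈ gen [C 0, C 2], ∀ y ∈ gen [C 3, C 4], x * y = y * x) ∧
    (∀ w ∈ gen [C 0, C 1], C 0 * w * (C 0)⁻¹ ∈ gen [C 0, C 1] ∧ C 2 * w * (C 2)⁻¹ ∈ gen [C 0, C 1] ∧
      C 3 * w * (C 3)⁻¹ ∈ gen [C 0, C 1] ∧ C 4 * w * (C 4)⁻¹ ∈ gen [C 0, C 1] ∧ C 1 * w * (C 1)⁻¹ ∈ gen [C 0, C 1]) ∧
    (∀ w ∈ gen [C 0, C 1], w = 1 ∨ ∃ n ∈ gen [C 0, C 2, C 3, C 4], n * w * n⁻¹ = C 0) ∧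
    ∀ x ∈ gen [C 0, C 1, C 3, C 4], x ∈ gen [C 0, C 1] ∨ ∃ d ∈ gen [C 3, C 4], x * (d * x⁻¹ * d⁻¹) ≠ 1 ∧
      ∀ y, y = x * (d * x⁻¹ * d⁻¹) * (x * (d * x⁻¹ * d⁻¹)) * (x * (d * x⁻¹ * d⁻¹)) → y * y * y * y * y = 1 := by
  have h1 := cls_cert (cs := k2) (N := 240) g2_valid gen_g2 φ (wds_inH _) card_gen cls2
  have h2 := chk_sound (cs := k2) (φ := (φ : pc.gen gs →* G)) φ.injective (wds_inH _) chk2
  have h3 := chk_sound (cs := k2) (φ := (φ : pc.gen gs →* G)) φ.injective (wds_inH _) chk2'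
  rw [← h] at h1 h2 h3
  obtain ⟨a0, a1, a2, a3, a4, a5, a6, a7, a8, a9, a10, a11, a12, a13, a14, a15, a16, b1, b2, b3, b4⟩ := h3
  exact ⟨⟨_, h2⟩, h1.1, a0, a1, a2, a3, a4, a5, a6, a7, a8, a9, a10, a11, a12, a13, a14, a15, a16, b1, b2, b3,
    fun x hx => (b4 x hx).imp_right fun ⟨d, hd, k1, k2⟩ => ⟨d, hd, k1, fun _ e => e ▸ k2⟩⟩

theorem j2_inv (φ : pc.gen gs ≃* G) {t : G} (ht : orderOf t = 2) :
    IsConj t (cst pc (φ : pc.gen gs →* G) k2 3) ∨ IsConj t (cst pc (φ : pc.gen gs →* G) k2 0) := by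
  generalize hC : cst pc (φ : pc.gen gs →* G) k2 = C
  obtain ⟨U, a0, a1, a2⟩ := (two_facts φ hC.symm).1
  obtain ⟨k, hk⟩ := conj_into (m := 4725) a0 (j2_card φ) (by norm_num) ht
  rw [← orderOf_conj' k] at ht
  have h : IsConj t (k * t * k⁻¹) := isConj_iff.2 ⟨k, rfl⟩
  rcases (a2 _ hk ((pow_two _).symm.trans (ht ▸ pow_orderOf_eq_one _))).resolve_left fun e => by
    rw [e, orderOf_one] at ht; omega with e | ⟨n, -, e | e⟩
  exacts [.inl (e ▸ h), .inl ((h.trans (isConj_iff.2 ⟨n, e⟩)).trans (isConj_iff.2 ⟨_, a1⟩)),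
    .inr (h.trans (isConj_iff.2 ⟨n, e⟩))]

theorem j2_2B (φ : pc.gen gs ≃* G) {t : G} (ht : t = cst pc (φ : pc.gen gs →* G) k2 0) :
    Nat.card (centralizer {t}) = 240 ∧
    Nonempty (centralizer ({t} : Set G) ≃* (Multiplicative (ZMod 2) × Multiplicative (ZMod 2)) × alternatingGroup (Fin 5)) ∧
    Nonempty (normalizer (((pCore 2 (centralizer ({t} : Set G))).map (centralizer ({t} : Set G)).subtype : Subgroup G) : Set G) ≃*
      alternatingGroup (Fin 4) × alternatingGroup (Fin 5)) := by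
  generalize hC : cst pc (φ : pc.gen gs →* G) k2 = C at ht
  obtain ⟨-, c1, a0, a1, a2, a3, a4, a5, a6, a7, a8, a9, a10, a11, a12, a13, a14, a15, a16, b1, b2, b3, b4⟩ :=
    two_facts φ hC.symm
  subst ht
  have hC : centralizer {C 0} = gen [C 0, C 1, C 3, C 4] := cent_eq (by simpa using ⟨a7.symm, a8, a9⟩) a3 c1
  obtain ⟨f2, h2⟩ := exists_hom_four a5 a6 a7
  obtain ⟨f4, h4, h4'⟩ := Linear.exists_hom_A4 a5 ((pow_three' _).trans a10) ((pow_three' _).trans a11)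
  obtain ⟨f5, h5, h5'⟩ := Linear.exists_hom_A5 a12 ((pow_three' _).trans a13)
    (by simp only [pow_succ, pow_zero, one_mul]; exact a14)
  have r2 : f2.range = gen [C 0, C 1] := range_eq f2 h2 (by rw [a0]; simp)
  have r4 : f4.range = gen [C 0, C 2] := range_eq f4 (List.forall_mem_cons.2 ⟨⟨_, h4⟩, List.forall_mem_singleton.2 ⟨_, h4'⟩⟩)
    (Linear.card_A4.trans a2.symm).le
  have r5 : f5.range = gen [C 3, C 4] := range_eq f5 (List.forall_mem_cons.2 ⟨⟨_, h5⟩, List.forall_mem_singleton.2 ⟨_, h5'⟩⟩)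
    (Linear.card_A5.trans a1.symm).le
  have l2 : gen [C 0, C 1] ≤ gen [C 0, C 2] := gen_le.2 (by simpa using ⟨mem_gen (by simp), a16⟩)
  have e1 : gen [C 0, C 1, C 3, C 4] = gen [C 0, C 1] ⊔ gen [C 3, C 4] := gen_append [_, _] _
  have e2 : gen [C 0, C 2, C 3, C 4] = gen [C 0, C 2] ⊔ gen [C 3, C 4] := gen_append [_, _] _
  have hO : (pCore 2 (centralizer {C 0})).map (centralizer {C 0}).subtype = gen [C 0, C 1] := by
    refine le_antisymm (fun x hx => (b4 x (hC.le (Core.pCoreOf_le _ hx))).resolve_right ?_) (Core.le_pCoreOf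
      (hC.ge.trans' (e1.ge.trans' le_sup_left)) (hC.le.trans (gen_le.2 ?_)) (IsPGroup.of_card (n := 2) a0))
    · rintro ⟨d, hd, k1, k2⟩
      obtain ⟨k, hk⟩ := Core.isPGroup_pCoreOf (p := 2) _ ⟨_, mul_mem hx ((mem_normalizer_iff.1
        (Core.le_normalizer_pCoreOf _ (hC.ge (e1.ge (mem_sup_right hd)))) _).1 (inv_mem hx))⟩
      refine k1 ((pow_eq_one_iff_of_coprime (m := 15) (n := 2 ^ k) (Nat.Coprime.pow_right _ (by norm_num))).1 ⟨?_, congrArg Subtype.val hk⟩)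
      rw [show 15 = 3 * 5 from rfl, pow_mul, pow_three']
      simp only [pow_succ, pow_zero, one_mul]; exact k2 _ rfl
    · intro n hn
      refine mem_normalizer_fintype fun w hw => ?_
      obtain ⟨k1, -, k2, k3, k4⟩ := b2 w hw
      simp only [List.mem_cons, List.not_mem_nil, or_false] at hn
      rcases hn with rfl | rfl | rfl | rfl <;> assumption
  refine ⟨c1, prod_iso f2 f5 (fun x hx y hy => b1 x (l2 (r2.le hx)) y (r5.le hy)) (by rw [hC, e1, r2, r5])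
    (by rw [c1, Linear.card_A5]; simp), ?_⟩
  rw [hO, norm_eq (l := [C 0, C 2, C 3, C 4]) (x := C 0) (mem_gen (by simp)) (fun n hn w hw => ?_)
    (fun w hw h => (b3 w hw).resolve_left fun e => a15 (isConj_one_left.1 (e ▸ h)))
    fun c hc _ => e2.ge (sup_le_sup_right l2 _ (e1.le (hC.le hc)))]
  · exact prod_iso f4 f5 (fun x hx y hy => b1 x (r4.le hx) y (r5.le hy)) (by rw [e2, r4, r5])
      (by rw [Linear.card_A4, Linear.card_A5]; exact a4.ge)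
  · obtain ⟨k1, k2, k3, k4, -⟩ := b2 w hw
    simp only [List.mem_cons, List.not_mem_nil, or_false] at hn
    rcases hn with rfl | rfl | rfl | rfl <;> assumption

theorem j2_two (h : Spor.IsoJ2 G) {z t : G} (hz : orderOf z = 2) (hc : 32 ∣ Nat.card (centralizer {z}))
    (ht : orderOf t = 2) (htz : ¬ IsConj t z) :
    Nonempty (centralizer ({t} : Set G) ≃* (Multiplicative (ZMod 2) × Multiplicative (ZMod 2)) × alternatingGroup (Fin 5)) ∧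
    Nonempty (normalizer (((pCore 2 (centralizer ({t} : Set G))).map (centralizer ({t} : Set G)).subtype : Subgroup G) : Set G) ≃*
      alternatingGroup (Fin 4) × alternatingGroup (Fin 5)) := by
  obtain ⟨φ⟩ := j2_perm h
  have k := fun {t : G} (h : IsConj t (cst pc (φ : pc.gen gs →* G) k2 0)) =>
    let ⟨g, hg⟩ := isConj_iff.1 h.symm
    j2_2B (φ.trans (MulAut.conj g)) (t := t) (hg.symm.trans (cst_conj φ g _ _).symm)
  rcases j2_inv φ hz with h1 | h1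
  · exact (k ((j2_inv φ ht).resolve_left fun h2 => htz (h2.trans h1.symm))).2
  · rw [(k h1).1] at hc; omega

end Cfsg.Lib.JT
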