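import Cfsg.Agent.Lib.JT.J2K3
import Cfsg.Agent.Lib.Fus3.Pearl

/-! Sylow 3-subgroups of `J₂`. -/

set_option autoImplicit false
set_option maxRecDepth 100000

namespace Cfsg.Lib.JT

open Subgroup Cfsg.Lib.Golay Cfsg.Lib.FO Cfsg.Lib.J2 Cfsg.Lib.J2.Five

variable {G : Type*} [Group G] [Finite G]

omit [Finite G] in
theorem three_facts (φ : pc.gen gs ≃* G) {C : ℕ → G} (h : C = cst pc (φ : pc.gen gs →* G) k3) :
    (Nat.card (centralizer {C 0}) = 1080 ∧ ∀ j ∈ [1], ¬ IsConj (C 0) (C j)) ∧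
    Nat.card (gen [C 1, C 2]) = 3 ^ 3 ∧ Nat.card (gen [C 3, C 4]) = 1080 ∧ Nat.card (gen [C 3, C 5]) = 216 ∧
    C 3 * C 0 = C 0 * C 3 ∧ C 4 * C 0 = C 0 * C 4 ∧ C 0 ≠ 1 ∧ C 1 ≠ 1 ∧ C 0 * C 0 * C 0 = 1 ∧ C 1 * C 1 * C 1 = 1 ∧
    C 0 ∈ gen [C 1, C 2] ∧ C 1 * C 2 ≠ C 2 * C 1 ∧
    (∀ w ∈ gen [C 1, C 2], C 3 * w * (C 3)⁻¹ ∈ gen [C 1, C 2] ∧ C 5 * w * (C 5)⁻¹ ∈ gen [C 1, C 2]) ∧
    (∀ w ∈ gen [C 1, C 2], w = 1 ∨ ∃ n ∈ gen [C 3, C 5], n * w * n⁻¹ = C 0 ∨ n * w * n⁻¹ = C 1) ∧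
    ∀ c ∈ gen [C 3, C 4], c * C 1 * c⁻¹ ∈ gen [C 1, C 2] → c * C 2 * c⁻¹ ∈ gen [C 1, C 2] → c ∈ gen [C 3, C 5] := by
  have h1 := cls_cert (cs := k3) (N := 1080) g2_valid gen_g2 φ (wds_inH _) card_gen cls3
  have h2 := chk_sound (cs := k3) (φ := (φ : pc.gen gs →* G)) φ.injective (wds_inH _) chk3
  rw [← h] at h1 h2
  exact ⟨h1, h2⟩

theorem j2_three (h : Spor.IsoJ2 G) (P : Sylow 3 G) : IsExtraspecial 3 (P : Subgroup G) ∧ Nat.card P = 27 ∧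
    Nat.card (normalizer ((P : Subgroup G) : Set G)) = 216 ∧ ∃ a b : G, orderOf a = 3 ∧ orderOf b = 3 ∧ ¬ IsConj a b ∧
      ∀ c : G, orderOf c = 3 → IsConj c a ∨ IsConj c b := by
  obtain ⟨φ0⟩ := j2_perm h
  have hG : Nat.card G = 3 ^ 3 * 22400 := j2_card φ0
  obtain ⟨g, hg⟩ := sylow_conj (three_facts φ0 rfl).2.1 hG (by norm_num) P
  rw [← gen_conj, List.map_cons, List.map_cons, List.map_nil, ← cst_conj, ← cst_conj] at hg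
  generalize hC : cst pc (φ0.trans (MulAut.conj g) : pc.gen gs →* G) k3 = C at hg
  obtain ⟨⟨c1, c2⟩, a0, a1, a2, a3, a4, a5, a6, a7, a8, a9, a10, b1, b2, b3⟩ := three_facts _ hC.symm
  have m1 : C 1 ∈ gen [C 1, C 2] := mem_gen (by simp)
  have m2 : C 2 ∈ gen [C 1, C 2] := mem_gen (by simp)
  have hC : centralizer {C 0} = gen [C 3, C 4] := cent_eq (by simpa using ⟨a3, a4⟩) a1 c1
  rw [hg]
  refine ⟨Fus.isExtraspecial_of_cube a0 fun h => a10 (congrArg Subtype.val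
    (h.is_comm.comm (⟨_, m1⟩ : gen [C 1, C 2]) ⟨_, m2⟩)), a0, ?_, C 0, C 1, orderOf_eq_prime ((pow_three' _).trans a7) a5,
    orderOf_eq_prime ((pow_three' _).trans a8) a6, c2 1 (by simp), fun w hw => ?_⟩
  · rw [norm_eq (l := [C 3, C 5]) a9 (by simpa [forall_and] using b1) (fun w hw h => ?_)
      fun c hc h => b3 c (hC.le hc) (h _ m1) (h _ m2)]
    · exact a2
    · obtain ⟨n, hn, e | e⟩ := (b2 w hw).resolve_left fun e => a5 (isConj_one_left.1 (e ▸ h))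
      exacts [⟨n, hn, e⟩, (c2 1 (by simp) (h.trans (isConj_iff.2 ⟨_, e⟩))).elim]
  · obtain ⟨k, hk⟩ := conj_into a0 hG (by norm_num) hw
    obtain ⟨n, -, e⟩ := (b2 _ hk).resolve_left fun e => by
      rw [← orderOf_conj' k, e, orderOf_one] at hw; omega
    exact e.imp (fun e => (isConj_iff.2 ⟨k, rfl⟩).trans (isConj_iff.2 ⟨n, e⟩))
      fun e => (isConj_iff.2 ⟨k, rfl⟩).trans (isConj_iff.2 ⟨n, e⟩)

end Cfsg.Lib.JT
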