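import Cfsg.Agent.Lib.JT.J2K5

/-! Sylow 5-subgroups of `J₂`. -/

set_option autoImplicit false
set_option maxRecDepth 100000

namespace Cfsg.Lib.JT

open Subgroup Cfsg.Lib.Golay Cfsg.Lib.FO Cfsg.Lib.J2 Cfsg.Lib.J2.Five

variable {G : Type*} [Group G] [Finite G]

omit [Finite G] in
theorem five_facts (φ : pc.gen gs ≃* G) {C : ℕ → G} (h : C = cst pc (φ : pc.gen gs →* G) k5) :
    (Nat.card (centralizer {C 0}) = 300 ∧ ∀ j ∈ [6, 7, 8], ¬ IsConj (C 0) (C j)) ∧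
    Nat.card (gen [C 0, C 1]) = 5 ^ 2 ∧ Nat.card (gen [C 0, C 1, C 2]) = 300 ∧ Nat.card (gen [C 3, C 4, C 5]) = 300 ∧
    Nat.card (gen [C 0]) = 5 ∧ Nat.card (gen [C 7]) = 5 ∧ C 1 * C 0 = C 0 * C 1 ∧ C 2 * C 0 = C 0 * C 2 ∧ C 0 ≠ 1 ∧
    C 6 ∈ gen [C 0] ∧ C 8 ∈ gen [C 7] ∧ C 7 ∈ gen [C 0, C 1] ∧
    (∀ w ∈ gen [C 0, C 1], C 3 * w * (C 3)⁻¹ ∈ gen [C 0, C 1] ∧ C 4 * w * (C 4)⁻¹ ∈ gen [C 0, C 1] ∧
      C 5 * w * (C 5)⁻¹ ∈ gen [C 0, C 1]) ∧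
    (∀ w ∈ gen [C 0, C 1], w = 1 ∨ ∃ n ∈ gen [C 3, C 4, C 5], n * w * n⁻¹ = C 0 ∨ n * w * n⁻¹ = C 6 ∨
      n * w * n⁻¹ = C 7 ∨ n * w * n⁻¹ = C 8) ∧
    (∀ w ∈ gen [C 7], w = 1 ∨ ∃ n ∈ gen [C 3, C 4, C 5], n * w * n⁻¹ = C 7 ∨ n * w * n⁻¹ = C 8) ∧
    (∀ c ∈ gen [C 0, C 1, C 2], (c * C 1 * c⁻¹ ∈ gen [C 0, C 1] → c ∈ gen [C 3, C 4, C 5]) ∧
      (C 1 * c = c * C 1 → c ∈ gen [C 0, C 1])) ∧
    ∀ x ∈ gen [C 0, C 1], ∀ y ∈ gen [C 0, C 1], y * x = x * y := by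
  have h1 := cls_cert (cs := k5) (N := 300) g2_valid gen_g2 φ (wds_inH _) card_gen cls5
  have h2 := chk_sound (cs := k5) (φ := (φ : pc.gen gs →* G)) φ.injective (wds_inH _) chk5
  rw [← h] at h1 h2
  exact ⟨h1, h2⟩

theorem j2_five (h : Spor.IsoJ2 G) (P : Sylow 5 G) : centralizer ((P : Subgroup G) : Set G) = P ∧ Nat.card P = 25 ∧
    Nat.card (normalizer ((P : Subgroup G) : Set G)) = 300 ∧ ∃ X Y : Subgroup G, Nat.card X = 5 ∧ Nat.card Y = 5 ∧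
      (∀ g : G, X.map (MulAut.conj g).toMonoidHom ≠ Y) ∧ ∀ W : Subgroup G, Nat.card W = 5 →
        ∃ g : G, W.map (MulAut.conj g).toMonoidHom = X ∨ W.map (MulAut.conj g).toMonoidHom = Y := by
  have : Fact (Nat.Prime 5) := ⟨by norm_num⟩
  obtain ⟨φ0⟩ := j2_perm h
  have hG : Nat.card G = 5 ^ 2 * 24192 := j2_card φ0
  obtain ⟨g, hg⟩ := sylow_conj (five_facts φ0 rfl).2.1 hG (by norm_num) P
  rw [← gen_conj, List.map_cons, List.map_cons, List.map_nil, ← cst_conj, ← cst_conj] at hg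
  generalize hC : cst pc (φ0.trans (MulAut.conj g) : pc.gen gs →* G) k5 = C at hg
  obtain ⟨⟨c1, c2⟩, a0, a1, a2, a3, a4, a5, a6, a7, a8, a9, a10, b1, b2, b3, b4, b5⟩ := five_facts _ hC.symm
  have m0 : C 0 ∈ gen [C 0, C 1] := mem_gen (by simp)
  have m1 : C 1 ∈ gen [C 0, C 1] := mem_gen (by simp)
  have hC : centralizer {C 0} = gen [C 0, C 1, C 2] := cent_eq (by simpa using ⟨a5, a6⟩) a1 c1
  have n1 : ∀ {w n x}, n * w * n⁻¹ = x → IsConj (C 0) w → IsConj (C 0) x := fun e h => h.trans (isConj_iff.2 ⟨_, e⟩)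
  have n2 : ∀ {w}, IsConj (C 0) w → w ≠ 1 := fun h e => a7 (isConj_one_left.1 (e ▸ h))
  rw [hg]
  refine ⟨le_antisymm (fun c hc => (b4 c (hC.le (mem_centralizer_singleton_iff.2 (hc _ m0).symm))).2 (hc _ m1))
    fun x hx y hy => b5 x hx y hy, a0, ?_, _, _, a3, a4, fun k hk => ?_, fun W hW => ?_⟩
  · rw [norm_eq (l := [C 3, C 4, C 5]) m0 (by simpa [forall_and] using b1) (fun w hw h => ?_)
      fun c hc h => (b4 c (hC.le hc)).1 (h _ m1)]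
    · exact a2
    · obtain ⟨n, hn, e | e | e | e⟩ := (b2 w hw).resolve_left (n2 h)
      exacts [⟨n, hn, e⟩, (c2 6 (by simp) (n1 e h)).elim, (c2 7 (by simp) (n1 e h)).elim, (c2 8 (by simp) (n1 e h)).elim]
  · have h : IsConj (C 0) (k * C 0 * k⁻¹) := isConj_iff.2 ⟨k, rfl⟩
    obtain ⟨n, -, e | e⟩ := (b3 _ (hk.le ⟨_, mem_gen (List.mem_singleton_self _), rfl⟩)).resolve_left (n2 h)
    exacts [c2 7 (by simp) (n1 e h), c2 8 (by simp) (n1 e h)]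
  · obtain ⟨w, hw⟩ := exists_prime_orderOf_dvd_card' (G := W) 5 hW.symm.dvd
    rw [← orderOf_coe] at hw
    obtain ⟨k, hk⟩ := conj_into a0 hG (by norm_num) hw
    have h1 : ∀ k : G, k * w * k⁻¹ ≠ 1 := fun k e => by
      rw [← orderOf_conj' k, e, orderOf_one] at hw; omega
    obtain ⟨n, -, e⟩ := (b2 _ hk).resolve_left (h1 k)
    have h2 : ∀ {X : Subgroup G}, Nat.card X = 5 → n * (k * w * k⁻¹) * n⁻¹ ∈ X →
        W.map (MulAut.conj (n * k)).toMonoidHom = X := fun hX h =>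
      eq_of_prime ((card_map_of_injective (MulAut.conj (n * k)).injective).trans hW) hX (h1 (n * k)) ⟨w, w.2, rfl⟩
        (by simpa [mul_assoc] using h)
    refine ⟨n * k, ?_⟩
    rcases e with e | e | e | e
    exacts [.inl (h2 a3 (e.symm ▸ mem_gen (List.mem_singleton_self _))), .inl (h2 a3 (e.symm ▸ a8)),
      .inr (h2 a4 (e.symm ▸ mem_gen (List.mem_singleton_self _))), .inr (h2 a4 (e.symm ▸ a9))]

end Cfsg.Lib.JT
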