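import Cfsg.Agent.Lib.JT.J2F0
import Cfsg.Agent.Lib.Comp.Sc

/-! Sylow 7-subgroups of `J₂`. -/

set_option autoImplicit false
set_option maxRecDepth 100000

namespace Cfsg.Lib.JT

open Subgroup Cfsg.Lib.Golay Cfsg.Lib.FO Cfsg.Lib.J2 Cfsg.Lib.J2.Five

variable {G : Type*} [Group G] [Finite G]

theorem j2_seven (h : Spor.IsoJ2 G) (D : Sylow 7 G) : centralizer ((D : Subgroup G) : Set G) = D ∧
    Nat.card (normalizer ((D : Subgroup G) : Set G)) = 42 ∧ ¬ IsMulCommutative (normalizer ((D : Subgroup G) : Set G)) := by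
  obtain ⟨φ⟩ := j2_perm h
  obtain ⟨e⟩ := h
  have : Fact (Nat.Prime 7) := ⟨by norm_num⟩
  have sp : ∀ m, (∃ g : G, orderOf g = m) ↔ m ∈ ({1, 2, 3, 4, 5, 6, 7, 8, 10, 12, 15} : Finset ℕ) := fun m => by
    rw [← Finset.mem_coe, ← spec_J2, ← Coprime.spec_congr e]; rfl
  have hc : Nat.card G = 7 * 86400 := j2_card φ
  have hD : Nat.card D = 7 := by
    rw [D.card_eq_multiplicity, hc, Nat.factorization_mul (by norm_num) (by norm_num)]
    simp [this.out.factorization_self, Nat.factorization_eq_zero_of_not_dvd (show ¬ 7 ∣ 86400 by norm_num)]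
  obtain ⟨h1, _, -, h2⟩ := Comp.sylow_sc hc (by norm_num) (by
    obtain ⟨x, hx⟩ := (sp 7).2 (by decide)
    refine ⟨x, hx, fun c hc' => ?_⟩
    have hp : IsPGroup 7 (centralizer {x}) := fun y => by
      have h3 := (sp _).1 ⟨y.1, rfl⟩
      by_cases h7 : 7 ∣ orderOf y.1
      · refine ⟨1, Subtype.ext (orderOf_dvd_iff_pow_eq_one.1 ?_)⟩
        generalize orderOf y.1 = n at *
        revert n; decide
      · have h4 := (sp _).1 ⟨y.1 * x, rfl⟩
        rw [Commute.orderOf_mul_eq_mul_orderOf_of_coprime (mem_centralizer_singleton_iff.1 y.2)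
          (hx ▸ ((Nat.Prime.coprime_iff_not_dvd this.out).2 h7).symm), hx] at h4
        refine ⟨0, Subtype.ext (orderOf_dvd_iff_pow_eq_one.1 ?_)⟩
        generalize orderOf y.1 = n at *
        revert n; decide
    obtain ⟨Q, hQ⟩ := hp.exists_le_sylow
    have h5 : zpowers x = Q := eq_of_le_of_card_ge ((zpowers_le.2 (mem_centralizer_singleton_iff.2 rfl)).trans hQ) (by
      rw [Nat.card_zpowers, hx, Nat.card_congr (Q.equiv D).toEquiv, hD])
    exact h5.ge (hQ (mem_centralizer_singleton_iff.2 hc'))) D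
  have b := card_mul_index ((D : Subgroup G).subgroupOf (normalizer ((D : Subgroup G) : Set G)))
  rw [Nat.card_congr (subgroupOfEquivOfLe le_normalizer).toEquiv, hD, index, h2] at b
  refine ⟨h1, b.symm, fun hm => ?_⟩
  have : normalizer ((D : Subgroup G) : Set G) ≤ D := fun g hg => h1.le fun d hd =>
    congrArg Subtype.val (hm.is_comm.comm (⟨d, le_normalizer hd⟩ : normalizer ((D : Subgroup G) : Set G)) ⟨g, hg⟩)
  have := card_le_of_le this
  omega

end Cfsg.Lib.JT
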