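import Cfsg.Agent.Lib.JT.J2F0

/-! Kernel computations in `J₂` for the prime 2. -/

set_option autoImplicit false
set_option maxRecDepth 100000

namespace Cfsg.Lib.JT

open Subgroup Cfsg.Lib.Golay Cfsg.Lib.FO Cfsg.Lib.J2 Cfsg.Lib.J2.Five

noncomputable def k2 : List ℕ := mapL wd [[2, 1, 2, 3, 1, 0, 2, 4, 0, 1], [3, 2, 1, 2, 1, 0, 4, 2, 0, 1],
  [4, 2, 0, 4, 3, 2, 0, 1, 3, 2, 4, 3], [0], [2, 4, 0, 2, 0, 1, 2, 3, 2, 4, 2], [3], [1, 3, 0, 1],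
  [2, 4, 1, 0, 2, 4, 1], [4, 3, 1, 2, 0, 4, 2]]

theorem cls2 : frc k2 (fun cs => frc g2 fun g => bfsH 4093 12 (mapL (cjF 100) g) 40 (getL cs (idN 100) 0) fun m L =>
    band (Nat.beq (lenL L) 2520) (allL [] fun j => bnot (m (getL cs (idN 100) j)))) = true := by
  decide +kernel

theorem chk2 : chk 100 4093 12 30 k2 [[.c 8 * .c 7, .c 7 * .c 8 * .c 7 * .c 8,
      .c 7 * .c 8 * .c 8 * .c 7 * .c 7 * .c 8 * .c 8 * .c 7 * .c 7], [.c 7, .c 8]] (Fm.ands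
    [.card 0 128, .eq (Tm.cj (.c 6) (.c 5)) (.c 3), .all 0 (.imp (.eq (.v 0 * .v 0) 1) (.or (.eq (.v 0) 1) (.or (.eq (.v 0) (.c 3))
      (.ex 1 (.lt (Tm.cj (.v 0) (.v 1)) (.or (.eq (.v 0) (.c 5)) (.eq (.v 0) (.c 0))))))))]) = true := by
  decide +kernel

theorem chk2' : chk 100 1021 10 12 k2 [[.c 0, .c 1], [.c 3, .c 4], [.c 0, .c 2], [.c 0, .c 1, .c 3, .c 4],
      [.c 0, .c 2, .c 3, .c 4]] (Fm.ands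
    [.card 0 4, .card 1 60, .card 2 12, .card 3 240, .card 4 720, .eq (.c 0 * .c 0) 1, .eq (.c 1 * .c 1) 1,
     .cm (.c 0) (.c 1), .cm (.c 3) (.c 0), .cm (.c 4) (.c 0), .eq (.c 2 * .c 2 * .c 2) 1,
     .lt (.c 0 * .c 2) (.eq (.v 0 * .v 0 * .v 0) 1), .eq (.c 3 * .c 3) 1, .eq (.c 4 * .c 4 * .c 4) 1,
     .lt (.c 3 * .c 4) (.eq (.v 0 * .v 0 * .v 0 * .v 0 * .v 0) 1), .ne (.c 0) 1, .mem (.c 1) 2,
     .all 2 (.all 1 (.cm (.v 1) (.v 0))),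
     .all 0 (Fm.ands [.mem (Tm.cj (.c 0) (.v 0)) 0, .mem (Tm.cj (.c 2) (.v 0)) 0, .mem (Tm.cj (.c 3) (.v 0)) 0,
       .mem (Tm.cj (.c 4) (.v 0)) 0, .mem (Tm.cj (.c 1) (.v 0)) 0]),
     .all 0 (.or (.eq (.v 0) 1) (.ex 4 (.eq (Tm.cj (.v 0) (.v 1)) (.c 0)))),
     .all 3 (.or (.mem (.v 0) 0) (.ex 1 (.lt (.v 1 * Tm.cj (.v 0) (.v 1)⁻¹) (.and (.ne (.v 0) 1)
       (.lt (.v 0 * .v 0 * .v 0) (.eq (.v 0 * .v 0 * .v 0 * .v 0 * .v 0) 1))))))]) = true := by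
  decide +kernel

end Cfsg.Lib.JT
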