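import Cfsg.Agent.Lib.JT.J2F0

/-! Kernel computations in `J₂` for the prime 3. -/

set_option autoImplicit false
set_option maxRecDepth 100000

namespace Cfsg.Lib.JT

open Subgroup Cfsg.Lib.Golay Cfsg.Lib.FO Cfsg.Lib.J2 Cfsg.Lib.J2.Five

noncomputable def k3 : List ℕ := mapL wd [[2, 4, 1, 0, 2, 4, 1, 0], [0, 2], [0, 4, 1], [0], [2, 3, 4, 1],
  [1, 0, 2, 4, 0, 1, 2, 1]]

theorem cls3 : frc k3 (fun cs => frc g2 fun g => bfsH 1021 10 (mapL (cjF 100) g) 9 (getL cs (idN 100) 0) fun m L =>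
    band (Nat.beq (lenL L) 560) (allL [1] fun j => bnot (m (getL cs (idN 100) j)))) = true := by
  decide +kernel

theorem chk3 : chk 100 2039 11 17 k3 [[.c 1, .c 2], [.c 3, .c 4], [.c 3, .c 5]] (Fm.ands
    [.card 0 27, .card 1 1080, .card 2 216, .cm (.c 3) (.c 0), .cm (.c 4) (.c 0), .ne (.c 0) 1, .ne (.c 1) 1,
     .eq (.c 0 * .c 0 * .c 0) 1, .eq (.c 1 * .c 1 * .c 1) 1, .mem (.c 0) 0, Fm.not (.cm (.c 1) (.c 2)),
     .all 0 (.and (.mem (Tm.cj (.c 3) (.v 0)) 0) (.mem (Tm.cj (.c 5) (.v 0)) 0)),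
     .all 0 (.or (.eq (.v 0) 1) (.ex 2 (.lt (Tm.cj (.v 0) (.v 1)) (.or (.eq (.v 0) (.c 0)) (.eq (.v 0) (.c 1)))))),
     .all 1 (.imp (.mem (Tm.cj (.v 0) (.c 1)) 0) (.imp (.mem (Tm.cj (.v 0) (.c 2)) 0) (.mem (.v 0) 2)))]) = true := by
  decide +kernel

end Cfsg.Lib.JT
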