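import Cfsg.Agent.Lib.JT.J2F0

/-! Kernel computations in `J₂` for the prime 5. -/

set_option autoImplicit false
set_option maxRecDepth 100000

namespace Cfsg.Lib.JT

open Subgroup Cfsg.Lib.Golay Cfsg.Lib.FO Cfsg.Lib.J2 Cfsg.Lib.J2.Five

noncomputable def k5 : List ℕ := mapL wd [[4, 2, 3, 2], [3, 4, 3, 2], [1, 3, 2, 4, 2, 0, 1], [4, 3, 2], [2],
  [1, 0, 4, 2, 1, 2, 3, 1, 2, 0], [4, 2, 3, 2, 4, 2, 3, 2], [2, 3, 4, 2, 3, 4], [2, 3, 4, 2, 3, 4, 2, 3, 4, 2, 3, 4]]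

theorem cls5 : frc k5 (fun cs => frc g2 fun g => bfsH 4093 12 (mapL (cjF 100) g) 32 (getL cs (idN 100) 0) fun m L =>
    band (Nat.beq (lenL L) 2016) (allL [6, 7, 8] fun j => bnot (m (getL cs (idN 100) j)))) = true := by
  decide +kernel

theorem chk5 : chk 100 509 9 5 k5 [[.c 0, .c 1], [.c 0, .c 1, .c 2], [.c 3, .c 4, .c 5], [.c 0], [.c 7]] (Fm.ands
    [.card 0 25, .card 1 300, .card 2 300, .card 3 5, .card 4 5, .cm (.c 1) (.c 0), .cm (.c 2) (.c 0), .ne (.c 0) 1,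
     .mem (.c 6) 3, .mem (.c 8) 4, .mem (.c 7) 0,
     .all 0 (Fm.ands [.mem (Tm.cj (.c 3) (.v 0)) 0, .mem (Tm.cj (.c 4) (.v 0)) 0, .mem (Tm.cj (.c 5) (.v 0)) 0]),
     .all 0 (.or (.eq (.v 0) 1) (.ex 2 (.lt (Tm.cj (.v 0) (.v 1)) (Fm.ors [.eq (.v 0) (.c 0), .eq (.v 0) (.c 6),
       .eq (.v 0) (.c 7), .eq (.v 0) (.c 8)])))),
     .all 4 (.or (.eq (.v 0) 1) (.ex 2 (.lt (Tm.cj (.v 0) (.v 1)) (Fm.ors [.eq (.v 0) (.c 7), .eq (.v 0) (.c 8)])))),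
     .all 1 (.and (.imp (.mem (Tm.cj (.v 0) (.c 1)) 0) (.mem (.v 0) 2)) (.imp (.cm (.c 1) (.v 0)) (.mem (.v 0) 0))),
     .all 0 (.all 0 (.cm (.v 0) (.v 1)))]) = true := by
  decide +kernel

end Cfsg.Lib.JT
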