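import Cfsg.Agent.Lib.Comp.J3x.Mat
import Cfsg.Agent.Lib.Comp.J3x.Out
import Cfsg.Agent.Lib.Comp.J3x.Sc17
import Cfsg.Agent.Lib.Comp.L216x.Mat

/-! Facts about `J₃`. -/

set_option maxRecDepth 100000

namespace Cfsg.Lib.JT

open Cfsg.Lib.Comp Cfsg.Lib.Comp.J3x Subgroup

theorem j3_perm {G : Type*} [Group G] (h : Spor.IsoJ3 G) : Nonempty (G ≃* cl (gp nets) L) := by
  obtain ⟨F, _, _, ω, h1, h2, ⟨e⟩⟩ := h
  obtain ⟨-, -, ⟨f⟩⟩ := three h1 h2
  exact ⟨e.trans f.symm⟩

noncomputable def j3C : List Lev :=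
  [([1,2,3,4],[5,1,3,1,5,1,3,5,1,3,5,1],1,1,85), ([],[1,3,1,3,1,3,1,3,1,3,1],4116,4116,96)]

def j3V : List (List ℕ) := [[], [2,5,3,1,3], [4,2,4,5,1], [1,4,5,2], [1,5,3,2], [1,3,5,4,2], [2,3,1,4]]

theorem j3_ch : Nat.beq (chainB nets j3C [1,2,3,4,5]) 8160 = true := by decide +kernel

theorem j3_sl {G : Type*} [Group G] (h : Spor.IsoJ3 G) : ∃ (H : Subgroup G) (N : Subgroup H) (K : Type) (_ : Field K)
    (_ : Fintype K), N.Normal ∧ N.index = 2 ∧ Fintype.card K = 16 ∧
      Nonempty (N ≃* Matrix.SpecialLinearGroup (Fin 2) K) := by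
  obtain ⟨e⟩ := j3_perm h
  have c : Nat.card (cl (gp nets) [1,2,3,4,5]) = 8160 := card_of_ord T1_ord nets_iv
    (fun r hr => nets_rel r (by revert r; decide +kernel)) (lb_of_chainB nets_ok j3_ch)
  have b := (exact_of_beq c.le j3_ch).isBase nets_ok
  have t := tbA_pt nets_ok
  have v : allL j3V (fun w => subB w [1,2,3,4,5]) = true := by decide +kernel
  obtain ⟨f, -⟩ := embed_of_rels L216x.simple L216x.nets_iv L216x.nets_rel L216x.ord L216x.lb
    (siv b t (fun _ => mem_cl) v (by decide +kernel)) (srels b t (fun _ => mem_cl) v (by decide +kernel)) (x := 1)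
    (by decide) (sv_ne t (p := 1) (by decide +kernel))
  obtain ⟨g⟩ := L216x.iso
  let φ := (cl (gp nets) L).subtype.comp e.toMonoidHom
  have hφ : Function.Injective φ := Subtype.val_injective.comp e.injective
  have r : φ.range = cl (gp nets) L := by rw [MonoidHom.range_comp, MonoidHom.range_eq_top.2 e.surjective,
    ← MonoidHom.range_eq_map, range_subtype]
  have l1 : cl (sv (gp nets) j3V) L216x.L ≤ cl (gp nets) [1,2,3,4,5] := cl_le.2 fun x _ => sv_mem (fun _ => mem_cl) v x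
  have l2 : cl (gp nets) [1,2,3,4,5] ≤ φ.range := r ▸ cl_mono (by decide)
  have q : ∀ {K}, K ≤ φ.range → Nonempty (K.comap φ ≃* K) := fun {K} k =>
    ⟨((K.comap φ).equivMapOfInjective φ hφ).trans (MulEquiv.subgroupCongr (map_comap_eq_self k))⟩
  obtain ⟨a1⟩ := q (l1.trans l2)
  obtain ⟨a2⟩ := q l2
  have a3 := (subgroupOfEquivOfLe (comap_mono (f := φ) l1)).trans (a1.trans f.symm)
  have i := card_mul_index (((cl (sv (gp nets) j3V) L216x.L).comap φ).subgroupOf ((cl (gp nets) [1,2,3,4,5]).comap φ))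
  rw [Nat.card_congr a3.toEquiv, Nat.card_congr a2.toEquiv, c, L216x.card] at i
  have : Finite L216x.K16 := Nat.finite_of_card_ne_zero (by simp [L216x.card_K16])
  exact ⟨_, _, L216x.K16, inferInstance, Fintype.ofFinite _, normal_of_index_eq_two (by omega), by omega,
    (@Nat.card_eq_fintype_card _ (_)).symm.trans L216x.card_K16, ⟨a3.trans g⟩⟩

theorem j3_sylow {G : Type*} [Group G] [Finite G] (h : Spor.IsoJ3 G) :
    (∀ X : Sylow 19 G, centralizer ((X : Subgroup G) : Set G) = X ∧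
        ∃ _ : ((X : Subgroup G).subgroupOf (normalizer ((X : Subgroup G) : Set G))).Normal,
          IsCyclic (normalizer ((X : Subgroup G) : Set G) ⧸ (X : Subgroup G).subgroupOf _) ∧
          Nat.card (normalizer ((X : Subgroup G) : Set G) ⧸ (X : Subgroup G).subgroupOf _) = 9) ∧
    (∀ Y : Sylow 17 G, centralizer ((Y : Subgroup G) : Set G) = Y ∧
        ∃ _ : ((Y : Subgroup G).subgroupOf (normalizer ((Y : Subgroup G) : Set G))).Normal,
          IsCyclic (normalizer ((Y : Subgroup G) : Set G) ⧸ (Y : Subgroup G).subgroupOf _) ∧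
          Nat.card (normalizer ((Y : Subgroup G) : Set G) ⧸ (Y : Subgroup G).subgroupOf _) = 8) := by
  obtain ⟨e⟩ := j3_perm h
  have c := (Nat.card_congr e.toEquiv).trans card
  have : Fact (Nat.Prime 19) := ⟨by norm_num⟩
  have : Fact (Nat.Prime 17) := ⟨by norm_num⟩
  obtain ⟨φ, h1, h2⟩ := o_phi e
  exact ⟨sylow_sc (m := 2643840) c (by norm_num) (sc_of_cent h1 h2 (mem_cl (by decide +kernel)) (orderOf_eq_prime (by
    simpa [ev] using o_ex.eq on_ok tb_ok (u := [1]) (e := 19) (w := []) (by decide +kernel))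
    (by simpa [ev] using ne_of_wap tb_ok (u := [1]) (w := []) (p := 0) (by decide +kernel))) cx_c),
    sylow_sc (m := 2954880) c (by norm_num) (S17.sc e)⟩

end Cfsg.Lib.JT
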