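import Cfsg.Agent.Lib.JT.Id3
import Cfsg.Agent.Lib.JT.Iso
import Cfsg.Agent.Lib.Forms.Exc
import Cfsg.Agent.Lib.Linear.PSL2Sub
import Cfsg.Agent.S1265
import Cfsg.Agent.S1619
import Cfsg.Agent.S1620
import Cfsg.Agent.S1623
import Cfsg.Agent.S1625
import Cfsg.Agent.S2135

/-! # Groups of type `J₂` and `J₃` are `J₂` and `J₃` -/

set_option autoImplicit false
set_option linter.dupNamespace false

namespace Cfsg.Lib.JT

open Subgroup

attribute [-instance] eqF all32 all60 ex32 ex60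

theorem a5_facts {X : Type*} [Group X] (e : X ≃* alternatingGroup (Fin 5)) : IsSimpleGroup X ∧ Nat.card X = 60 :=
  ⟨e.isSimpleGroup, by rw [Nat.card_congr e.toEquiv, nat_card_alternatingGroup]; simp [Nat.factorial]⟩

open Cfsg.Lib.Forms in
theorem omega_facts {X : Type*} [Group X] (e : X ≃* Cfsg.Omega (ZMod 2) (Cfsg.quadFormMinus 1 (ZMod 2) 1 1)) :
    IsSimpleGroup X ∧ Nat.card X = 60 := by
  classical
  have hab : ∀ z₁ z₂ : ZMod 2, z₁ ^ 2 + 1 * z₁ * z₂ + 1 * z₂ ^ 2 = 0 → z₁ = 0 ∧ z₂ = 0 := by decide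
  have hn := finrank_minus (F := ZMod 2) 1
  have h1 := (fMinus_nondeg (F := ZMod 2) 1 hab).card_center_omega (Or.inr (Or.inr (fMinus_not_hasTS 1 hab))) (by omega)
  rw [if_neg fun h => h.1 rfl, ← Nat.card_congr (centerCongr (omegaEquiv _)).toEquiv, card_eq_one] at h1
  obtain ⟨f⟩ := nonempty_pomega_minus_four (isConj_frob (Known.card_FExt (ZMod 2) 2)) rfl (Known.finrank_FExt (ZMod 2) 2) hab
  have h4 : Nat.card (Known.FExt (ZMod 2) 2) = 4 := by rw [Known.card_FExt]; simp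
  have h1 : center (Cfsg.Omega (ZMod 2) (Cfsg.quadFormMinus 1 (ZMod 2) 1 1)) = ⊥ := h1
  let g := (e.trans ((QuotientGroup.quotientMulEquivOfEq h1).trans QuotientGroup.quotientBot).symm).trans f
  have := Linear.isSimpleGroup_PSL2 h4.ge
  exact ⟨g.isSimpleGroup, by rw [Nat.card_congr g.toEquiv, Linear.card_PSL_two_of_even (by rw [h4]; decide), h4]⟩

variable {G : Type*} [Group G] [Finite G]

theorem jt_of_simple [IsSimpleGroup G] {z : G} (hz : Cfsg.IsTwoCentralInvolution z) (Q : Subgroup (centralizer ({z} : Set G)))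
    [Q.Normal] (hQ : Cfsg.IsExtraspecial 2 Q) (hc : Nat.card Q = 32)
    (e : centralizer ({z} : Set G) ⧸ Q ≃* alternatingGroup (Fin 5)) : ∃ φ : HH false →* G, JT φ ∧ φ z0 = z :=
  jt_of_h2c hz.1 Q hQ hc (h2c_of_central hz Q hQ hc (a5_facts e).1 (a5_facts e).2) (a5_facts e).1 (a5_facts e).2

theorem jt_of_omega {z : G} (hz : orderOf z = 2) (Q : Subgroup (centralizer ({z} : Set G))) [Q.Normal]
    (hF : Cfsg.generalizedFittingSubgroup (centralizer ({z} : Set G)) = Q) (hQ : Cfsg.IsExtraspecial 2 Q) (hc : Nat.card Q = 2 ^ 5)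
    (e : centralizer ({z} : Set G) ⧸ Q ≃* Cfsg.Omega (ZMod 2) (Cfsg.quadFormMinus 1 (ZMod 2) 1 1))
    (hnwc : ∃ g : G, (∃ hq : g * z * g⁻¹ ∈ centralizer ({z} : Set G), (⟨g * z * g⁻¹, hq⟩ : centralizer ({z} : Set G)) ∈ Q) ∧
      g * z * g⁻¹ ≠ z) : ∃ φ : HH false →* G, JT φ ∧ φ z0 = z :=
  jt_of_nwc hz Q hQ hc (hF ▸ Cfsg.Agent.S1265.result) (omega_facts e).1 (omega_facts e).2 hnwc

theorem twoCentral_of_conj (hone : ∀ x y : G, orderOf x = 2 → orderOf y = 2 → IsConj x y) {t : G} (ht : orderOf t = 2) :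
    Cfsg.IsTwoCentralInvolution t := by
  have : Fact (Nat.Prime 2) := ⟨Nat.prime_two⟩
  obtain ⟨P, hP⟩ := (IsPGroup.of_card (G := zpowers t) (p := 2) (n := 1) (by simp [ht])).exists_le_sylow
  obtain ⟨z, h1, h2, h3⟩ := Invol.exists_central P.2 fun e => by
    rw [mem_bot.1 (e.le (hP (mem_zpowers t)))] at ht; simp at ht
  obtain ⟨g, rfl⟩ := isConj_iff.1 (hone z t h2 ht)
  refine ⟨ht, g • P, ?_, fun x hx => ?_⟩
  · change _ ∈ ((g • P : Sylow 2 G) : Subgroup G)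
    rw [Transfer.coe_sylow_smul]; exact Transfer.conj_mem_cj.2 h1
  · have hx : x ∈ ((g • P : Sylow 2 G) : Subgroup G) := hx
    rw [Transfer.coe_sylow_smul, Transfer.mem_cj] at hx
    calc _ = g * (g⁻¹ * x * g * z) * g⁻¹ := by group
      _ = _ := by rw [← (h3 _ hx).eq]; group

omit [Finite G] in
theorem JT.oa {φ : HH false →* G} (hφ : JT φ) : orderOf (φ a0) = 2 :=
  orderOf_eq_prime ((sq _).trans (map_sq (by decide +kernel))) fun e => absurd (hφ.inj (e.trans φ.map_one.symm)) (by decide +kernel)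

theorem isoJ3 {φ : HH false →* G} (hφ : JT φ) (ha : IsConj (φ z0) (φ a0)) : Cfsg.Spor.IsoJ3 G := by
  let F := GaloisField 2 2
  let _ : Fintype F := Fintype.ofFinite F
  have hF : Fintype.card F = 4 := by rw [← Nat.card_eq_fintype_card, GaloisField.card 2 2 (by norm_num)]; norm_num
  obtain ⟨ω, hω⟩ : ∃ ω : F, ω ^ 2 + ω + 1 = 0 := by
    classical
    obtain ⟨ω, h⟩ := exists_prime_orderOf_dvd_card' (G := Fˣ) 3 (by rw [Nat.card_units, Nat.card_eq_fintype_card, hF])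
    refine ⟨ω, (mul_eq_zero.1 (show ((ω : F) - 1) * (ω ^ 2 + ω + 1) = 0 by
      have := congrArg Units.val (h ▸ pow_orderOf_eq_one ω)
      push_cast at this; linear_combination this)).resolve_left fun e => ?_⟩
    rw [Units.ext (sub_eq_zero.1 e : (ω : F) = (1 : Fˣ))] at h; simp at h
  obtain ⟨-, -, h1, h2⟩ := Cfsg.Agent.S1625.result F hF ω hω
  have : Finite (Cfsg.Spor.J3 F ω) := Nat.finite_of_card_ne_zero (by rw [h1]; norm_num)
  obtain ⟨h3, t, ht, Q, _, q1, q2, -, -, ⟨e⟩⟩ := Cfsg.Agent.S2135.result hF ω hω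
  obtain ⟨ψ, hψ, -⟩ := jt_of_simple (twoCentral_of_conj h3 ht) Q q1 q2 e
  exact ⟨F, _, _, ω, hF, hω, hψ.iso_II hφ (h3 _ _ hψ.oz hψ.oa) ha h1⟩

omit [Finite G] in
theorem card_of_isoJ3 (h : Cfsg.Spor.IsoJ3 G) : Nat.card G = 50232960 := by
  obtain ⟨F, _, _, ω, hF, hω, ⟨e⟩⟩ := h
  rw [Nat.card_congr e.toEquiv, (Cfsg.Agent.S1625.result F hF ω hω).2.2.1]

omit [Finite G] in
theorem card_of_isoJ2 (h : Cfsg.Spor.IsoJ2 G) : Nat.card G = 604800 := by
  obtain ⟨e⟩ := h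
  rw [Nat.card_congr e.toEquiv, Cfsg.Agent.S1619.result.2.2.2]

theorem isoJ2 {φ : HH false →* G} (hφ : JT φ) (ha : ¬ IsConj (φ z0) (φ a0)) : Cfsg.Spor.IsoJ2 G := by
  have : Fact (Nat.Prime 2) := ⟨Nat.prime_two⟩
  have h1 := Cfsg.Agent.S1619.result.2.2.2
  have : Finite Cfsg.Spor.J2 := Nat.finite_of_card_ne_zero (by rw [h1]; norm_num)
  have := Cfsg.Agent.S1620.result.1
  have hf := J2.γ_refl
  have hm : J2.γ 1 ∈ Cfsg.Spor.twoJ2 := subset_closure hf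
  have h0 := Cfsg.Agent.S1623.result _ hf hm
  have t2 : (QuotientGroup.mk ⟨_, hm⟩ : Cfsg.Spor.J2) ^ 2 = 1 := by
    obtain ⟨r, -, hr⟩ := J2.isRefl_iff.1 hf
    rw [← QuotientGroup.mk_pow, show (⟨_, hm⟩ : Cfsg.Spor.twoJ2) ^ 2 = 1 from Subtype.ext ((sq (J2.γ 1)).trans (by rw [hr]; exact J2.rp_sq r))]; rfl
  generalize (QuotientGroup.mk ⟨_, hm⟩ : Cfsg.Spor.J2) = t at h0 t2
  obtain ⟨Q, _, q1, q2, ⟨e⟩⟩ := h0
  have hC : Nat.card (centralizer ({t} : Set Cfsg.Spor.J2)) = 1920 := by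
    rw [card_eq_card_quotient_mul_card_subgroup Q, (a5_facts e).2, q1]
  have ht : orderOf t = 2 := orderOf_eq_prime t2 fun e => by
    rw [e, centralizer_eq_top_iff_subset.2 (by simp), card_top, h1] at hC; omega
  obtain ⟨T, hT⟩ := Transfer.exists_sylowIn 2 (centralizer ({t} : Set Cfsg.Spor.J2))
  obtain ⟨P, rfl⟩ := (show Transfer.SylowIn 2 T ⊤ from ⟨le_top, hT.2, by
    have h2 := relIndex_mul_index hT.1
    have h3 := (centralizer ({t} : Set Cfsg.Spor.J2)).card_mul_index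
    rw [relIndex_top_right, ← h2, show (centralizer ({t} : Set Cfsg.Spor.J2)).index = 315 by rw [hC, h1] at h3; omega]
    exact fun h => hT.3 ((Nat.Coprime.dvd_mul_right (by norm_num)).1 h)⟩).exists_sylow_top
  obtain ⟨ψ, hψ, -⟩ := jt_of_simple ⟨ht, P, (hT.le_of_le_normalizer (Q := zpowers t) (IsPGroup.of_card (n := 1) (by simp [ht]))
    (zpowers_le.2 (mem_centralizer_singleton_iff.2 rfl)) fun g hg => Transfer.mem_normalizer_of_cj_le (Transfer.cj_le_iff.2 (by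
      rintro _ ⟨n, rfl⟩
      exact ⟨n, by rw [← conj_zpow, mem_centralizer_singleton_iff.1 (hT.1 hg), mul_inv_cancel_right]⟩))) (mem_zpowers _),
    fun x hx => mem_centralizer_singleton_iff.1 (hT.1 hx)⟩ Q q2 q1 e
  exact hψ.iso_I hφ (fun h => absurd (h1.symm.trans (card_of_isoJ3 (isoJ3 hψ h))) (by norm_num)) ha h1

theorem JT.isoJ2_of_two {φ : HH false →* G} (hφ : JT φ) (h : ∃ x y : G, orderOf x = 2 ∧ orderOf y = 2 ∧ ¬ IsConj x y) :
    Cfsg.Spor.IsoJ2 G := isoJ2 hφ fun a => by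
  obtain ⟨x, y, hx, hy, h⟩ := h
  exact h ((hφ.conj_of_II a hx).symm.trans (hφ.conj_of_II a hy))

theorem JT.isoJ3_of_one {φ : HH false →* G} (hφ : JT φ) (h : ∀ x y : G, orderOf x = 2 → orderOf y = 2 → IsConj x y) :
    Cfsg.Spor.IsoJ3 G := isoJ3 hφ (h _ _ hφ.oz hφ.oa)

end Cfsg.Lib.JT
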