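import Cfsg.Agent.Lib.JT.C2
import Cfsg.Agent.Lib.JT.C3
import Cfsg.Agent.Lib.Comp.JT2.T0
import Cfsg.Agent.Lib.Comp.JT3.T013
import Cfsg.Agent.Lib.Comp.JT2c.Main
import Cfsg.Agent.Lib.Comp.JT3c.Main

/-! # Type `J₂`/`J₃`: presentations -/

set_option autoImplicit false
set_option maxRecDepth 100000
set_option linter.dupNamespace false

namespace Cfsg.Lib.JT

open Subgroup Cfsg.Lib.Comp

variable {G : Type*} [Group G] {φ : HH false →* G}

def δ0 (i : ℕ) : HH false := [1, z0, u0, p0, q0, r0, s0, x0, x0⁻¹, a0, n0].getD i 1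

/-- letters `z u p q r s x X a n m M k K w` -/
def gam (φ : HH false →* G) (m w : G) (i : ℕ) : G :=
  if i ≤ 10 then φ (δ0 i) else [m, m⁻¹, φ n0 * m * φ n0, (φ n0 * m * φ n0)⁻¹, w].getD (i - 11) 1

def LL : List ℕ := [1, 2, 3, 4, 5, 6, 7, 8, 9, 10, 11, 12, 13, 14, 15]

noncomputable def RH : List (List ℕ × ℕ) := JT2.R.filter fun r => r.1.all (· ≤ 10)
def RM : List (List ℕ × ℕ) := [([11], 2), ([11, 6], 1), ([11, 1, 12, 2, 1], 0), ([11, 2, 12, 1], 0), ([12, 8, 11, 7], 0),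
  ([11, 9, 12, 7, 9, 8], 0), ([13, 10, 12, 10], 0), ([13], 2), ([15], 1), ([11, 12], 0), ([13, 14], 0)]
def R1 : List (List ℕ × ℕ) := [([15, 9], 1), ([15, 11, 8], 1), ([15, 1], 2), ([15, 8, 15, 7], 0)]
def R2 : List (List ℕ × ℕ) := [([15, 1, 15, 9], 0), ([15, 7, 15, 11, 8], 0), ([15, 6, 9, 6], 2)]

theorem gam_iv (m : G) {w : G} (hw : w * w = 1) : IvOK (gam φ m w) JT2.iv := by
  have h : ∀ x < 64, JT2.iv x < 64 ∧ ((x ≤ 10 ∧ JT2.iv x ≤ 10 ∧ δ0 (JT2.iv x) = (δ0 x)⁻¹) ∨ (x, JT2.iv x) = (11, 12) ∨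
      (x, JT2.iv x) = (12, 11) ∨ (x, JT2.iv x) = (13, 14) ∨ (x, JT2.iv x) = (14, 13) ∨ (x, JT2.iv x) = (15, 15) ∨
      (16 ≤ x ∧ JT2.iv x = x)) := by decide +kernel
  refine ⟨φ.map_one, fun x hx => ⟨(h x hx).1, ?_⟩⟩
  rcases (h x hx).2 with ⟨h1, h2, h3⟩ | e | e | e | e | e | ⟨h1, e⟩
  · rw [gam, gam, if_pos h1, if_pos h2, h3, map_inv]
  any_goals obtain ⟨rfl, e⟩ := Prod.ext_iff.1 e; rw [show JT2.iv _ = _ from e]; simp [gam, eq_inv_iff_mul_eq_one, hw]
  rw [e, gam, if_neg (by omega), List.getD_eq_default _ _ (by simp; omega), inv_one]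

theorem rels_H (m w : G) : Rels (gam φ m w) RH := fun r hr => by
  have h1 : Rels δ0 RH := by decide +kernel
  rw [ev_congr (gam φ m w) (γ' := fun x => φ (δ0 x)) fun x hx =>
    if_pos (by simpa using List.all_eq_true.1 (List.mem_filter.1 hr).2 x hx)]
  exact h1.map φ r hr

theorem M2.rels {m : G} (h : M2 φ m) {w : G} (hw : w * w = 1) : Rels (gam φ m w) RM := by
  have n2 : φ n0 * φ n0 = 1 := map_sq (by decide +kernel)
  have ni : (φ n0)⁻¹ = φ n0 := inv_eq_of_mul_eq_one_left n2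
  simp only [Rels, RM, List.forall_mem_cons, ev, List.map, List.prod_cons, List.prod_nil, mul_one, gam, δ0]
  norm_num
  refine ⟨h.m3, h.ms, ?_, ?_, ?_, ?_, ?_, ?_, (sq w).trans hw⟩
  · rw [← mul_assoc, ← mul_assoc, h.mz, ← map_mul, ← map_mul, ← φ.map_one]; exact congrArg φ (by decide +kernel)
  · rw [← mul_assoc, ← mul_assoc, h.mu]; exact map_sq (by decide +kernel)
  · rw [h.mx.comm]; group
  · rw [← mul_assoc, ← mul_assoc, h.ma, ← map_inv, ← map_mul, ← map_mul, ← map_mul, ← φ.map_one]; exact congrArg φ (by decide +kernel)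
  · simp only [mul_assoc, ← mul_assoc (φ n0) (φ n0), n2, one_mul, mul_inv_cancel_left]
  · nth_rw 2 [← ni]; rw [conj_pow, h.m3]; simp

/-- relations of case I -/
structure W1r (φ : HH false →* G) (m w : G) : Prop where
  w2 : w * w = 1
  wy : w * (m * φ x0⁻¹) * (w * (m * φ x0⁻¹)) = 1
  wz : w * φ z0 * (w * φ z0) * (w * φ z0) = 1
  wa : Cj φ w a0 a0
  wx : Cj φ w x0 x0

/-- relations of case II -/
structure W2r (φ : HH false →* G) (m w : G) : Prop where
  w2 : w * w = 1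
  wz : Cj φ w z0 a0
  wx : w * φ x0 * w⁻¹ = (m * φ x0⁻¹)⁻¹
  wb : (w * φ b0) ^ 3 = 1

theorem W1r.rels {m w : G} (h : W1r φ m w) : Rels (gam φ m w) R1 := by
  have wi : w⁻¹ = w := inv_eq_of_mul_eq_one_left h.w2
  simp only [Rels, R1, List.forall_mem_cons, ev, List.map, List.prod_cons, List.prod_nil, mul_one, gam, δ0]
  norm_num
  refine ⟨?_, by simpa [sq] using h.wy, by simpa [pow_three'] using h.wz, ?_⟩
  · rw [sq, ← mul_assoc]; nth_rw 2 [← wi]; rw [h.wa]; exact map_sq (by decide +kernel)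
  · rw [h.wx.comm, inv_mul_cancel_left, h.w2]

theorem W2r.rels {m w : G} (h : W2r φ m w) : Rels (gam φ m w) R2 := by
  have wi : w⁻¹ = w := inv_eq_of_mul_eq_one_left h.w2
  simp only [Rels, R2, List.forall_mem_cons, ev, List.map, List.prod_cons, List.prod_nil, mul_one, gam, δ0]
  norm_num
  refine ⟨?_, ?_, ?_⟩
  · rw [← mul_assoc, ← mul_assoc]; nth_rw 2 [← wi]; rw [h.wz]; exact map_sq (by decide +kernel)
  · rw [← mul_assoc, ← mul_assoc]; nth_rw 2 [← wi]; rw [h.wx, map_inv, inv_mul_cancel]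
  · rw [← map_mul, ← map_mul, show (s0 * (a0 * s0) : HH false) = b0 by decide +kernel, h.wb]

theorem range_le_cl (m w : G) : φ.range ≤ cl (gam φ m w) LL := by
  have h : ∀ i ∈ [1, 2, 3, 4, 5, 6, 7, 8, 9, 10], δ0 i ∈ (cl (gam φ m w) LL).comap φ := fun i hi => by
    have := mem_cl (γ := gam φ m w) (L := LL) (x := i) (by revert i; decide)
    rwa [gam, if_pos (by clear this; revert i; decide)] at this
  simp only [List.forall_mem_cons] at h
  obtain ⟨h1, h2, h3, h4, h5, h6, -, h8, h9, h10, -⟩ := h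
  have hv : v0 ∈ (cl (gam φ m w) LL).comap φ :=
    (show δ0 8 * δ0 10 * δ0 9 * δ0 10 = v0 by decide +kernel) ▸ mul_mem (mul_mem (mul_mem h8 h10) h9) h10
  rintro _ ⟨k, rfl⟩
  refine (show cl (γ0 false) JTa.L ≤ (cl (gam φ m w) LL).comap φ from cl_le.2 ?_) (cl_top false ▸ mem_top k)
  rw [show JTa.L = [1, 2, 3, 4, 5, 6, 7, 8, 9, 10] by decide +kernel]
  simp only [List.forall_mem_cons]
  exact ⟨h1, h2, h3, h4, h5, h6, h9, inv_mem h9, hv, inv_mem hv, by simp⟩

theorem ev_sub (m w : G) : ∀ v ∈ [1, 2, 3, 4, 5, 6, 7, 8, 9, 10].map fun x => [x], ev (gam φ m w) v ∈ φ.range := by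
  intro v hv
  obtain ⟨i, hi, rfl⟩ := List.mem_map.1 hv
  rw [ev_single, gam, if_pos (by revert i; decide)]; exact ⟨_, rfl⟩

theorem card_range_le : Nat.card φ.range ≤ 1920 :=
  card_HH false ▸ Nat.card_le_card_of_surjective _ φ.rangeRestrict_surjective

instance finite_range : Finite φ.range := Finite.of_surjective _ φ.rangeRestrict_surjective

theorem card_I {m w : G} (h : M2 φ m) (h1 : W1r φ m w)
    (e : w = φ z0 * (φ n0 * m * φ n0) * m⁻¹ * φ u0 * (φ n0 * m * φ n0)⁻¹) :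
    Finite (cl (gam φ m w) LL) ∧ Nat.card (cl (gam φ m w) LL) ≤ 604800 := by
  have hr : Rels (gam φ m w) [([15, 13, 2, 11, 14, 1], 0)] := by
    simp only [Rels, List.forall_mem_cons, ev, List.map, List.prod_cons, List.prod_nil, mul_one, gam, δ0]
    norm_num
    rw [e]; simp [mul_assoc, ← mul_assoc (φ u0) (φ u0), map_sq (φ := φ) (show (u0 * u0 : HH false) = 1 by decide +kernel),
      map_sq (φ := φ) (show (z0 * z0 : HH false) = 1 by decide +kernel)]
  obtain ⟨a, b⟩ := JT2.T0_idx.card_le φ.range (gam_iv m h1.w2)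
    (((((rels_H m w).append (h.rels h1.w2)).append h1.rels).append hr).mono (by decide +kernel)) (ev_sub m w)
  exact ⟨a, b.trans (by have := card_range_le (φ := φ); omega)⟩

theorem card_II {m w : G} (h : M2 φ m) (h1 : W2r φ m w)
    (e : w * φ s0 * w * φ s0 * w = φ z0 * (φ n0 * m * φ n0) * m * (φ n0 * m * φ n0)⁻¹) :
    Finite (cl (gam φ m w) LL) ∧ Nat.card (cl (gam φ m w) LL) ≤ 50232960 := by
  have hr : Rels (gam φ m w) [([15, 6, 15, 6, 15, 13, 12, 14, 1], 0)] := by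
    simp only [Rels, List.forall_mem_cons, ev, List.map, List.prod_cons, List.prod_nil, mul_one, gam, δ0]
    norm_num
    rw [← mul_assoc, ← mul_assoc, ← mul_assoc, ← mul_assoc, e]
    simp [mul_assoc, map_sq (φ := φ) (show (z0 * z0 : HH false) = 1 by decide +kernel)]
  obtain ⟨a, b⟩ := JT3.T0_idx.card_le φ.range (gam_iv m h1.w2)
    (((((rels_H m w).append (h.rels h1.w2)).append h1.rels).append hr).mono (by decide +kernel)) (ev_sub m w)
  exact ⟨a, b.trans (by have := card_range_le (φ := φ); omega)⟩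

theorem JT.m_notMem (hφ : JT φ) {m : G} (h : M2 φ m) : m ∉ φ.range := by
  rintro ⟨k, rfl⟩
  exact absurd (h.mz.uniq hφ (Cj.of k (z0_comm k))) (by decide +kernel)

variable [Finite G]

theorem JT.caseI (hφ : JT φ) (hna : ¬ IsConj (φ z0) (φ a0)) : ∃ m w, M2 φ m ∧ W1r φ m w ∧
    w = φ z0 * (φ n0 * m * φ n0) * m⁻¹ * φ u0 * (φ n0 * m * φ n0)⁻¹ ∧ cl (gam φ m w) LL = ⊤ := by
  obtain ⟨m, h⟩ := hφ.ex_m
  obtain ⟨w, w1, w2, w3, w4, w5⟩ := hφ.ex_wI hna h.y2
  have h1 : W1r φ m w := ⟨w1, w2, w3, w4, w5⟩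
  refine ⟨m, w, h, h1, ?_, hφ.eq_top (range_le_cl m w) ⟨m, mem_cl (x := 11) (by decide), h.mu⟩ fun e => absurd e hna⟩
  obtain ⟨i, hi, e⟩ := hφ.step3' h w1 w5 ⟨x0⁻¹, by simp [X0, ← SetLike.mem_coe], by
    have c : Commute (w * (m * φ x0⁻¹)) (φ x0) := ((Cj.of (k := x0) x0⁻¹ (by group)).comp h.mx |>.comp w5).comm
    rw [show w * m = w * (m * φ x0⁻¹) * φ x0 by simp [mul_assoc], c.mul_pow, sq, w2, one_mul, ← map_pow]
    exact congrArg φ (by decide +kernel)⟩ (by rw [pow_three', w3])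
  have R0 := ((rels_H m w).append (h.rels w1)).append h1.rels
  have key : ∀ r : List ℕ, Mem JT2c.iv ([(r, 0)] ++ JT2c.R) ([1, 2, 3, 4, 5, 6, 7, 8, 9, 10].map fun x => [x]) [[11]] →
      ev (gam φ m w) r ≠ 1 := fun r hr e => hφ.m_notMem h (by
    simpa [ev, gam] using hr G _ φ.range (gam_iv m w1) (Rels.append (by simpa [Rels] using e) (R0.mono (by decide +kernel)))
      (ev_sub m w) [11] (by simp))
  have u2 := map_sq (φ := φ) (show (u0 * u0 : HH false) = 1 by decide +kernel)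
  have z2 := map_sq (φ := φ) (show (z0 * z0 : HH false) = 1 by decide +kernel)
  simp only [List.mem_cons, List.not_mem_nil, or_false] at hi
  rcases hi with rfl | rfl | rfl <;> rcases e with e | e
  · exact absurd (by simp [ev, gam, δ0]; rw [e]; simp [mul_assoc, z2]) (key _ JT2c.c0)
  · simpa using e
  · exact absurd (by simp [ev, gam, δ0]; rw [e]; simp [mul_assoc, z2]) (key _ JT2c.c1)
  · exact absurd (by simp [ev, gam, δ0]; rw [e]; simp [mul_assoc, ← mul_assoc (φ u0) (φ u0), u2, z2]) (key _ JT2c.c4)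
  · exact absurd (by simp [ev, gam, δ0]; rw [e]; simp [mul_assoc, z2]) (key _ JT2c.c2)
  · exact absurd (by simp [ev, gam, δ0]; rw [e]; simp [mul_assoc, ← mul_assoc (φ u0) (φ u0), u2, z2]) (key _ JT2c.c5)

theorem JT.caseII (hφ : JT φ) (ha : IsConj (φ z0) (φ a0)) : ∃ m w, M2 φ m ∧ W2r φ m w ∧
    w * φ s0 * w * φ s0 * w = φ z0 * (φ n0 * m * φ n0) * m * (φ n0 * m * φ n0)⁻¹ ∧ cl (gam φ m w) LL = ⊤ := by
  obtain ⟨m, h⟩ := hφ.ex_m
  obtain ⟨w, w1, w2, w3, w4⟩ := hφ.ex_w2 ha h.y2 h.yb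
  have h1 : W2r φ m w := ⟨w1, w2, w3, w4⟩
  have wi : w⁻¹ = w := inv_eq_of_mul_eq_one_left w1
  refine ⟨m, w, h, h1, ?_, hφ.eq_top (range_le_cl m w) ⟨m, mem_cl (x := 11) (by decide), h.mu⟩
    fun _ => ⟨w, mem_cl (x := 15) (by decide), wi ▸ w2.symm⟩⟩
  have u2 := map_sq (φ := φ) (show (u0 * u0 : HH false) = 1 by decide +kernel)
  have z2 := map_sq (φ := φ) (show (z0 * z0 : HH false) = 1 by decide +kernel)
  have s2 := map_sq (φ := φ) (show (s0 * s0 : HH false) = 1 by decide +kernel)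
  have si : (φ s0)⁻¹ = φ s0 := inv_eq_of_mul_eq_one_left s2
  have ww : ∀ t, w * (w * t) = t := fun t => by rw [← mul_assoc, w1, one_mul]
  have ss : ∀ t, φ s0 * (φ s0 * t) = t := fun t => by rw [← mul_assoc, s2, one_mul]
  have mx : Commute m (φ x0) := h.mx.comm
  have sx : Commute (φ s0) (φ x0) := (Cj.of s0 (by decide +kernel)).comm
  have x3 : φ x0 * φ x0 = (φ x0)⁻¹ := by rw [← map_mul, ← map_inv]; exact congrArg φ (by decide +kernel)
  -- conjugation by `w` and `s` on `⟨m, x⟩`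
  let W := MulAut.conj w
  let S := MulAut.conj (φ s0)
  have Wx : W (φ x0) = φ x0 * m⁻¹ := by simpa [W] using w3
  have WW : ∀ t, W (W t) = t := fun t => by simp [W, wi, mul_assoc, ww, w1]
  have Wm : W m = m⁻¹ := by
    have := WW (φ x0)
    rw [Wx, map_mul, Wx, map_inv, mul_assoc, mul_eq_left, ← mul_inv_rev, inv_eq_one] at this
    exact eq_inv_of_mul_eq_one_left this
  have Sx : S (φ x0) = φ x0 := by simp [S, sx.eq]
  have Sm : S m = m⁻¹ := by simp [S, si, h.sms]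
  have cj : ∀ t, w * φ s0 * w * φ s0 * w * t * (w * φ s0 * w * φ s0 * w)⁻¹ = W (S (W (S (W t)))) := fun t => by
    simp [W, S, mul_assoc]
  have v2 : w * φ s0 * w * φ s0 * w * (w * φ s0 * w * φ s0 * w) = 1 := by simp only [mul_assoc, ww, ss, w1]
  have vi := inv_eq_of_mul_eq_one_left v2
  obtain ⟨i, hi, e⟩ := hφ.step3' h v2
    (by
      rw [Cj, cj]
      simp only [map_mul, map_inv, Wx, Wm, Sx, Sm, inv_inv]
      rw [mul_assoc, mul_assoc, ← pow_three, inv_pow, h.m3, inv_one, mul_one])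
    ⟨1, one_mem _, by
      rw [sq, ← mul_assoc]; nth_rw 2 [← vi]; rw [cj]
      simp only [map_inv, Wm, Sm, inv_inv, inv_mul_cancel, map_one]⟩
    (by
      have e1 : φ b0 = φ s0 * (φ a0 * φ s0) := by rw [← map_mul, ← map_mul]; exact congrArg φ (by decide +kernel)
      have e2 : φ z0 = w * (φ a0 * w) := by rw [← w2, wi]; simp only [mul_assoc, ww, w1, mul_one]
      have zs : φ z0 * φ s0 = φ s0 * φ z0 := (Cj.of s0 (z0_comm _)).comm.symm
      have e3 : w * φ s0 * w * φ s0 * w * φ z0 = (w * φ s0 * w * φ s0) * (φ a0 * w) := by rw [e2]; simp only [mul_assoc, ww]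
      have e4 : (w * φ s0 * w * φ s0) * (φ a0 * w) = (w * φ s0) * (w * φ b0) * (w * φ s0)⁻¹ := by
        rw [e1, mul_inv_rev, si, wi]; simp only [mul_assoc, ss]
      rw [e3, e4, conj_pow, w4]; simp)
  have R0 := ((rels_H m w).append (h.rels w1)).append h1.rels
  have key : ∀ r : List ℕ, Mem JT3c.iv ([(r, 0)] ++ JT3c.R) ([1, 2, 3, 4, 5, 6, 7, 8, 9, 10].map fun x => [x]) [[11]] →
      ev (gam φ m w) r ≠ 1 := fun r hr e => hφ.m_notMem h (by
    simpa [ev, gam] using hr G _ φ.range (gam_iv m w1) (Rels.append (by simpa [Rels] using e) (R0.mono (by decide +kernel)))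
      (ev_sub m w) [11] (by simp))
  have as : ∀ t, w * (φ s0 * (w * (φ s0 * (w * t)))) = w * φ s0 * w * φ s0 * w * t := fun t => by simp only [mul_assoc]
  simp only [List.mem_cons, List.not_mem_nil, or_false] at hi
  rcases hi with rfl | rfl | rfl <;> rcases e with e | e
  · simpa using e
  · exact absurd (by simp [ev, gam, δ0]; rw [as, e]; simp [mul_assoc, ← mul_assoc (φ u0) (φ u0), u2, z2]) (key _ JT3c.c3)
  · exact absurd (by simp [ev, gam, δ0]; rw [as, e]; simp [mul_assoc, z2]) (key _ JT3c.c1)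
  · exact absurd (by simp [ev, gam, δ0]; rw [as, e]; simp [mul_assoc, ← mul_assoc (φ u0) (φ u0), u2, z2]) (key _ JT3c.c4)
  · exact absurd (by simp [ev, gam, δ0]; rw [as, e]; simp [mul_assoc, z2]) (key _ JT3c.c2)
  · exact absurd (by simp [ev, gam, δ0]; rw [as, e]; simp [mul_assoc, ← mul_assoc (φ u0) (φ u0), u2, z2]) (key _ JT3c.c5)

end Cfsg.Lib.JT
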