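import Cfsg.Agent.Lib.JT.Id2

/-! # The four groups `2^{1+4}_-.S₄` as table groups -/

set_option autoImplicit false
set_option maxRecDepth 100000
set_option synthInstance.maxSize 4000

namespace Cfsg.Lib.JT.S4

open Cfsg.Lib.Golay Subgroup

def f24 (n : ℕ) : Fin 24 := ⟨Nat.mod n (nat_lit 24), Nat.mod_lt _ (by decide)⟩
def aT : ℕ := nat_lit 0x290e6d6f19a56d75a9286b1ee9ca30ef3fe188204a14bbda95c677a31ca4635ee94e30e77fe10c20290c7d6f38635ee94e30ad2d752d28e77fe10c208c27273d8dce37a398a4a56d75a928ef3fe188204a16abdab46b1ee9ca30ce37a398a4ef3fe188208c25373dacad2d752d28c677a31ca4e77fe10c20290c7ad2d7deb1952d286b1cfe77fe94e3010c204a16ace37ab5e95398a4635cfef3fe9ca3018820290e6ad2f6635cfef3fed6f195a9289ca3018820ffb9d7b98dbda9531ca4deb1952d2894e3010c204a14bce35b6b1cfe77febda9531ca494e3010c20ffbbc7b9acd6f195a928b5e95398a49ca3018820290e66b1eedeb389ca30ad2f6ef3fe5a928188208c253c677a7b98d31ca4a56f6e77fe52d2810c20290c76b1cfa56f6e77fed6f3894e3052d2810c20ffbbcb5e9573d8d398a4deb389ca305a928188208c272c675bad2f6ef3fe73d8d398a45a92818820ffb9db5eb4d6f3894e307b98d31ca452d2810c204a14b635eeb5eb494e30ce35be77fe31ca410c208c272a56d77b9ac5a928c675bef3fe398a4188204a16a635cfc675bef3febdab49ca30398a418820ffb9ddeb1973dac52d28b5eb494e3031ca410c208c253a56f6ce35be77fe73dac52d2831ca410c20ffbbcdeb38bdab49ca307b9ac5a928398a418820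
def pT : ℕ := nat_lit 0x443214c74254b635cf84653a56d731d0952c0110c8573d8d8c29594ef610c012918d73e1131d0952e72b5e95635cf84443004a4424c75aad79cab4424c75a9cf6363000443216b4bda5373d8d8c10931d6a10c01292f6ad2720808510ce652d0994e95b5d8d73e113994b4242021443a5653bd9cf636302142018a53a56d73994b425ac845cf94e95b5c850806252ce64a2116b1ee52ce64a29594ef60808510dee8c18da5653bd94b399282142018a307b9ac188a4005ac845cf9cad7a54c74254b6b21173c6229001b5e72ad10931d6a2906208272b5e956b21173ce652d099cad7a54a418820845ac7b94b39928845ac7bad79cab4188a4005285a8c7b5e72ad2116b1ee290620816a4a0e64a16a31dee8c18dad2f694c0110c857ba30635285a8c7bdab49c843004a45a92839ab4bda537ba306342021443ad2f694d6a4a0e68c1ee6b085080628c1ee6b2f6ad2724a16a31c6229001bdab49ca307b9ac5a928398a418820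
def sP : ℕ := nat_lit 0x9bf0269bf0269bf0269bf0269bf0269bf02667f98067f9809a6fc00000009a6fc000000067f98067f9809a6fc00000009a6fc000000067f98067f9809a6fc00000009a6fc0000000
def ac (a : Fin 24) (b : Fin 32) : Fin 32 := f32 (Nat.shiftRight aT (Nat.mul (nat_lit 5) (Nat.add (Nat.mul (nat_lit 32) a.1) b.1)))
def pm (a b : Fin 24) : Fin 24 := f24 (lk pT (nat_lit 5) (nat_lit 31) (Nat.add (Nat.mul (nat_lit 24) a.1) b.1))
def pi' (a : Fin 24) : Fin 24 := f24 (lk (nat_lit 0xbc6af5a6d0a39489b64c398a320820) (nat_lit 5) (nat_lit 31) a.1)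
def sg (a : Fin 24) : Bool := Nat.beq (lk (nat_lit 0x666666) (nat_lit 1) (nat_lit 1) a.1) (nat_lit 1)
def sp (a b : Fin 24) : Bool := Nat.beq (lk sP (nat_lit 1) (nat_lit 1) (Nat.add (Nat.mul (nat_lit 24) a.1) b.1)) (nat_lit 1)
def cz (e f : Bool) (a b : Fin 24) : Bool := xor (e.rec false (sp a b)) (f.rec false (sg a && sg b))

theorem f24_val (a : Fin 24) : f24 a.1 = a := Fin.ext (Nat.mod_eq_of_lt a.2)
@[instance_reducible] noncomputable def all24 (P : Fin 24 → Prop) [DecidablePred P] : Decidable (∀ x, P x) :=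
  decidable_of_iff (Golay.allN 24 (fun i => decide (P (f24 i))) = true)
    ⟨fun h x => by simpa [f24_val] using Golay.allN_iff.1 h x.1 x.2, fun h => Golay.allN_iff.2 fun _ _ => decide_eq_true (h _)⟩
@[instance_reducible] noncomputable def ex24 (P : Fin 24 → Prop) [DecidablePred P] : Decidable (∃ x, P x) :=
  decidable_of_iff (anyN 24 (fun i => decide (P (f24 i))) = true)
    ⟨fun h => let ⟨_, _, h⟩ := anyN_iff.1 h; ⟨_, of_decide_eq_true h⟩,
      fun ⟨x, h⟩ => anyN_iff.2 ⟨x.1, x.2, by simpa [f24_val] using h⟩⟩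
attribute [scoped instance 2000] all24 ex24

theorem ac_qm : ∀ p a b, ac p (qm a b) = qm (ac p a) (ac p b) := by decide +kernel
theorem ac_pm : ∀ p r a, ac (pm p r) a = ac p (ac r a) := by decide +kernel
theorem pm_assoc : ∀ a b c, pm (pm a b) c = pm a (pm b c) := by decide +kernel
theorem cz_coc : ∀ e f a b c, xor (cz e f a b) (cz e f (pm a b) c) = xor (cz e f b c) (cz e f a (pm b c)) := by decide +kernel
theorem ac_zz : ∀ c p a, ac p (zz c a) = zz c (ac p a) := by decide +kernel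

@[ext] structure HM (e f : Bool) where
  q : Fin 32
  p : Fin 24

variable {e f : Bool}

instance decEq : DecidableEq (HM e f) := fun x y => decidable_of_iff (x.p = y.p ∧ x.q = y.q) (by rw [HM.ext_iff, and_comm])
noncomputable instance decAll (P : HM e f → Prop) [DecidablePred P] : Decidable (∀ x, P x) :=
  decidable_of_iff (∀ p q, P ⟨q, p⟩) ⟨fun h x => h x.p x.q, fun h _ _ => h _⟩
noncomputable instance decEx (P : HM e f → Prop) [DecidablePred P] : Decidable (∃ x, P x) :=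
  decidable_of_iff (∃ p q, P ⟨q, p⟩) ⟨fun ⟨_, _, h⟩ => ⟨_, h⟩, fun ⟨x, h⟩ => ⟨x.p, x.q, h⟩⟩
instance : Mul (HM e f) := ⟨fun x y => ⟨zz (cz e f x.p y.p) (qm x.q (ac x.p y.q)), pm x.p y.p⟩⟩
instance : One (HM e f) := ⟨⟨0, 0⟩⟩
instance : Inv (HM e f) := ⟨fun x => ⟨zz (cz e f (pi' x.p) x.p) (ac (pi' x.p) (qi x.q)), pi' x.p⟩⟩
instance : Group (HM e f) := Group.ofLeftAxioms
  (fun x y w => HM.ext (by
    change zz (cz e f (pm x.p y.p) w.p) (qm (zz (cz e f x.p y.p) (qm x.q (ac x.p y.q))) (ac (pm x.p y.p) w.q)) =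
      zz (cz e f x.p (pm y.p w.p)) (qm x.q (ac x.p (zz (cz e f y.p w.p) (qm y.q (ac y.p w.q)))))
    rw [ac_zz, ac_qm, ac_pm, (qm_zz _ _ _).1, (qm_zz _ _ _).2, zz_zz, zz_zz, qm_assoc, cz_coc]) (pm_assoc _ _ _))
  (by revert e f; decide +kernel) (by revert e f; decide +kernel)

def eqv : HM e f ≃ Fin 32 × Fin 24 := ⟨fun x => (x.q, x.p), fun x => ⟨x.1, x.2⟩, fun _ => rfl, fun _ => rfl⟩
instance : Finite (HM e f) := Finite.of_equiv _ eqv.symm
theorem card_HM : Nat.card (HM e f) = 768 := by rw [Nat.card_congr eqv]; simp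

def z : HM e f := ⟨1, 0⟩
def u : HM e f := ⟨2, 0⟩
def p : HM e f := ⟨4, 0⟩
def x : HM e f := ⟨0, 3⟩
def a : HM e f := ⟨e.rec 0 1, 23⟩
def c : HM e f := ⟨0, 2⟩
def zb (b : Bool) : HM e f := b.rec 1 z
def isA (k : HM e f) : Prop := k.p = 7 ∨ k.p = 16 ∨ k.p = 23
instance (k : HM e f) : Decidable (isA k) := by unfold isA; infer_instance

/-- `Q` inside the model -/
def ι : Q0 false →* HM e f := MonoidHom.mk' (fun t => ⟨t.1.q, 0⟩) (by revert e f; decide +kernel)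

theorem z_cen : ∀ k : HM e f, k * z = z * k := by revert e f; decide +kernel
theorem cen_Q : ∀ k : HM e f, (∀ i, k * ι (UQ i) = ι (UQ i) * k) → k = 1 ∨ k = z := by revert e f; decide +kernel
theorem dec (k : HM e f) : ∃ w ∈ [1, a, x * a * x⁻¹, a * (x * a * x⁻¹)], ∃ v ∈ [1, x, x * x], ∃ s ∈ [1, c], (k * (w * v * s)⁻¹).p = 0 := by
  obtain ⟨w, w1, v, v1, s, s1, h⟩ := (show ∀ r : Fin 24, ∃ w ∈ [(1 : HM e f), a, x * a * x⁻¹, a * (x * a * x⁻¹)], ∃ v ∈ [1, x, x * x],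
    ∃ s ∈ [1, c], r = (w * v * s).p by revert e f; decide +kernel) k.p
  exact ⟨w, w1, v, v1, s, s1, (show ∀ r s : Fin 24, r = s → pm r (pi' s) = 0 by decide +kernel) _ _ h⟩
theorem cj_Q : ∀ k : HM e f, ∀ i, (k * ι (UQ i) * k⁻¹).p = 0 := by revert e f; decide +kernel
theorem Fb : ∀ w : HM e f, w * w = 1 → ∃ k, k * w = w * k ∧ k * k = z := by revert e f; decide +kernel
theorem Fc : ∀ k : HM e f, k * k * (k * k) = 1 → k * k = 1 ∨ k * k = z ∨ k * k = u ∨ k * k = u * z ∨ isA (k * k) := by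
  revert e f; decide +kernel
theorem Fd : ∀ k : HM e f, isA k → k * k = 1 → ∃ q ∈ [0, 4, 8, 12, 16, 20, 24, 28], ∃ s ∈ [0, 1, 3],
    (⟨q, s⟩ : HM e f) * a * (⟨q, s⟩ : HM e f)⁻¹ = k := by revert e f; decide +kernel
theorem Fe : (a : HM e f) * a = 1 → ∀ l : HM e f, l * a = a * l → l * l * (l * l) = 1 ∧ (l * l = 1 → ∀ m, m * a = a * m → m * m = 1 → l * m = m * l →
    isA l ∨ isA (l * a) ∨ ∃ v ∈ [1, z, a, a * z], l = v ∨ m = v ∨ m = l * v) := by revert e f; decide +kernel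
def LA : List (HM e f) := [⟨12, 0⟩, ⟨13, 0⟩, ⟨14, 0⟩, ⟨15, 0⟩, ⟨20, 0⟩, ⟨21, 0⟩, ⟨22, 0⟩, ⟨23, 0⟩, ⟨24, 0⟩, ⟨25, 0⟩, ⟨26, 0⟩, ⟨27, 0⟩,
  f.rec a (p * c)]
def LB : List (HM e f) := [⟨e.rec 24 20, 7⟩, ⟨e.rec 25 21, 7⟩, ⟨e.rec 26 22, 7⟩, ⟨e.rec 27 23, 7⟩, ⟨e.rec 12 24, 16⟩, ⟨e.rec 13 25, 16⟩,
  ⟨e.rec 14 26, 16⟩, ⟨e.rec 15 27, 16⟩, ⟨e.rec 20 12, 23⟩, ⟨e.rec 21 13, 23⟩, ⟨e.rec 22 14, 23⟩, ⟨e.rec 23 15, 23⟩]
theorem LA_spec : e = false ∧ f = false ∨ (LA (e := e) (f := f)).Nodup ∧ ∀ k ∈ LA (e := e) (f := f), k * k = z ∧ k * u = u * k := by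
  revert e f; decide +kernel
theorem LB_spec : ∀ k : HM e f, k * k = u → k ∈ LB := by revert e f; decide +kernel

end Cfsg.Lib.JT.S4
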