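import Cfsg.Agent.Lib.JT.Q41
import Cfsg.Agent.Lib.JT.C2
import Cfsg.Agent.Lib.PGrp.Basic

/-! # Identification of `2^{1+4}_-.S₄` with the table groups -/

set_option autoImplicit false
set_option maxRecDepth 100000
set_option synthInstance.maxSize 4000

namespace Cfsg.Lib.JT.S4

open Subgroup Cfsg.Lib.Comp Cfsg.Lib.Known2 Equiv

theorem genQ {M : Subgroup (Q0 false)} (h1 : zQ ∈ M) (h2 : ∀ i, i ≠ 0 → UQ i ∈ M) (t : Q0 false) : t ∈ M := by
  obtain ⟨a, ha, b, hb, c, hc, d, hd, e, he, rfl⟩ := (show ∀ t : Q0 false, ∃ a ∈ [1, zQ], ∃ b ∈ [1, UQ 1], ∃ c ∈ [1, UQ 2],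
    ∃ d ∈ [1, UQ 3], ∃ e ∈ [1, UQ 4], t = a * b * c * d * e by decide +kernel) t
  have k : ∀ s ∈ M, ∀ a ∈ [1, s], a ∈ M := fun s hs a ha => by
    simp only [List.mem_cons, List.not_mem_nil, or_false] at ha
    rcases ha with rfl | rfl
    exacts [one_mem _, hs]
  exact mul_mem (mul_mem (mul_mem (mul_mem (k _ h1 _ ha) (k _ (h2 _ (by decide)) _ hb)) (k _ (h2 _ (by decide)) _ hc))
    (k _ (h2 _ (by decide)) _ hd)) (k _ (h2 _ (by decide)) _ he)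
theorem nclQ : ∀ t : Q0 false, t = 1 ∨ t = zQ ∨ ∃ i, t * (UQ i * t⁻¹ * (UQ i)⁻¹) = zQ := by decide +kernel
theorem corQ' : ∀ e1 ∈ [1, zQ], ∀ e2 ∈ [1, zQ], ∀ e3 ∈ [1, zQ], ∀ e4 ∈ [1, zQ], ∃ t, t * UQ 1 * t⁻¹ = UQ 1 * e1 ∧
    t * UQ 2 * t⁻¹ = UQ 2 * e2 ∧ t * UQ 3 * t⁻¹ = UQ 3 * e3 ∧ t * UQ 4 * t⁻¹ = UQ 4 * e4 := by decide +kernel

def sa : Perm (Fin 5) := swap 1 4 * swap 2 3
def sx : Perm (Fin 5) := swap 2 4 * swap 2 3
def sc : Perm (Fin 5) := swap 2 3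
section
attribute [-instance] eqF
theorem s5 : ∀ a : Perm (Fin 5), a * a = 1 → a ≠ 1 → ∀ x : Perm (Fin 5), x * x * x = 1 → x * (x * a * x⁻¹) * x⁻¹ = a * (x * a * x⁻¹) →
    ∀ c : Perm (Fin 5), c * c = 1 → c * x * c⁻¹ = x⁻¹ → c * a = a * c → ∃ π, a * π = π * sa ∧ x * π = π * sx ∧ c * π = π * sc := by
  decide +kernel
end

variable {H : Type*} [Group H] {Q : Subgroup H} {w : H}

theorem theta [Finite H] (h : ES Q w) (hc : Nat.card Q = 32) {V : Fin 5 → H} (mem : ∀ i, i ≠ 0 → V i ∈ Q)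
    (sq : ∀ i, i ≠ 0 → V i * V i = 1) (anti : ∀ i j, i ≠ 0 → j ≠ 0 → i ≠ j → V i * V j ≠ V j * V i) :
    ∃ θ : Q0 false →* H, Function.Injective θ ∧ θ.range = Q ∧ θ zQ = w ∧ ∀ i, i ≠ 0 → θ (UQ i) = V i := by
  have m1 := mem 1 (by decide); have m2 := mem 2 (by decide); have m3 := mem 3 (by decide); have m4 := mem 4 (by decide)
  have r3 := mul_mem m3 m4; have r2 := mul_mem m2 r3; have r1 := mul_mem m1 r2
  have an : ∀ i j, i ≠ 0 → j ≠ 0 → (V i * V j = V j * V i ↔ i = j) := fun i j a b =>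
    ⟨fun e => by_contra fun n => anti i j a b n e, fun e => by rw [e]⟩
  have s0 : V 1 * (V 2 * (V 3 * V 4)) * (V 1 * (V 2 * (V 3 * V 4))) = 1 := by
    rw [es_sq_mul h m1 r2, es_sq_mul h m2 r3, es_sq_mul h m3 m4, h.mul_comm_iff m1 m2 r3, h.mul_comm_iff m1 m3 m4,
      h.mul_comm_iff m2 m3 m4]
    simp (disch := decide) [sq, an]
  have a0 : ∀ j, j ≠ 0 → V j * (V 1 * (V 2 * (V 3 * V 4))) ≠ V 1 * (V 2 * (V 3 * V 4)) * V j := fun j hj => by
    rw [Ne, h.mul_comm_iff (mem j hj) m1 r2, h.mul_comm_iff (mem j hj) m2 r3, h.mul_comm_iff (mem j hj) m3 m4,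
      an j 1 hj (by decide), an j 2 hj (by decide), an j 3 hj (by decide), an j 4 hj (by decide)]
    revert j; decide
  let U : Fin 5 → H := fun i => if i = 0 then V 1 * (V 2 * (V 3 * V 4)) else V i
  have U0 : U 0 = V 1 * (V 2 * (V 3 * V 4)) := rfl
  have Ui : ∀ i, i ≠ 0 → U i = V i := fun i hi => if_neg hi
  have mU : ∀ i, U i ∈ Q := fun i => by
    by_cases e : i = 0
    exacts [e ▸ r1, Ui i e ▸ mem i e]
  have sU : ∀ i, U i * U i = 1 := fun i => by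
    by_cases e : i = 0
    exacts [e ▸ s0, Ui i e ▸ sq i e]
  have aU : ∀ i j, i ≠ j → U i * U j ≠ U j * U i := fun i j hij => by
    by_cases e : i = 0
    · subst e; rw [Ui j hij.symm]; exact (a0 j hij.symm).symm
    by_cases e' : j = 0
    · subst e'; rw [Ui i e]; exact a0 i e
    rw [Ui i e, Ui j e']; exact anti i j e e' hij
  have pU : U 0 * (U 1 * (U 2 * (U 3 * U 4))) = 1 := s0
  have rels : Rels (lt8 w (U 0) (U 1) (U 2) (U 3) (U 4) 1 1) JTa.T1_R := by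
    have a1 : ∀ i, (w * U i) ^ 2 = 1 := fun i => by
      rw [_root_.sq, mul_assoc, ← mul_assoc (U i), h.cen _ (mU i), mul_assoc, sU, mul_one, h.sq]
    have a2 : ∀ i j, i ≠ j → U i * (U j * (U i * (U j * w))) = 1 := fun i j hij => by
      rw [← mul_assoc (U i) (U j) w, h.anti (mU i) (mU j) (aU i j hij), mul_assoc _ w, h.sq, mul_one,
        ← mul_assoc (U j), sU, one_mul, sU]
    simp only [Rels, JTa.T1_R, List.forall_mem_cons, ev, List.map, List.prod_cons, List.prod_nil, mul_one, lt8]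
    norm_num
    simp only [a1, pU, true_and]
    simp [a2, _root_.sq, h.sq, sU]
  obtain ⟨f, hf⟩ := hom_of_ord JTa.T1_ord (iv0 false) (rel_q false) (lt8_iv 1 1 h.sq (sU _) (sU _) (sU _) (sU _) (sU _)) rels
    (by rw [cl_Q, card_Q0])
  let θ := f.comp (MulEquiv.subgroupCongr (cl_Q false).symm).toMonoidHom
  have k : ∀ i (hi : i ∈ [1, 2, 3, 4, 5, 6]) (t : Q0 false), t.1 = γ0 false i → θ t = lt8 w (U 0) (U 1) (U 2) (U 3) (U 4) 1 1 i :=
    fun i hi t e => by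
      rw [← ev_single (lt8 w (U 0) (U 1) (U 2) (U 3) (U 4) 1 1) i, ← hf [i] (by simpa using hi)]
      exact congrArg f (Subtype.ext (e.trans (ev_single _ i).symm))
  have h1 : θ zQ = w := k 1 (by simp) _ rfl
  have h2 : ∀ i, θ (UQ i) = U i := fun i => by
    fin_cases i
    exacts [k 2 (by simp) _ rfl, k 3 (by simp) _ rfl, k 4 (by simp) _ rfl, k 5 (by simp) _ rfl, k 6 (by simp) _ rfl]
  have hi : Function.Injective θ := (injective_iff_map_eq_one θ).2 fun t ht => by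
    rcases nclQ t with e | rfl | ⟨i, e⟩
    · exact e
    · exact absurd (h1.symm.trans ht) h.ne
    · exact absurd (by rw [← h1, ← e]; simp [ht]) h.ne
  refine ⟨θ, hi, eq_of_le_of_card_ge ?_ (by rw [hc, ← Nat.card_congr (MonoidHom.ofInjective hi).toEquiv, card_Q0]), h1,
    fun i hi => (h2 i).trans (Ui i hi)⟩
  rintro _ ⟨t, rfl⟩
  exact genQ (M := Q.comap θ) (show θ zQ ∈ Q from h1 ▸ h.mem) (fun i _ => show θ _ ∈ Q from h2 i ▸ mU i) t

theorem quad [Finite H] (h : ES Q w) (hc : Nat.card Q = 32)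
    (hr : ∀ s ∈ Q, ∀ t ∈ Q, s * s = 1 → t * t = 1 → s * t = t * s → ¬ (s = 1 ∨ s = w) → ∃ v ∈ [1, w, s, s * w], t = v) :
    ∃ V : Fin 5 → H, (∀ i, i ≠ 0 → V i ∈ Q) ∧ (∀ i, i ≠ 0 → V i * V i = 1) ∧ ∀ i j, i ≠ 0 → j ≠ 0 → i ≠ j → V i * V j ≠ V j * V i := by
  have wc : ∀ x ∈ Q, w * x = x * w := fun x hx => (h.cen x hx).symm
  obtain ⟨x, hx, y, hy, xy⟩ := h.nonab
  have fx : ∀ q ∈ Q, ∃ r ∈ [1, x, y, x * y], x * (r * q) = r * q * x ∧ y * (r * q) = r * q * y := fun q hq => by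
    by_cases a : x * q = q * x <;> by_cases b : y * q = q * y
    · exact ⟨1, by simp, by simpa using a, by simpa using b⟩
    · exact ⟨x, by simp, (h.mul_comm_iff hx hx hq).2 (iff_of_true rfl a), (h.mul_comm_iff hy hx hq).2 (iff_of_false (Ne.symm xy) b)⟩
    · exact ⟨y, by simp, (h.mul_comm_iff hx hy hq).2 (iff_of_false xy a), (h.mul_comm_iff hy hy hq).2 (iff_of_true rfl b)⟩
    · exact ⟨x * y, by simp, (h.mul_comm_iff hx (mul_mem hx hy) hq).2 (iff_of_false (by rw [h.mul_comm_iff hx hx hy]; simpa using xy) a),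
        (h.mul_comm_iff hy (mul_mem hx hy) hq).2 (iff_of_false (by rw [h.mul_comm_iff hy hx hy]; simpa using Ne.symm xy) b)⟩
  have rQ : ∀ r ∈ [1, x, y, x * y], r ∈ Q := by simp [hx, hy, mul_mem hx hy]
  obtain ⟨s, hs, s1, s2, s3⟩ : ∃ s ∈ Q, x * s = s * x ∧ y * s = s * y ∧ ¬ (s = 1 ∨ s = w) := by
    by_contra hn
    push Not at hn
    have := card_le_of_list (· ∈ Q) ([1, x, y, x * y] ×ˢ [1, w]) (fun t => t.1⁻¹ * t.2) fun q hq => by
      obtain ⟨r, r1, r2, r3⟩ := fx q hq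
      exact ⟨(r, r * q), List.pair_mem_product.2 ⟨r1, by simpa using hn _ (mul_mem (rQ r r1) hq) r2 r3⟩, inv_mul_cancel_left r q⟩
    exact absurd (hc.symm.trans_le this) (by simp)
  obtain ⟨t, ht, st, t1, t2⟩ : ∃ t ∈ Q, s * t ≠ t * s ∧ x * t = t * x ∧ y * t = t * y := by
    obtain ⟨q, hq, e⟩ := h.exists_anti hs (fun e => s3 (.inl e)) fun e => s3 (.inr e)
    obtain ⟨r, r1, r2, r3⟩ := fx q hq
    refine ⟨r * q, mul_mem (rQ r r1) hq, fun e' => e (((h.mul_comm_iff hs (rQ r r1) hq).1 e').1 ?_), r2, r3⟩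
    simp only [List.mem_cons, List.not_mem_nil, or_false] at r1
    rcases r1 with rfl | rfl | rfl | rfl
    exacts [by simp, s1.symm, s2.symm, (h.mul_comm_iff hs hx hy).2 (iff_of_true s1.symm s2.symm)]
  -- normalise a pair to type `D₈` or `Q₈`
  have nrm : ∀ (P : H → Prop), (∀ a ∈ Q, ∀ b ∈ Q, P a → P b → P (a * b)) → ∀ a ∈ Q, ∀ b ∈ Q, P a → P b → a * b ≠ b * a →
      ∃ a ∈ Q, ∃ b ∈ Q, P a ∧ P b ∧ a * b ≠ b * a ∧ (a * a = 1 ↔ b * b = 1) := fun P hP a ha b hb pa pb ab => by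
    by_cases e1 : a * a = 1 <;> by_cases e2 : b * b = 1
    · exact ⟨a, ha, b, hb, pa, pb, ab, iff_of_true e1 e2⟩
    · exact ⟨a, ha, a * b, mul_mem ha hb, pa, hP a ha b hb pa pb, by rw [Ne, h.mul_comm_iff ha ha hb]; simpa using ab,
        by rw [es_sq_mul h ha hb]; simp [e1, e2, ab]⟩
    · exact ⟨b, hb, a * b, mul_mem ha hb, pb, hP a ha b hb pa pb, by rw [Ne, h.mul_comm_iff hb ha hb]; simpa using Ne.symm ab,
        by rw [es_sq_mul h ha hb]; simp [e1, e2, ab]⟩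
    · exact ⟨a, ha, b, hb, pa, pb, ab, iff_of_false e1 e2⟩
  obtain ⟨x, hx, y, hy, ⟨x1, x2⟩, ⟨y1, y2⟩, xy, exy⟩ := nrm (fun a => s * a = a * s ∧ t * a = a * t) (fun a ha b hb pa pb =>
    ⟨(h.mul_comm_iff hs ha hb).2 (iff_of_true pa.1 pb.1), (h.mul_comm_iff ht ha hb).2 (iff_of_true pa.2 pb.2)⟩)
    x hx y hy ⟨s1.symm, t1.symm⟩ ⟨s2.symm, t2.symm⟩ xy
  obtain ⟨s, hs, t, ht, ⟨s1, s2⟩, ⟨t1, t2⟩, st, est⟩ := nrm (fun a => x * a = a * x ∧ y * a = a * y) (fun a ha b hb pa pb =>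
    ⟨(h.mul_comm_iff hx ha hb).2 (iff_of_true pa.1 pb.1), (h.mul_comm_iff hy ha hb).2 (iff_of_true pa.2 pb.2)⟩)
    s hs t ht ⟨x1.symm, y1.symm⟩ ⟨x2.symm, y2.symm⟩ st
  have fin : ∀ x ∈ Q, ∀ y ∈ Q, ∀ s ∈ Q, ∀ t ∈ Q, x * y ≠ y * x → s * t ≠ t * s → x * s = s * x → y * s = s * y → x * t = t * x →
      y * t = t * y → x * x = 1 → y * y = 1 → ¬ s * s = 1 → ¬ t * t = 1 → ∃ V : Fin 5 → H, (∀ i, i ≠ 0 → V i ∈ Q) ∧
      (∀ i, i ≠ 0 → V i * V i = 1) ∧ ∀ i j, i ≠ 0 → j ≠ 0 → i ≠ j → V i * V j ≠ V j * V i :=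
    fun x hx y hy s hs t ht xy st s1 s2 t1 t2 x2 y2 s3 t3 => by
      have r := mul_mem hx hy
      have r2 : ¬ x * y * (x * y) = 1 := by rw [es_sq_mul h hx hy]; simp [x2, y2, xy]
      have c1 : ∀ s ∈ Q, x * s = s * x → y * s = s * y → s * (x * y) = x * y * s := fun s hs a b =>
        (h.mul_comm_iff hs hx hy).2 (iff_of_true a.symm b.symm)
      have c2 : ∀ s ∈ Q, x * s = s * x → y * s = s * y → x * (x * y * s) ≠ x * y * s * x ∧ y * (x * y * s) ≠ x * y * s * y :=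
        fun s hs a b => ⟨by rw [Ne, h.mul_comm_iff hx r hs, h.mul_comm_iff hx hx hy]; simp [a, xy],
          by rw [Ne, h.mul_comm_iff hy r hs, h.mul_comm_iff hy hx hy]; simp [b, Ne.symm xy]⟩
      have c3 : x * y * s * (x * y * t) ≠ x * y * t * (x * y * s) := by
        rw [Ne, h.mul_comm_iff (mul_mem r hs) r ht, eq_comm, h.mul_comm_iff r r hs, eq_comm (a := x * y * s * t),
          h.mul_comm_iff ht r hs]
        simp [c1 s hs s1 s2, c1 t ht t1 t2, Ne.symm st]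
      have c4 : ∀ s ∈ Q, x * s = s * x → y * s = s * y → ¬ s * s = 1 → x * y * s * (x * y * s) = 1 := fun s hs a b c => by
        rw [es_sq_mul h r hs]; simp [r2, c, c1 s hs a b]
      refine ⟨![1, x, y, x * y * s, x * y * t], fun i _ => ?_, fun i _ => ?_, fun i j hi hj hij => ?_⟩
      · fin_cases i
        exacts [one_mem _, hx, hy, mul_mem r hs, mul_mem r ht]
      · fin_cases i
        exacts [one_mul _, x2, y2, c4 s hs s1 s2 s3, c4 t ht t1 t2 t3]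
      · have d1 := c2 s hs s1 s2
        have d2 := c2 t ht t1 t2
        fin_cases i <;> fin_cases j <;> first | exact absurd rfl hi | exact absurd rfl hj | exact absurd rfl hij | skip
        exacts [xy, d1.1, d2.1, xy.symm, d1.2, d2.2, d1.1.symm, d1.2.symm, c3, d2.1.symm, d2.2.symm, c3.symm]
  have nc : ∀ a ∈ Q, ∀ b ∈ Q, a * b ≠ b * a → ¬ (a = 1 ∨ a = w) := fun a ha b hb e => by
    rintro (rfl | rfl)
    exacts [e (by simp), e (wc b hb)]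
  have nd : ∀ s ∈ Q, ∀ t ∈ Q, ∀ r ∈ Q, ∀ r' ∈ Q, r * s = s * r → r * t ≠ t * r → ¬ ∃ v ∈ [1, w, s, s * w], t = v :=
    fun s hs t ht r hr' _ _ e1 e2 ⟨v, hv, e⟩ => by
      simp only [List.mem_cons, List.not_mem_nil, or_false] at hv
      rw [e] at e2
      rcases hv with e | e | e | e <;> rw [e] at e2
      exacts [e2 (by simp), e2 (wc r ‹_›).symm, e2 e1, e2 ((h.mul_comm_iff ‹_› hs h.mem).2 (iff_of_true e1 (wc r ‹_›).symm))]
  by_cases e1 : x * x = 1 <;> by_cases e2 : s * s = 1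
  · exact absurd (hr x hx s hs e1 e2 s1 (nc x hx y hy xy)) (nd x hx s hs t ht t ht t1.symm st.symm)
  · exact fin x hx y hy s hs t ht xy st s1 s2 t1 t2 e1 (exy.1 e1) e2 (mt est.2 e2)
  · exact fin s hs t ht x hx y hy st xy s1.symm t1.symm s2.symm t2.symm e2 (est.1 e2) e1 (mt exy.2 e1)
  · refine absurd (hr _ (mul_mem hx hs) _ (mul_mem hy ht) (by rw [es_sq_mul h hx hs]; simp [e1, e2, s1])
      (by rw [es_sq_mul h hy ht]; simp [mt exy.2 e1, mt est.2 e2, t2]) ?_ (nc _ (mul_mem hx hs) y hy ?_))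
      (nd _ (mul_mem hx hs) _ (mul_mem hy ht) x hx x hx ?_ ?_)
    · rw [h.mul_comm_iff (mul_mem hx hs) hy ht, eq_comm, h.mul_comm_iff hy hx hs, eq_comm (a := x * s * t), h.mul_comm_iff ht hx hs]
      simp [Ne.symm xy, s2, t1.symm, Ne.symm st]
    · rw [Ne, eq_comm, h.mul_comm_iff hy hx hs]; simp [Ne.symm xy, s2]
    · exact (h.mul_comm_iff hx hx hs).2 (iff_of_true rfl s1)
    · rw [Ne, h.mul_comm_iff hx hy ht]; simp [xy, t1]

theorem sig [hn : Q.Normal] (h : ES Q w) (hz : ∀ g, g * w = w * g) (h2c : ∀ g, (∀ x ∈ Q, g * x = x * g) → g ∈ Q)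
    {θ : Q0 false →* H} (θi : Function.Injective θ) (θr : θ.range = Q) (θz : θ zQ = w) : ∃ σ : H →* Perm (Fin 5),
      (∀ g i, g * θ (UQ i) * g⁻¹ = θ (UQ (σ g i)) ∨ g * θ (UQ i) * g⁻¹ = θ (UQ (σ g i)) * w) ∧ σ.ker = Q := by
  have cz : ∀ g, g * w * g⁻¹ = w := fun g => by rw [hz, mul_inv_cancel_right]
  have mem : ∀ t, θ t ∈ Q := fun t => θr.le ⟨t, rfl⟩
  let P : H → Fin 5 → Fin 5 → Prop := fun g i j => g * θ (UQ i) * g⁻¹ = θ (UQ j) ∨ g * θ (UQ i) * g⁻¹ = θ (UQ j) * w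
  have ex : ∀ g i, ∃ j, P g i j := fun g i => by
    obtain ⟨t, ht⟩ := θr.ge (hn.conj_mem _ (mem (UQ i)) g)
    have n := (show ∀ i, UQ i * UQ i = 1 ∧ UQ i ≠ 1 ∧ UQ i ≠ zQ by decide +kernel) i
    rcases invQ t (θi (by rw [map_mul, ht, conj_mul, ← map_mul, n.1]; simp)) with rfl | rfl | ⟨j, rfl | rfl⟩
    · exact absurd (θi ((conj_eq_one_iff.1 (ht.symm.trans θ.map_one)).trans θ.map_one.symm)) n.2.1
    · exact absurd (θi (by rw [θz, ← cz g] at ht; exact (mul_left_cancel (mul_right_cancel ht)).symm.trans θz.symm)) n.2.2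
    · exact ⟨j, .inl ht.symm⟩
    · exact ⟨j, .inr (by rw [← ht, map_mul, θz])⟩
  have un : ∀ {g i j j'}, P g i j → P g i j' → j = j' := fun {g i j j'} a b => uniQ j j' (by
    rw [← θi.eq_iff, ← θi.eq_iff, map_mul, θz]
    rcases a with a | a <;> rcases b with b | b <;> rw [a] at b
    exacts [.inl b, .inr b, .inr (by rw [← b, mul_assoc, h.sq, mul_one]), .inl (mul_right_cancel b)])
  have co : ∀ {g g' i j k}, P g i j → P g' j k → P (g' * g) i k := fun {g g' i j k} a b => by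
    have e : g' * g * θ (UQ i) * (g' * g)⁻¹ = g' * (g * θ (UQ i) * g⁻¹) * g'⁻¹ := by group
    rcases a with a | a <;> rcases b with b | b
    · exact .inl (by rw [e, a, b])
    · exact .inr (by rw [e, a, b])
    · exact .inr (by rw [e, a, ← conj_mul, b, cz])
    · exact .inl (by rw [e, a, ← conj_mul, b, cz, mul_assoc, h.sq, mul_one])
  choose s hs' using ex
  let act : MulAction H (Fin 5) :=
    { smul := s
      one_smul := fun i => un (hs' 1 i) (.inl (by simp))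
      mul_smul := fun g g' i => un (hs' _ i) (co (hs' g' i) (hs' g _)) }
  refine ⟨MulAction.toPermHom H (Fin 5), hs', le_antisymm (fun g hg => ?_)
    fun g hg => Equiv.ext fun i => un (hs' g i) (h.conj_eq hg (mem _))⟩
  have sg : ∀ i, ∃ e ∈ [1, zQ], g * θ (UQ i) * g⁻¹ = θ (UQ i * e) := fun i => by
    have := hs' g i
    rw [show s g i = i from Equiv.congr_fun hg i] at this
    rcases this with e | e
    exacts [⟨1, by simp, by simpa using e⟩, ⟨zQ, by simp, by rw [map_mul, θz, e]⟩]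
  obtain ⟨e1, a1, b1⟩ := sg 1
  obtain ⟨e2, a2, b2⟩ := sg 2
  obtain ⟨e3, a3, b3⟩ := sg 3
  obtain ⟨e4, a4, b4⟩ := sg 4
  obtain ⟨t, t1, t2, t3, t4⟩ := corQ' e1 a1 e2 a2 e3 a3 e4 a4
  have k : ∀ i e, t * UQ i * t⁻¹ = UQ i * e → g * θ (UQ i) * g⁻¹ = θ (UQ i * e) → θ (UQ i) ∈ centralizer {(θ t)⁻¹ * g} :=
    fun i e a b => mem_centralizer_singleton_iff.2 (by
      rw [← a, map_mul, map_mul, map_inv] at b
      calc _ = (θ t)⁻¹ * (θ t * θ (UQ i) * (θ t)⁻¹) * g := by group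
        _ = _ := by rw [← b]; group)
  simpa using mul_mem (mem t) (h2c ((θ t)⁻¹ * g) fun y hy => by
    obtain ⟨y, rfl⟩ := θr.ge hy
    refine (mem_centralizer_singleton_iff.1 (genQ (M := (centralizer {(θ t)⁻¹ * g}).comap θ)
      (mem_centralizer_singleton_iff.2 (θz ▸ (hz _).symm)) (fun i hi => ?_) y)).symm
    fin_cases i
    exacts [absurd rfl hi, k _ _ t1 b1, k _ _ t2 b2, k _ _ t3 b3, k _ _ t4 b4])

theorem step {G : Type*} [Group G] [Finite G] {M : Subgroup G} {g : G} {p n : ℕ} [Fact p.Prime] (h1 : g ∈ normalizer (M : Set G))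
    (h2 : g ^ p ∈ M) (h3 : Nat.card M ≤ n) : Nat.card ↥(M ⊔ zpowers g) ≤ p * n := by
  by_cases e : g ∈ M
  · rw [sup_eq_left.2 (zpowers_le.2 e)]
    exact h3.trans (Nat.le_mul_of_pos_left _ (Fact.out : p.Prime).pos)
  · rw [PGrp.card_sup_zpowers_of_mem_normalizer h1 e h2]; exact Nat.mul_le_mul_left _ h3

theorem nrm {G : Type*} [Group G] [Finite G] {M : Subgroup G} {g y : G} (h1 : g ∈ normalizer (M : Set G))
    (h2 : g * y * g⁻¹ ∈ M ⊔ zpowers y) : g ∈ normalizer ((M ⊔ zpowers y : Subgroup G) : Set G) :=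
  mem_normalizer_fintype fun _ hn => (sup_le (a := M) (c := (M ⊔ zpowers y).comap (MulAut.conj g).toMonoidHom)
    (fun m hm => mem_sup_left ((mem_normalizer_iff.1 h1 m).1 hm)) (zpowers_le.2 h2)) hn

theorem mrel : ∀ e f : Bool, (∀ i, i ≠ 0 → (a : HM e f) * ι (UQ i) * a⁻¹ = ι (UQ (sa i)) ∧ (x : HM e f) * ι (UQ i) * x⁻¹ = ι (UQ (sx i)) ∧
    (c : HM e f) * ι (UQ i) * c⁻¹ = ι (UQ (sc i))) ∧ (ι zQ : HM e f) = z ∧ (a : HM e f) * a = zb e ∧ (c : HM e f) * c = zb f ∧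
    (x : HM e f) * x * x = 1 ∧ (x : HM e f) * (x * a * x⁻¹) * x⁻¹ = a * (x * a * x⁻¹) ∧ (c : HM e f) * x * c⁻¹ = x⁻¹ ∧
    (c : HM e f) * a * c⁻¹ = zb e * a ∧ (x : HM e f) * a * x⁻¹ * (x * a * x⁻¹) = zb e ∧
    (x : HM e f) * a * x⁻¹ * a * (x * a * x⁻¹)⁻¹ = zb e * a ∧ (c : HM e f) * (x * a * x⁻¹) * c⁻¹ = zb e * a * (x * a * x⁻¹) := by
  decide +kernel

theorem nP {M : Type*} [Group M] {ι : Q0 false →* M} {θ : Q0 false →* H} {g0 : M} {g : H} {s : Perm (Fin 5)}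
    (z1 : g0 * ι zQ * g0⁻¹ = ι zQ) (z2 : g * θ zQ * g⁻¹ = θ zQ) (b : ∀ i, i ≠ 0 → g0 * ι (UQ i) * g0⁻¹ = ι (UQ (s i)))
    (a : ∀ i, i ≠ 0 → g * θ (UQ i) * g⁻¹ = θ (UQ (s i))) : (g0, g) ∈ normalizer ((ι.prod θ).range : Set (M × H)) :=
  have : Finite (ι.prod θ).range := Finite.of_surjective _ (ι.prod θ).rangeRestrict_surjective
  mem_normalizer_fintype (by
    rintro _ ⟨t, rfl⟩
    exact genQ (M := (ι.prod θ).range.comap ((MulAut.conj (g0, g)).toMonoidHom.comp (ι.prod θ)))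
      ⟨zQ, Prod.ext z1.symm z2.symm⟩ (fun i hi => ⟨UQ (s i), Prod.ext (b i hi).symm (a i hi).symm⟩) t)

theorem pair {M : Type*} [Group M] [Finite M] [Finite H] {ι : Q0 false →* M} {θ : Q0 false →* H} {a x c d d' : M} {A X C D D' : H}
    (nA : (a, A) ∈ normalizer ((ι.prod θ).range : Set (M × H))) (nX : (x, X) ∈ normalizer ((ι.prod θ).range : Set (M × H)))
    (nC : (c, C) ∈ normalizer ((ι.prod θ).range : Set (M × H))) (ze : ∃ t, ι t = d ∧ θ t = D) (zf : ∃ t, ι t = d' ∧ θ t = D')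
    (m2 : a * a = d) (m3 : c * c = d') (m4 : x * x * x = 1) (m5 : x * (x * a * x⁻¹) * x⁻¹ = a * (x * a * x⁻¹)) (m6 : c * x * c⁻¹ = x⁻¹)
    (m7 : c * a * c⁻¹ = d * a) (m8 : x * a * x⁻¹ * (x * a * x⁻¹) = d) (m9 : x * a * x⁻¹ * a * (x * a * x⁻¹)⁻¹ = d * a)
    (m10 : c * (x * a * x⁻¹) * c⁻¹ = d * a * (x * a * x⁻¹))
    (aa : A * A = D) (cc : C * C = D') (x3 : X * X * X = 1) (xa : X * (X * A * X⁻¹) * X⁻¹ = A * (X * A * X⁻¹)) (cx : C * X * C⁻¹ = X⁻¹)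
    (ca : C * A * C⁻¹ = D * A) (a2 : X * A * X⁻¹ * (X * A * X⁻¹) = D) (a3 : X * A * X⁻¹ * A * (X * A * X⁻¹)⁻¹ = D * A)
    (ca' : C * (X * A * X⁻¹) * C⁻¹ = D * A * (X * A * X⁻¹)) (hM : Nat.card M = 768)
    (gen : ∀ K : Subgroup M, (∀ t, ι t ∈ K) → a ∈ K → x ∈ K → c ∈ K → ∀ k, k ∈ K) : ∃ φ : M →* H, ∀ t, φ (ι t) = θ t := by
  let P0 := (ι.prod θ).range
  have ze : (d, D) ∈ P0 := let ⟨t, h1, h2⟩ := ze; ⟨t, Prod.ext h1 h2⟩
  have zf : (d', D') ∈ P0 := let ⟨t, h1, h2⟩ := zf; ⟨t, Prod.ext h1 h2⟩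
  let A' : M × H := (a, A)
  let X' : M × H := (x, X)
  let C' : M × H := (c, C)
  let P1 := P0 ⊔ zpowers A'
  let P2 := P1 ⊔ zpowers (X' * A' * X'⁻¹)
  let P3 := P2 ⊔ zpowers X'
  let P4 := P3 ⊔ zpowers C'
  have A1 : A' ∈ P1 := mem_sup_right (mem_zpowers _)
  have B2 : X' * A' * X'⁻¹ ∈ P2 := mem_sup_right (mem_zpowers _)
  have zA : (d, D) * A' ∈ P1 := mul_mem (mem_sup_left ze) A1
  have : Fact (Nat.Prime 3) := ⟨by norm_num⟩
  have c1 : Nat.card P1 ≤ 2 * 32 := step nA (by rw [sq]; exact (Prod.ext m2 aa : A' * A' = (_, _)) ▸ ze)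
    (card_Q0 false ▸ Nat.card_le_card_of_surjective _ (MonoidHom.rangeRestrict_surjective _))
  have c2 : Nat.card P2 ≤ 2 * (2 * 32) := step (nrm (mul_mem (mul_mem nX nA) (inv_mem nX))
    ((Prod.ext m9 a3 : X' * A' * X'⁻¹ * A' * (X' * A' * X'⁻¹)⁻¹ = (_, _) * A') ▸ zA))
    (by rw [sq]; exact (Prod.ext m8 a2 : X' * A' * X'⁻¹ * (X' * A' * X'⁻¹) = (_, _)) ▸ mem_sup_left ze) c1
  have c3 : Nat.card P3 ≤ 3 * (2 * (2 * 32)) := step (mem_normalizer_fintype fun _ hn =>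
    (sup_le (c := P2.comap (MulAut.conj X').toMonoidHom) (sup_le (fun m hm => mem_sup_left (mem_sup_left
      ((mem_normalizer_iff.1 nX m).1 hm))) (zpowers_le.2 B2)) (zpowers_le.2 (show X' * (X' * A' * X'⁻¹) * X'⁻¹ ∈ P2 from
        (Prod.ext m5 xa : X' * (X' * A' * X'⁻¹) * X'⁻¹ = A' * (X' * A' * X'⁻¹)) ▸ mul_mem (mem_sup_left A1) B2))) hn)
    (by rw [pow_three', (Prod.ext m4 x3 : X' * X' * X' = 1)]; exact one_mem _) c2
  have c4 : Nat.card P4 ≤ 2 * (3 * (2 * (2 * 32))) := step (nrm (nrm (nrm nC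
    ((Prod.ext m7 ca : C' * A' * C'⁻¹ = (_, _) * A') ▸ zA))
    ((Prod.ext m10 ca' : C' * (X' * A' * X'⁻¹) * C'⁻¹ = (_, _) * A' * (X' * A' * X'⁻¹)) ▸ mul_mem (mem_sup_left zA) B2))
    ((Prod.ext m6 cx : C' * X' * C'⁻¹ = X'⁻¹) ▸ inv_mem (mem_sup_right (mem_zpowers _))))
    (by rw [sq]; exact (Prod.ext m3 cc : C' * C' = (_, _)) ▸ mem_sup_left (mem_sup_left (mem_sup_left zf))) c3
  have l0 : P0 ≤ P4 := le_sup_left.trans (le_sup_left.trans (le_sup_left.trans le_sup_left))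
  let F := (MonoidHom.fst _ _).comp P4.subtype
  have Fs : Function.Surjective F := gen F.range (fun t => ⟨⟨_, l0 ⟨t, rfl⟩⟩, rfl⟩)
    ⟨⟨A', mem_sup_left (mem_sup_left (mem_sup_left A1))⟩, rfl⟩ ⟨⟨X', mem_sup_left (mem_sup_right (mem_zpowers _))⟩, rfl⟩
    ⟨⟨C', mem_sup_right (mem_zpowers _)⟩, rfl⟩
  let F' := MulEquiv.ofBijective F ((Nat.bijective_iff_surjective_and_card _).2
    ⟨Fs, le_antisymm (c4.trans hM.ge) (Nat.card_le_card_of_surjective _ Fs)⟩)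
  exact ⟨((MonoidHom.snd _ _).comp P4.subtype).comp F'.symm.toMonoidHom, fun t =>
    congrArg (fun y : P4 => y.1.2) (F'.symm_apply_apply ⟨(ι t, θ t), l0 ⟨t, rfl⟩⟩)⟩

theorem ident_core [Finite H] [hn : Q.Normal] (h : ES Q w) (hz : ∀ g, g * w = w * g) (hc : Nat.card Q = 32)
    (h2c : ∀ g, (∀ x ∈ Q, g * x = x * g) → g ∈ Q) (ε : (H ⧸ Q) ≃* Perm (Fin 4))
    (hr : ∀ s ∈ Q, ∀ t ∈ Q, s * s = 1 → t * t = 1 → s * t = t * s → ¬ (s = 1 ∨ s = w) → ∃ v ∈ [1, w, s, s * w], t = v) :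
    ∃ (e f : Bool) (φ : HM e f →* H), Function.Bijective φ ∧ φ z = w := by
  have hH : Nat.card H = 768 := by
    rw [card_eq_card_quotient_mul_card_subgroup Q, hc, Nat.card_congr ε.toEquiv, Nat.card_perm]; simp [Nat.factorial]
  have cz : ∀ g, g * w * g⁻¹ = w := fun g => by rw [hz, mul_inv_cancel_right]
  obtain ⟨V, v1, v2, v3⟩ := quad h hc hr
  obtain ⟨θ0, i0, r0, z0, -⟩ := theta h hc v1 v2 v3
  obtain ⟨σ, σ1, σ2⟩ := sig h hz h2c i0 r0 z0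
  let τ := (QuotientGroup.lift Q σ σ2.ge).comp ε.symm.toMonoidHom
  have τi : Function.Injective τ := ((QuotientGroup.injective_lift_iff Q σ σ2.ge).2 σ2.symm).comp ε.symm.injective
  have τs : ∀ s, ∃ g, σ g = τ s := fun s => by
    obtain ⟨g, e⟩ := QuotientGroup.mk_surjective (ε.symm s)
    exact ⟨g, by simp [τ, ← e]⟩
  obtain ⟨π, πa, πx, πc⟩ := s5 (τ (swap 0 3 * swap 1 2)) (by rw [← map_mul]; exact (congrArg τ (by decide)).trans τ.map_one)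
    (fun e => absurd (τi (e.trans τ.map_one.symm)) (by decide)) (τ (swap 1 3 * swap 1 2))
    (by simp only [← map_mul]; exact (congrArg τ (by decide)).trans τ.map_one)
    (by simp only [← map_mul, ← map_inv]; exact congrArg τ (by decide)) (τ (swap 1 2))
    (by rw [← map_mul]; exact (congrArg τ (by decide)).trans τ.map_one)
    (by simp only [← map_mul, ← map_inv]; exact congrArg τ (by decide)) (by simp only [← map_mul]; exact congrArg τ (by decide))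
  obtain ⟨θ, θi, θr, θz, θU⟩ := theta (V := fun i => θ0 (UQ (π i))) h hc (fun i _ => r0.le ⟨_, rfl⟩)
    (fun i _ => by rw [← map_mul, (by decide +kernel : ∀ i, UQ i * UQ i = 1), map_one]) fun i j _ _ hij e =>
      (by decide +kernel : ∀ i j, i ≠ j → UQ i * UQ j ≠ UQ j * UQ i) _ _ (π.injective.ne hij) (i0 (by simpa using e))
  let E : H → Perm (Fin 5) → Prop := fun g s => s 0 = 0 ∧ ∀ i, i ≠ 0 → g * θ (UQ i) * g⁻¹ = θ (UQ (s i))
  have n0 : ∀ {s : Perm (Fin 5)} {i}, s 0 = 0 → i ≠ 0 → s i ≠ 0 := fun e hi e' => hi (Equiv.injective _ (e'.trans e.symm))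
  have lift : ∀ r (s : Perm (Fin 5)), s 0 = 0 → τ r * π = π * s → ∃ g, E g s := fun r s s0 e => by
    obtain ⟨g, hg⟩ := τs r
    have sg : ∀ i, i ≠ 0 → ∃ e ∈ [1, zQ], g * θ (UQ i * e) * g⁻¹ = θ (UQ (s i)) := fun i hi => by
      have := σ1 g (π i)
      rw [hg, show τ r (π i) = π (s i) from Equiv.congr_fun e i, ← θU i hi, ← θU _ (n0 s0 hi)] at this
      rcases this with e | e
      exacts [⟨1, by simp, by simpa using e⟩, ⟨zQ, by simp, by rw [map_mul, θz, ← conj_mul, e, cz, mul_assoc, h.sq, mul_one]⟩]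
    obtain ⟨e1, a1, b1⟩ := sg 1 (by decide)
    obtain ⟨e2, a2, b2⟩ := sg 2 (by decide)
    obtain ⟨e3, a3, b3⟩ := sg 3 (by decide)
    obtain ⟨e4, a4, b4⟩ := sg 4 (by decide)
    obtain ⟨t, t1, t2, t3, t4⟩ := corQ' e1 a1 e2 a2 e3 a3 e4 a4
    have k : ∀ i e, t * UQ i * t⁻¹ = UQ i * e → g * θ (UQ i * e) * g⁻¹ = θ (UQ (s i)) → g * θ t * θ (UQ i) * (g * θ t)⁻¹ = θ (UQ (s i)) :=
      fun i e a b => by rw [← b, ← a, map_mul, map_mul, map_inv]; group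
    refine ⟨g * θ t, s0, fun i hi => ?_⟩
    fin_cases i
    exacts [absurd rfl hi, k _ _ t1 b1, k _ _ t2 b2, k _ _ t3 b3, k _ _ t4 b4]
  have co : ∀ {g g' s s'}, E g s → E g' s' → E (g * g') (s * s') := fun a b =>
    ⟨by rw [Perm.mul_apply, b.1, a.1], fun i hi => by rw [Perm.mul_apply, ← a.2 _ (n0 b.1 hi), ← b.2 i hi]; group⟩
  have iv : ∀ {g s}, E g s → E g⁻¹ s⁻¹ := fun {g s} a =>
    have e : s⁻¹ 0 = 0 := Perm.inv_eq_iff_eq.2 a.1.symm
    ⟨e, fun i hi => by have := a.2 _ (n0 e hi); rw [show s (s⁻¹ i) = i from s.apply_symm_apply i] at this; rw [← this]; group⟩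
  have ew : ∀ {g s}, E g s → E (w * g) s := fun a => ⟨a.1, fun i hi => by
    rw [← a.2 i hi, ← hz, mul_assoc _ w, ← hz, mul_inv_rev, ← mul_assoc, ← mul_assoc, mul_inv_cancel_right]⟩
  have eq : ∀ {g g' s s'}, E g s → E g' s' → s = s' → ∃ b : Bool, g = b.rec 1 w * g' := fun {g g' s s'} a b e => by
    have k := co a (iv b)
    rw [e, mul_inv_cancel] at k
    have : ∀ y ∈ Q, g * g'⁻¹ * y = y * (g * g'⁻¹) := fun y hy => by
      obtain ⟨y, rfl⟩ := θr.ge hy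
      exact (mem_centralizer_singleton_iff.1 (genQ (M := (centralizer {g * g'⁻¹}).comap θ)
        (mem_centralizer_singleton_iff.2 (θz ▸ (hz _).symm))
        (fun i hi => mem_centralizer_singleton_iff.2 (mul_inv_eq_iff_eq_mul.1 (k.2 i hi)).symm) y)).symm
    rcases h.of_cen _ (h2c _ this) this with e | e
    exacts [⟨false, mul_inv_eq_iff_eq_mul.1 e⟩, ⟨true, mul_inv_eq_iff_eq_mul.1 e⟩]
  have e1 : E 1 1 := ⟨rfl, fun i _ => by simp⟩
  have bc : ∀ (b : Bool) g, Commute (b.rec 1 w : H) g := fun b g => by cases b; exacts [Commute.one_left g, (hz g).symm]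
  have bb : ∀ b : Bool, (b.rec 1 w : H) * b.rec 1 w = 1 := fun b => by cases b; exacts [one_mul _, h.sq]
  have mm : ∀ (b : Bool) g g', (b.rec 1 w : H) * g * (b.rec 1 w * g') = g * g' := fun b g g' => by
    rw [← mul_assoc, mul_assoc _ g, ← (bc b g).eq, ← mul_assoc, bb, one_mul]
  have eb : ∀ {g s} (b : Bool), E g s → E (b.rec 1 w * g) s := fun {g s} b a => by cases b; exacts [(one_mul g).symm ▸ a, ew a]
  obtain ⟨X, hX, x3⟩ : ∃ X, E X sx ∧ X * X * X = 1 := by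
    obtain ⟨X, hX⟩ := lift _ sx (by decide) πx
    obtain ⟨b, e⟩ := eq (co (co hX hX) hX) e1 (by decide)
    refine ⟨_, eb b hX, ?_⟩
    rw [(bc b X).symm.mul_mul_mul_comm, bb, one_mul, ← mul_assoc, ← (bc b _).eq, mul_assoc, e, mul_one, bb]
  obtain ⟨A, hA, xa⟩ : ∃ A, E A sa ∧ X * (X * A * X⁻¹) * X⁻¹ = A * (X * A * X⁻¹) := by
    obtain ⟨A, hA⟩ := lift _ sa (by decide) πa
    obtain ⟨b, e⟩ := eq (co (co hX (co (co hX hA) (iv hX))) (iv hX)) (co hA (co (co hX hA) (iv hX))) (by decide)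
    refine ⟨_, eb b hA, ?_⟩
    have k : ∀ g, X * (b.rec 1 w * g) * X⁻¹ = b.rec 1 w * (X * g * X⁻¹) := fun g => by
      rw [← mul_assoc, ← (bc b X).eq]; group
    rw [k, k, e, (bc b A).symm.mul_mul_mul_comm, bb, ← mul_assoc, bb]
  obtain ⟨C, hC⟩ := lift _ sc (by decide) πc
  obtain ⟨e, aa⟩ := eq (co hA hA) e1 (by decide)
  obtain ⟨f, cc⟩ := eq (co hC hC) e1 (by decide)
  rw [mul_one] at aa cc
  have cx : C * X * C⁻¹ = X⁻¹ := by
    obtain ⟨b, e⟩ := eq (co (co hC hX) (iv hC)) (iv hX) (by decide)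
    have : C * X * C⁻¹ * (C * X * C⁻¹) * (C * X * C⁻¹) = 1 := by rw [conj_mul, conj_mul, x3]; simp
    rw [e, mm, ← mul_assoc, ← (bc b _).eq, mul_assoc, ← mul_inv_rev, ← mul_inv_rev,
      ← mul_assoc, x3, inv_one, mul_one] at this
    rw [e, this, one_mul]
  have a2 : X * A * X⁻¹ * (X * A * X⁻¹) = e.rec 1 w := by rw [conj_mul, aa, ← (bc e X).eq, mul_inv_cancel_right]
  have a3 : X * A * X⁻¹ * A * (X * A * X⁻¹)⁻¹ = e.rec 1 w * A := by
    have : A * (X * A * X⁻¹) * (A * (X * A * X⁻¹)) = A * A := by rw [← xa, conj_mul, a2, aa, ← (bc e X).eq, mul_inv_cancel_right]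
    generalize X * A * X⁻¹ = B at this a2
    calc _ = A⁻¹ * (A * B * (A * B)) * (B * B)⁻¹ := by group
      _ = _ := by rw [this, a2, inv_mul_cancel_left, inv_eq_of_mul_eq_one_right (bb e), (bc e A).eq]
  have xi : X⁻¹ = X * X := inv_eq_of_mul_eq_one_left x3
  obtain ⟨b, ca⟩ := eq (co (co hC hA) (iv hC)) hA (by decide)
  have ca' : C * (X * A * X⁻¹) * C⁻¹ = b.rec 1 w * A * (X * A * X⁻¹) := by
    calc _ = C * X * C⁻¹ * (C * A * C⁻¹) * (C * X * C⁻¹)⁻¹ := by group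
      _ = b.rec 1 w * (X * (X * A * X⁻¹) * X⁻¹) := by
        rw [cx, ca, ← mul_assoc, ← (bc b _).eq]; nth_rw 1 [xi]; nth_rw 1 [xi]; group
      _ = _ := by rw [xa]; exact (mul_assoc _ _ _).symm
  have be : (b.rec 1 w : H) = e.rec 1 w := by
    refine mul_right_cancel (b := X * A * X⁻¹) ?_
    generalize X * A * X⁻¹ = B at xa ca'
    calc _ = X⁻¹ * (b.rec 1 w * (X * B * X⁻¹)) * X⁻¹⁻¹ := by rw [← mul_assoc X⁻¹, ← (bc b _).eq]; group
      _ = C * X * C⁻¹ * (C * B * C⁻¹) * (C * X * C⁻¹)⁻¹ := by rw [cx, ca', xa, mul_assoc _ A]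
      _ = C * (X * B * X⁻¹) * C⁻¹ := by group
      _ = _ := by rw [xa, ← conj_mul, ca, ca', mul_assoc _ A B, mm, ← mul_assoc, aa]
  rw [be] at ca ca'
  obtain ⟨m0, m1, m2, m3, m4, m5, m6, m7, m8, m9, m10⟩ := mrel e f
  have zP : ∀ b : Bool, ∃ t, ι t = (zb b : HM e f) ∧ θ t = b.rec 1 w := fun b => by
    cases b
    exacts [⟨1, map_one _, map_one _⟩, ⟨zQ, m1, θz⟩]
  have zc : ∀ g : HM e f, g * ι zQ * g⁻¹ = ι zQ := fun g => by rw [m1, z_cen, mul_inv_cancel_right]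
  have zc' : ∀ g, g * θ zQ * g⁻¹ = θ zQ := fun g => by rw [θz, cz]
  have rι : ∀ k : HM e f, k.p = 0 → ∃ t, ι t = k := fun k hk => ⟨⟨⟨k.q, 0⟩, rfl⟩, HM.ext rfl hk.symm⟩
  obtain ⟨φ, φι⟩ := pair (nP (zc _) (zc' _) (fun i hi => (m0 i hi).1) hA.2) (nP (zc _) (zc' _) (fun i hi => (m0 i hi).2.1) hX.2)
    (nP (zc _) (zc' _) (fun i hi => (m0 i hi).2.2) hC.2) (zP e) (zP f) m2 m3 m4 m5 m6 m7 m8 m9 m10 aa cc x3 xa cx ca a2 a3 ca' card_HM
    fun K h0 A4 X4 C4 k => by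
      have B4 := mul_mem (mul_mem X4 A4) (inv_mem X4)
      obtain ⟨r, r1, v, v1, s, s1, e⟩ := dec k
      obtain ⟨t, ht⟩ := rι _ e
      simp only [List.mem_cons, List.not_mem_nil, or_false] at r1 v1 s1
      have k1 : r ∈ K := by rcases r1 with e | e | e | e <;> rw [e]; exacts [one_mem _, A4, B4, mul_mem A4 B4]
      have k2 : v ∈ K := by rcases v1 with e | e | e <;> rw [e]; exacts [one_mem _, X4, mul_mem X4 X4]
      have k3 : s ∈ K := by rcases s1 with e | e <;> rw [e]; exacts [one_mem _, C4]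
      have := mul_mem (h0 t) (mul_mem (mul_mem k1 k2) k3)
      rwa [ht, inv_mul_cancel_right] at this
  have φz : φ z = w := m1 ▸ (φι zQ).trans θz
  refine ⟨e, f, φ, (Nat.bijective_iff_injective_and_card _).2 ⟨(injective_iff_map_eq_one φ).2 fun k hk =>
    (cen_Q k fun i => ?_).resolve_right fun e => h.ne (by rw [← φz, ← e, hk]), by rw [hH, card_HM]⟩, φz⟩
  obtain ⟨t, ht⟩ := rι _ (cj_Q k i)
  have := congrArg φ ht
  rw [map_mul, map_mul, map_inv, hk, φι, φι, one_mul, inv_one, mul_one] at this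
  rw [← mul_inv_eq_iff_eq_mul, ← ht, θi this]

end Cfsg.Lib.JT.S4
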