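import Cfsg.Agent.Lib.JT.Q41

/-! # Finite facts about the split group `2^{1+4}_-.S₄` -/

set_option autoImplicit false
set_option maxRecDepth 100000
set_option synthInstance.maxSize 4000

namespace Cfsg.Lib.JT.S4

open Subgroup

theorem cm_Q : ∀ (e f : Bool) (k : HM e f) i, (k * ι (UQ i) * k⁻¹ * (ι (UQ i))⁻¹) ^ 2 ^ 2 = 1 := fun e f k i => by
  rw [show 2 ^ 2 = 2 * 2 from rfl, pow_mul, sq, sq]; revert e f k i; decide +kernel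
theorem bas : ∀ e f : Bool, (z : HM e f) * z = 1 ∧ (z : HM e f) ≠ 1 ∧ (u : HM e f) ≠ 1 ∧ (u : HM e f) ≠ z ∧ (a : HM e f) ≠ 1 ∧
    (a : HM e f) ≠ z ∧ (p : HM e f) * u * p⁻¹ = u * z ∧ (p : HM e f) * (u * z) * p⁻¹ = u ∧ (x : HM e f) * u = u * x ∧
    (x : HM e f) * x * (x * x) ≠ 1 := by decide +kernel
theorem Ff : ∀ e f : Bool, (a : HM e f) * a = 1 → (u : HM e f) * a = a * u ∧ (x : HM e f) * a * x⁻¹ * a = a * (x * a * x⁻¹) ∧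
    (u : HM e f) * u = 1 ∧ (x : HM e f) * a * x⁻¹ * (x * a * x⁻¹) = 1 ∧ (u : HM e f) * (x * a * x⁻¹) = x * a * x⁻¹ * u ∧
    ∀ v ∈ [(1 : HM e f), a, z, z * a], u ≠ v ∧ x * a * x⁻¹ ≠ v ∧ x * a * x⁻¹ ≠ u * v := by decide +kernel

abbrev M0 := HM false false
def γ : M0 := p * c
def a' : M0 := x * a * x⁻¹
def AA : Subgroup M0 := centralizer {a} ⊓ centralizer {a'}
def AB : Subgroup M0 := centralizer {⟨27, 23⟩} ⊓ centralizer {⟨12, 7⟩}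
instance (k : M0) : Decidable (k ∈ AA) := decidable_of_iff (k * a = a * k ∧ k * a' = a' * k) (by
  rw [AA, mem_inf, mem_centralizer_singleton_iff, mem_centralizer_singleton_iff])
instance (k : M0) : Decidable (k ∈ AB) := decidable_of_iff (k * ⟨27, 23⟩ = ⟨27, 23⟩ * k ∧ k * ⟨12, 7⟩ = ⟨12, 7⟩ * k) (by
  rw [AB, mem_inf, mem_centralizer_singleton_iff, mem_centralizer_singleton_iff])
def M1 : Subgroup M0 where
  carrier := {k | sg k.p = false}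
  mul_mem' := fun {k l} => (show ∀ r s, sg r = false → sg s = false → sg (pm r s) = false by decide +kernel) k.p l.p
  one_mem' := show sg 0 = false by decide +kernel
  inv_mem' := fun {k} => (show ∀ r, sg r = false → sg (pi' r) = false by decide +kernel) k.p
def M3 : Subgroup M0 := centralizer {u}
instance (k : M0) : Decidable (k ∈ M1) := inferInstanceAs (Decidable (sg k.p = false))
instance (k : M0) : Decidable (k ∈ M3) := decidable_of_iff _ mem_centralizer_singleton_iff.symm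

theorem ix1 : M1.index = 2 := index_eq_two_iff.2 ⟨c, by unfold Xor; decide +kernel⟩
theorem ix3 : M3.index = 2 := index_eq_two_iff.2 ⟨c, by unfold Xor; decide +kernel⟩
theorem D1 : ∀ w : M0, w ∈ M1 → w * w = 1 → (∃ r, r * r = w) ∨ ∃ s, s * p * s⁻¹ = w := by decide +kernel
theorem D2 : ∀ w : M0, w ∈ M3 → w * w = 1 → (∃ r, r * r = w) ∨ ∃ s, s * γ * s⁻¹ = w := by decide +kernel
theorem D3 : ∀ t ∈ [p, c, γ], t * t = 1 ∧ t ≠ 1 ∧ t ≠ z ∧ (∃ r ∈ [⟨10, 0⟩, ⟨26, 0⟩, ⟨6, 0⟩], r * t = t * r ∧ r * r = z) ∧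
    ∀ k : M0, k * t = t * k → k * k * (k * k) = 1 → k * k = 1 ∨ k * k = z := by decide +kernel
theorem D4 : ∀ t ∈ [c, γ], ∀ k : M0, k * t = t * k → k * k = z → ∀ l, l * t = t * l → l * l = z → k * l = l * k := by decide +kernel
theorem D5 : ∀ k : M0, k ∈ M1 → k ∈ M3 → ∃ l ∈ [1, a, a', a * a'], l⁻¹ * (k * k * k) ∈ AB := by decide +kernel
theorem D6 : ∀ k : M0, (k ∈ AA → (∃ r, r * r = k) ∧ k * k = 1 ∧ p * k * p⁻¹ ∈ AB) ∧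
    (k ∈ AB → (∃ r, r * r = k) ∧ k * k = 1 ∧ p * k * p⁻¹ ∈ AA) := by decide +kernel
theorem D7 : ∀ k : M0, k ∈ M1 ∧ k ∈ M3 ∨ ∃ t ∈ [p, c, γ], k * t ∈ M1 ∧ k * t ∈ M3 := by decide +kernel
theorem D8 : ∀ k : M0, k ∈ AA → ∀ l : M0, l ∈ AB → k * l * (k * l) ∈ AA ∧ k * l * (k * l) ∈ AB ∧ (k * l = l * k → k ∈ AB ∨ l ∈ AA) := by
  decide +kernel
theorem card_AA : Nat.card AA = 16 :=
  (Nat.subtype_card ({⟨0, 0⟩, ⟨1, 0⟩, ⟨2, 0⟩, ⟨3, 0⟩, ⟨0, 7⟩, ⟨1, 7⟩, ⟨2, 7⟩, ⟨3, 7⟩, ⟨0, 16⟩, ⟨1, 16⟩, ⟨2, 16⟩, ⟨3, 16⟩, ⟨0, 23⟩, ⟨1, 23⟩,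
    ⟨2, 23⟩, ⟨3, 23⟩} : Finset M0) (by decide +kernel)).trans (by decide +kernel)
theorem card_AB : Nat.card AB = 16 :=
  (Nat.subtype_card ({⟨0, 0⟩, ⟨1, 0⟩, ⟨2, 0⟩, ⟨3, 0⟩, ⟨12, 7⟩, ⟨13, 7⟩, ⟨14, 7⟩, ⟨15, 7⟩, ⟨20, 16⟩, ⟨21, 16⟩, ⟨22, 16⟩, ⟨23, 16⟩, ⟨24, 23⟩,
    ⟨25, 23⟩, ⟨26, 23⟩, ⟨27, 23⟩} : Finset M0) (by decide +kernel)).trans (by decide +kernel)
theorem card_AAB : Nat.card ↥(AA ⊓ AB) = 4 :=
  (Nat.subtype_card ({⟨0, 0⟩, ⟨1, 0⟩, ⟨2, 0⟩, ⟨3, 0⟩} : Finset M0) (by simp only [mem_inf]; decide +kernel)).trans (by decide +kernel)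

end Cfsg.Lib.JT.S4
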