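import Cfsg.Agent.Lib.Push.Dich
import Cfsg.Agent.Lib.GW.Final
import Cfsg.Agent.Lib.GW.Count2
import Cfsg.Agent.Lib.L34.T5
import Cfsg.Agent.Lib.Gold.Inner

/-! General lemmas for killing the core of an involution centralizer (Sylow 2-subgroups of type `J₂`). -/

set_option autoImplicit false
set_option linter.unusedSectionVars false

namespace Cfsg.Lib.JT.So
open Subgroup Cfsg.Lib.Core Cfsg.Lib.BG1 Cfsg.Lib.Layer Cfsg.Lib.SigC Cfsg.Lib.Push.ZC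
open Cfsg.Lib.Amalg hiding le_cent_symm op_top

universe u
variable {G : Type u} [Group G] [Finite G] {A B E H J J' N R S S' T U Y : Subgroup G} {d g w z : G} {r : ℕ}

theorem cop (hU : IsPGroup 2 U) (hY : ¬ 2 ∣ Nat.card Y) : (Nat.card U).Coprime (Nat.card Y) :=
  coprime_of_isPGroup_of_not_dvd Nat.prime_two hU hY

theorem sol (hU : IsPGroup 2 U) : Group.IsSolvable U ∨ Group.IsSolvable Y := .inl (Coprime.isSolvable_of_isPGroup hU)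

theorem cent_of_norm (hU : IsPGroup 2 U) (hY : ¬ 2 ∣ Nat.card Y) (h1 : U ≤ 𝐍(Y)) (h2 : Y ≤ 𝐍(U)) : Y ≤ 𝐂(U) :=
  comm_eq_bot_iff.1 (le_bot_iff.1 ((comm_le_inf h1 h2).trans (Coprime.inf_eq_bot_of_coprime_card (cop hU hY)).le))

theorem gl (hL : pLayerOf 2 H = ⊥) (hT : Syl 2 T H) (hw : w ∈ T) (hY : Y ≤ H) (ho : ¬ 2 ∣ Nat.card Y)
    (hc : Y ≤ 𝐂[w]) (hn : T ⊓ 𝐂[w] ≤ 𝐍(Y)) : Y ≤ 𝐎'[2](H) := by
  have h1 : CharP 2 (⊤ : Subgroup (H ⧸ pPrimeCore 2 H)) :=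
    charP_top.2 (charP_quotient_iff.2 (pLayerOf_eq_bot_iff.1 hL))
  have h2 : Syl 2 (mim (coreQ 2 H) T) ⊤ := hT.subgroupOf_top.map_top (QuotientGroup.mk'_surjective _)
  have hP : IsPGroup 2 (zpowers w) := hT.isPGroup.to_le (zpowers_le.2 hw)
  have h3 := not_dvd_card_mim (coreQ 2 H) ho
  have h4 : (Nat.card (mim (coreQ 2 H) Y)).Coprime 2 := ((Nat.Prime.coprime_iff_not_dvd Nat.prime_two).2 h3).symm
  have h5 := mim_cent (coreQ 2 H) (zp_le_cent hc)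
  rw [← mker_coreQ, ← mim_eq_bot_iff hY]
  refine h1.eq_bot h4 le_top (Amalg.thompson_PxQ h4 (isPGroup_mim _ hP) (op_isPGroup _) h5
    (le_top.trans (le_norm_op _)) (le_top.trans (le_norm_op _)) (le_cent_symm (cent_of_norm
      ((op_isPGroup _).to_le inf_le_left) h3 ?_ (le_normalizer_inf (le_top.trans (le_norm_op _))
        ((h5.trans (cent_le_norm _)).trans (Coprime.normalizer_le_normalizer_centralizer_set _))))))
  refine (inf_le_inf_right _ h2.op_le).trans (le_trans (ge_of_eq ?_) (mim_norm _ hn))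
  rw [← cent_zpowers w]
  exact mim_inf_cent ((zpowers_le.2 hw).trans hT.le) hT.le ((zpowers_le.2 hw).trans le_normalizer)
    (cop hP (not_dvd_card_of_le inf_le_left (by rw [mker_coreQ]; exact not_dvd_card_pPrimeCoreOf Nat.prime_two _))) (sol hP)

/-- `Z*`: the factorization -/
theorem zfac (hT : IsPGroup 2 B) (h : ∀ g ∈ H, ∀ d ∈ B, g * d * g⁻¹ * d⁻¹ ∈ 𝐎'[2](H)) (hB : B ≤ H) :
    𝐎'[2](H) ⊔ (H ⊓ 𝐂(B)) = H :=
  Coprime.sup_centralizer_eq_of_commutator_le (hB.trans (le_norm_piCoreOf_self _ _))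
    (cop hT (not_dvd_card_pPrimeCoreOf Nat.prime_two _)) (sol hT) (piCoreOf_le' _ _) (commutator_le.2 h)

theorem zsplit (hT : Syl 2 T H) (hd : d ∈ T) (d2 : d * d = 1) (h : ∀ g ∈ H, g * d * g⁻¹ ∈ T → g * d * g⁻¹ = d) :
    𝐎'[2](H) ⊔ (H ⊓ 𝐂[d]) = H := by
  rw [← cent_zpowers]
  refine zfac (hT.isPGroup.to_le (zpowers_le.2 hd)) (fun g hg e he => ?_) (zpowers_le.2 (hT.le hd))
  rcases Push.Dich.zp_two d2 he with rfl | rfl
  · simp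
  · exact Gold.zstar_amb hT hd h hg

theorem core_le (h1 : 𝐎'[2](H) ⊔ B = H) (hY : Y ≤ H) (ho : ¬ 2 ∣ Nat.card Y) (hn : B ≤ 𝐍(Y)) : Y ≤ 𝐎'[2](H) := by
  have hO := le_norm_piCoreOf_self ({2}ᶜ : Set ℕ) H
  refine le_sup_right.trans (le_pPrimeCoreOf' (K := 𝐎'[2](H) ⊔ Y) Nat.prime_two (sup_le (piCoreOf_le' _ _) hY)
    (h1.ge.trans (sup_le (le_sup_left.trans le_normalizer) (le_normalizer_sup ((le_sup_right.trans h1.le).trans hO) hn))) ?_)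
  exact not_dvd_card_sup Nat.prime_two (not_dvd_card_pPrimeCoreOf Nat.prime_two _) ho (hY.trans hO)

/-- the maximal `U`-invariant `r`-subgroups -/
abbrev Mx (r : ℕ) (U S : Subgroup G) : Prop := Maximal (fun S : Subgroup G => IsPGroup r S ∧ U ≤ 𝐍(S)) S

theorem Mx.cj (h : Mx r U S) (hg : g ∈ 𝐂(U)) : Mx r U (cj g S) := by
  have k : ∀ g ∈ 𝐂(U), ∀ S : Subgroup G, IsPGroup r S ∧ U ≤ 𝐍(S) → IsPGroup r (cj g S) ∧ U ≤ 𝐍(cj g S) :=
    fun g hg S h => ⟨isPGroup_cj g h.1, by rw [← cj_normalizer, ← cj_of_mem_centralizer hg]; exact cj_mono g h.2⟩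
  exact ⟨k g hg S h.1, fun X hX e => le_cj_iff.2 (h.2 (k _ (inv_mem hg) X hX) (cj_le_iff.1 e))⟩

theorem trans [hr : Fact r.Prime] (r2 : r ≠ 2) (hU : IsPGroup 2 U)
    (hN : ∀ E : Subgroup G, E ≠ ⊥ → ¬ 2 ∣ Nat.card E → U ≤ 𝐍(E) → ∀ Y ≤ 𝐍(E), ¬ 2 ∣ Nat.card Y → U ≤ 𝐍(Y) → Y ≤ 𝐎'[2](𝐍(E)))
    (h1 : Mx r U S) (h2 : Mx r U S') (h0 : S ⊓ S' ≠ ⊥) : ∃ c ∈ 𝐂(U), cj c S = S' := by
  induction' e : Nat.card G - Nat.card ↥(S ⊓ S') using Nat.strong_induction_on with n ih generalizing S S'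
  by_cases a1 : S ≤ S'
  · exact ⟨1, one_mem _, (cj_one _).trans (h1.eq_of_le h2.1 a1)⟩
  by_cases a2 : S' ≤ S
  · exact ⟨1, one_mem _, (cj_one _).trans (h2.eq_of_le h1.1 a2).symm⟩
  have od : ∀ X : Subgroup G, IsPGroup r X → ¬ 2 ∣ Nat.card X := fun X hX h => by
    obtain ⟨k, hk⟩ := hX.exists_card_eq
    exact r2 ((Nat.prime_dvd_prime_iff_eq Nat.prime_two hr.out).1 (Nat.prime_two.dvd_of_dvd_pow (hk ▸ h))).symm
  have hE := le_normalizer_inf h1.1.2 h2.1.2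
  have hO := le_norm_piCoreOf ({2}ᶜ : Set ℕ) (hE.trans le_normalizer)
  have hc := cop hU (not_dvd_card_pPrimeCoreOf Nat.prime_two 𝐍(S ⊓ S'))
  have k : ∀ X, Mx r U X → ∃ P, Transfer.SylowIn r P 𝐎'[2](𝐍(S ⊓ S')) ∧ X ⊓ 𝐍(S ⊓ S') ≤ P ∧ U ≤ 𝐍(P) := fun X hX =>
    have n := le_normalizer_inf hX.1.2 (hE.trans le_normalizer)
    Coprime.exists_invariant_sylowIn_ge hO hc (sol hU) (hN _ h0 (od _ (h1.1.1.to_le inf_le_left)) hE _ inf_le_right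
      (od _ (hX.1.1.to_le inf_le_left)) n) (hX.1.1.to_le inf_le_left) n
  obtain ⟨P, p1, p2, p3⟩ := k S h1
  obtain ⟨P', q1, q2, q3⟩ := k S' h2
  obtain ⟨c, hc, e'⟩ := Coprime.exists_centralizer_conj_sylowIn hO hc (sol hU) p1 q1 p3 q3
  replace e' : cj c P = P' := e'
  obtain ⟨M, m1, m2⟩ := Finite.exists_le_maximal (p := fun S : Subgroup G => IsPGroup r S ∧ U ≤ 𝐍(S)) ⟨q1.isPGroup, q3⟩
  have l1 := card_lt_of_lt' (lt_inf_normalizer_of_lt h1.1.1 (inf_lt_left.2 a1))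
  have l2 := card_lt_of_lt' (lt_inf_normalizer_of_lt h2.1.1 (inf_lt_right.2 a2))
  have b1 : cj c (S ⊓ 𝐍(S ⊓ S')) ≤ cj c S ⊓ M := le_inf (cj_mono c inf_le_left) ((cj_mono c p2).trans (e'.le.trans m1))
  have b2 : S' ⊓ 𝐍(S ⊓ S') ≤ M ⊓ S' := le_inf (q2.trans m1) inf_le_left
  have c1 := card_le_of_le b1
  have c2 := card_le_of_le b2
  rw [card_cj] at c1
  have d1 := card_le_of_le (le_top : cj c S ⊓ M ≤ ⊤)
  have d2 := card_le_of_le (le_top : M ⊓ S' ≤ ⊤)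
  rw [card_top] at d1 d2
  have pos := Nat.card_pos (α := ↥(S ⊓ S'))
  obtain ⟨x, x1, x2⟩ := ih _ (by omega) (h1.cj hc.2) m2 (fun e => by rw [e, card_bot] at c1; omega) rfl
  obtain ⟨y, y1, y2⟩ := ih _ (by omega) m2 h2 (fun e => by rw [e, card_bot] at c2; omega) rfl
  exact ⟨y * (x * c), mul_mem y1 (mul_mem x1 hc.2), by rw [cj_mul, cj_mul, x2, y2]⟩

theorem l34_aux (h : L34.T A B) (hO : pPrimeCore 2 G = ⊥) (ho : ¬ 2 ∣ Nat.card Y) (hn : A ⊔ B ≤ 𝐍(Y)) (hz : z ∈ A ⊓ B)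
    (z1 : z ≠ 1) (hc : Y ≤ 𝐂[z]) : Y = ⊥ := by
  have k : ∀ A B : Subgroup G, L34.T A B → 𝐂(A) = A → Y ≤ 𝐍(A) → A ≤ 𝐍(Y) → Y = ⊥ := fun A B h e h1 h2 =>
    le_bot_iff.1 ((le_inf le_rfl ((cent_of_norm h.pA ho h2 h1).trans e.le)).trans
      (Coprime.inf_eq_bot_of_coprime_card (cop h.pA ho)).le)
  by_cases hA : 𝐍(A) ≤ 𝐍(A ⊓ B)
  · have := h.symm.normal hO (inf_comm A B ▸ hA)
    exact k B A h.symm (h.symm.cent_eq hO) le_normalizer_of_normal' (le_sup_right.trans hn)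
  by_cases hB : 𝐍(B) ≤ 𝐍(B ⊓ A)
  · have := h.normal hO (inf_comm B A ▸ hB)
    exact k A B h (h.cent_eq hO) le_normalizer_of_normal' (le_sup_left.trans hn)
  have m := h.mn hO hA hB
  exact k A B h m.cA (hc.trans ((m.cz z hz z1).trans inf_le_left)) (le_sup_left.trans hn)

theorem l34 (h : L34.T A B) (ho : ¬ 2 ∣ Nat.card Y) (hn : A ⊔ B ≤ 𝐍(Y)) (hz : z ∈ A ⊓ B)
    (z1 : z ≠ 1) (hc : Y ≤ 𝐂[z]) : Y ≤ pPrimeCore 2 G := by
  obtain ⟨h1, h2⟩ := h.mod_core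
  have := l34_aux (Y := Y.map (QuotientGroup.mk' (pPrimeCore 2 G))) h1 pPrimeCore_quotient_pPrimeCore
    (fun e => ho (e.trans (card_map_dvd _ _))) (by rw [← Subgroup.map_sup]; exact (map_mono hn).trans (le_normalizer_map _))
    ⟨mem_map_of_mem _ hz.1, mem_map_of_mem _ hz.2⟩ (mt (h2 z (mem_sup_left hz.1)) z1) (by
      rintro _ ⟨y, hy, rfl⟩
      exact cmem.2 (by rw [← map_mul, cmem.1 (hc hy), map_mul]))
  rwa [Subgroup.map_eq_bot_iff, QuotientGroup.ker_mk'] at this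

theorem gw {τ σ : G} (hO : pPrimeCore 2 G = ⊥) (h : GW.Kl τ σ) (hV : Syl 2 (K4 τ σ) ⊤) [hr : Fact r.Prime] (r2 : r ≠ 2)
    (h1 : J ≤ 𝐂[τ]) (h2 : 𝐂[τ] ≤ 𝐍(J)) (h1' : J' ≤ 𝐂[σ]) (h2' : 𝐂[σ] ≤ 𝐍(J')) (hR : IsPGroup r R) (hJ : J ≤ R)
    (hJ' : J' ≤ R) (h0 : J ≠ ⊥) (h0' : J' ≠ ⊥) : False := by
  have hc : τ ∈ 𝐂[σ] := cmem.2 h.comm.symm.eq
  have mK := fun x => mem_K4 (x := x) h.ha h.hb hc
  have t2 := Invol.mul_self_of_two h.ha
  have s2 := Invol.mul_self_of_two h.hb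
  have hG : GW.DC2 G := GW.dc2_of_sylow hV.sylowIn (.inr ⟨τ, σ, s2,
    by rw [h.comm.eq, mul_inv_cancel_right, inv_eq_of_mul_eq_one_right t2],
    fun e => (Push.Dich.zp_two t2 e).elim (Invol.ne_one_of_two h.hb) h.ne, fun y => ⟨fun hy => by
      rcases (mK y).1 hy with e | e | e | e <;> rw [e]
      · exact .inl (one_mem _)
      · exact .inl (mem_zpowers _)
      · exact .inr (s2 ▸ one_mem _)
      · exact .inr (by rw [← mul_assoc, h.comm.eq, mul_assoc, s2, mul_one]; exact mem_zpowers _),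
      fun hy => hy.elim (fun e => mem_sup_left e) fun e =>
        (mul_mem_cancel_left (mem_sup_right (mem_zpowers σ))).1 (mem_sup_left e)⟩⟩)
  have od : ∀ X ≤ R, Odd (Nat.card X) := fun X hX => by
    obtain ⟨k, hk⟩ := (hR.to_le hX).exists_card_eq
    exact hk ▸ (hr.out.odd_of_ne_two r2).pow
  by_cases hE : layer G = ⊥
  · exact h0 ((hG.core_free_solv hO hE).2 τ h.ha J (od J hJ) h2)
  obtain ⟨-, hM, -⟩ := hG.known_layer hO hE
  have : (layer G).Normal := layer_normal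
  have hN := hG.nc_of_perfect layer_commutator_self hE
  have m1 := hG.mem_of_nc h.ha hV.sylowIn (K4_le (self_mem τ) (mem_cent1_symm hc)) le_top le_normalizer_of_normal' hN
  have m2 := hG.mem_of_nc h.hb hV.sylowIn (K4_le hc (self_mem σ)) le_top le_normalizer_of_normal' hN
  rcases hM.type with ⟨a, b, hL⟩ | h7
  · have k : ∀ t ∈ layer G, orderOf t = 2 → ∀ J ≤ R, J ≠ ⊥ → J ≤ 𝐂[t] → 𝐂[t] ≤ 𝐍(J) →
        ∃ y ∈ R ⊓ layer G, orderOf y = r ∧ Commute y t := fun t ht t2 J hJ j0 j1 j2 => by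
      have := hL.nil t ht t2 J j1 (hR.to_le hJ).isNilpotent (od J hJ) (inf_le_right.trans j2)
      obtain ⟨y, hy⟩ := exists_prime_orderOf_dvd_card' (G := J) r (dvd_card_of_isPGroup_ne_bot (hR.to_le hJ) j0)
      exact ⟨y, ⟨hJ y.2, this y.2⟩, (orderOf_coe y).trans hy, cmem.1 (j1 y.2)⟩
    obtain ⟨y, y1, y2, y3⟩ := k τ m1 h.ha J hJ h0 h1 h2
    obtain ⟨x, x1, x2, x3⟩ := k σ m2 h.hb J' hJ' h0' h1' h2'
    obtain ⟨c, hT, o, -⟩ := hL.tor τ h.ha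
    have y4 := (hT.cent y y1.2 y3).resolve_right (y2 ▸ r2)
    have := hL.cyc r hr.out r2 (o m1 ▸ y2 ▸ orderOf_dvd_of_mem_zpowers y4) _ inf_le_right (hR.to_le inf_le_left)
    have x4 := hT.centy y y4 (fun e => r2 ((Nat.prime_dvd_prime_iff_eq hr.out Nat.prime_two).1
      (y2 ▸ orderOf_dvd_of_pow_eq_one (by rwa [pow_two])))) x x1.2
      (comm_of_mem_of_isMulCommutative (A := R ⊓ layer G) inferInstance x1 y1)
    exact h.ne (hT.eq_of_comm x4 (x2 ▸ hr.out.odd_of_ne_two r2) (fun e => hr.out.ne_one (by rw [← x2, e, orderOf_one]))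
      h.hb x3.symm)
  · obtain ⟨-, -, j, -, -, -, -, -, -, -, j4, -⟩ := h7.data τ h.ha
    obtain ⟨g, -, hg⟩ := hV.exists_conj_le (Amalg.isPGroup_zpowers_of_orderOf (k := 2) j4) le_top
    have := (ea_K4 h.ha h.hb hc h.ne.symm).1.2 _ (hg (conj_mem_cj g (mem_zpowers j)))
    rw [conj_pow, conj_eq_one_iff] at this
    have := orderOf_dvd_of_pow_eq_one this
    rw [j4] at this
    omega

end Cfsg.Lib.JT.So
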