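import Cfsg.Agent.Lib.JT.Q42
import Cfsg.Agent.Lib.JT.Q43
import Cfsg.Agent.Lib.JT.So1
import Cfsg.Agent.Lib.GW.Inv
import Cfsg.Agent.Lib.Invol.Transfer2
import Cfsg.Agent.Lib.L34.T7

/-! # Groups with an involution centraliser `2^{1+4}_-.S₄`: fusion -/

set_option autoImplicit false
set_option linter.unusedSectionVars false
set_option maxRecDepth 100000
set_option synthInstance.maxSize 4000

namespace Cfsg.Lib.JT.S4

open Subgroup Cfsg.Lib.Core Cfsg.Lib.BG1 Cfsg.Lib.SigC Cfsg.Lib.Push.ZC Cfsg.Lib.Known2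
open Cfsg.Lib.Amalg hiding le_cent_symm op_top

variable {G : Type*} [Group G] [Finite G]

theorem ident {w : G} (hz : orderOf w = 2) (Q : Subgroup (centralizer ({w} : Set G))) [Q.Normal]
    (hQ : Cfsg.IsExtraspecial 2 Q) (hc : Nat.card Q = 32) (hm : ∀ A : Subgroup Q, Cfsg.IsElementaryAbelian 2 A → Nat.card A ≠ 8)
    (h2c : centralizer (Q : Set (centralizer ({w} : Set G))) ≤ Q) (ε : (centralizer ({w} : Set G) ⧸ Q) ≃* Equiv.Perm (Fin 4)) :
    ∃ (e f : Bool) (φ : HM e f →* G), Function.Injective φ ∧ φ.range = centralizer {w} ∧ φ z = w := by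
  obtain ⟨z1, -, h⟩ := exists_ES hQ
  let z' : centralizer ({w} : Set G) := ⟨w, mem_centralizer_singleton_iff.2 rfl⟩
  have hc' : ∀ g, g * z' = z' * g := fun g => Subtype.ext (mem_centralizer_singleton_iff.1 g.2)
  obtain rfl : z' = z1 := (h.of_cen z' (h2c fun g _ => hc' g) fun y _ => (hc' y).symm).resolve_left fun e => by
    rw [show w = 1 from congrArg Subtype.val e] at hz; simp at hz
  obtain ⟨e, f, φ, h1, h2⟩ := ident_core h hc' hc (fun g hg => h2c fun x hx => (hg x hx).symm) ε fun s hs t ht s2 t2 st s1 => by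
    by_contra hn
    simp only [List.mem_cons, List.not_mem_nil, or_false, exists_eq_or_imp, exists_eq_left, not_or] at hn s1
    have o1 := Invol.two_of_mul_self s2 s1.1
    have o2 := Invol.two_of_mul_self t2 hn.1
    have o3 := Invol.two_of_mul_self h.sq h.ne
    have c1 : ∀ g, g ∈ 𝐂[z'] := fun g => mem_centralizer_singleton_iff.2 (hc' g)
    rcases (ea_K4 o1 o3 (c1 s) s1.2).eq_or (ea_K4 o2 o3 (c1 t) hn.2.1) (le_cent_K4
      (K4_le (mem_centralizer_singleton_iff.2 st) (mem_centralizer_singleton_iff.2 (hc' t).symm)) fun g _ => c1 g) with e | e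
    · rcases (mem_K4 o1 o3 (c1 s)).1 (e.ge (mem_sup_left (mem_zpowers t))) with e | e | e | e
      exacts [hn.1 e, hn.2.2.1 e, hn.2.1 e, hn.2.2.2 e]
    · obtain ⟨A, a1, a2⟩ := PGrp.not_pRankLE_iff.1 (SigC.not_pRankLE_iff.2 ⟨_, sup_le (K4_le hs h.mem) (K4_le ht h.mem), e⟩)
      exact hm A a1 a2
  exact ⟨e, f, (Subgroup.subtype _).comp φ, Subtype.val_injective.comp h1.1,
    by rw [MonoidHom.range_comp, MonoidHom.range_eq_top.2 h1.2, ← MonoidHom.range_eq_map, range_subtype], congrArg Subtype.val h2⟩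

section
variable {M : Type*} [Group M] {ψ : M →* G} {g h : G} {k k' l l' : M}
def C (ψ : M →* G) (g : G) (k l : M) : Prop := g * ψ k * g⁻¹ = ψ l
theorem C.mul (a : C ψ g k l) (b : C ψ g k' l') : C ψ g (k * k') (l * l') := by
  unfold C at *; rw [map_mul, map_mul, ← a, ← b]; group
theorem C.comp (a : C ψ g k l) (b : C ψ h l k') : C ψ (h * g) k k' := by
  unfold C at *; rw [← b, ← a]; group
theorem C.symm (a : C ψ g k l) : C ψ g⁻¹ l k := by unfold C at *; rw [← a]; group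
theorem C.symm' (a : C ψ g⁻¹ k l) : C ψ g l k := inv_inv g ▸ a.symm
theorem C.of (s : M) (e : s * k * s⁻¹ = l) : C ψ (ψ s) k l := by simp [C, ← e]
theorem C.one (g : G) : C ψ g 1 1 := by simp [C]
theorem C.cast (a : C ψ g k l) (e1 : k = k') (e2 : l = l') : C ψ g k' l' := e1 ▸ e2 ▸ a
theorem C.un (hi : Function.Injective ψ) (a : C ψ g k l) (b : C ψ g k l') : l = l' := hi (Eq.trans (Eq.symm a) b)
theorem C.un' (hi : Function.Injective ψ) (a : C ψ g k l) (b : C ψ g k' l) : k = k' := a.symm.un hi b.symm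
theorem C.com (hi : Function.Injective ψ) (a : C ψ g k l) (b : C ψ g k' l') : l * l' = l' * l ↔ k * k' = k' * k :=
  ⟨fun e => (a.mul b).un' hi ((b.mul a).cast rfl e.symm), fun e => (a.mul b).un hi ((b.mul a).cast e.symm rfl)⟩
theorem C.eq1 (hi : Function.Injective ψ) (a : C ψ g k l) : l = 1 ↔ k = 1 :=
  ⟨fun e => a.un' hi ((C.one g).cast rfl e.symm), fun e => a.un hi ((C.one g).cast e.symm rfl)⟩
end

variable {e f : Bool} {φ : HM e f →* G} {g : G} {k l t : HM e f}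

structure Hs (φ : HM e f →* G) : Prop where
  inj : Function.Injective φ
  rng : φ.range = centralizer {φ z}

namespace Hs
variable (s : Hs φ)
include s

theorem two (h1 : k * k = 1) (h2 : k ≠ 1) : orderOf (φ k) = 2 := (orderOf_injective φ s.inj k).trans (Invol.two_of_mul_self h1 h2)
theorem oz : orderOf (φ z) = 2 := s.two (bas e f).1 (bas e f).2.1

theorem ex (h : C φ g t z) (c : k * t = t * k) : ∃ l, C φ g k l :=
  (s.rng.ge (mem_centralizer_singleton_iff.2 (show g * φ k * g⁻¹ * φ z = φ z * (g * φ k * g⁻¹) by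
    rw [← show _ = φ z from h, conj_mul, conj_mul, ← map_mul, c, map_mul]))).imp fun _ h => h.symm

theorem core : pPrimeCore 2 G ⊓ 𝐂[φ z] = ⊥ := eq_bot_iff.2 fun y ⟨h1, h2⟩ => by
  obtain ⟨k, rfl⟩ := s.rng.ge h2
  have o : ∀ y ∈ pPrimeCore 2 G, ∀ n, y ^ 2 ^ n = 1 → y = 1 := fun y hy n e => L34.mem_of_coprime (H := ⊥) e
    (congrArg Subtype.val (pow_card_eq_one' (x := (⟨y, hy⟩ : pPrimeCore 2 G))))
    (Nat.Coprime.pow_left _ (Nat.prime_two.coprime_iff_not_dvd.2 (pPrimeCoreOf_top' (G := G) Nat.prime_two ▸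
      not_dvd_card_pPrimeCoreOf Nat.prime_two ⊤)))
  rcases cen_Q k fun i => by
    have := o (φ (k * ι (UQ i) * k⁻¹ * (ι (UQ i))⁻¹)) (by
      simpa [mul_assoc] using mul_mem h1 ((inferInstance : (pPrimeCore 2 G).Normal).conj_mem _ (inv_mem h1) (φ (ι (UQ i))))) 2
      (by rw [← map_pow, cm_Q, map_one])
    rwa [← φ.map_one, s.inj.eq_iff, mul_inv_eq_one, mul_inv_eq_iff_eq_mul] at this
    with rfl | rfl
  exacts [φ.map_one, o _ h1 1 (by rw [pow_one, ← s.oz, pow_orderOf_eq_one])]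

theorem inverts : ∀ y ∈ pPrimeCore 2 G, φ z * y * (φ z)⁻¹ = y⁻¹ := GW.inv_of_fpf s.oz (le_normalizer_of_normal (mem_top _)) s.core

theorem comm : IsMulCommutative (pPrimeCore 2 G) := ⟨⟨fun x y => Subtype.ext (inv_injective (by
  rw [coe_mul, coe_mul, ← s.inverts _ (mul_mem x.2 y.2), ← conj_mul, s.inverts _ x.2, s.inverts _ y.2, mul_inv_rev]))⟩⟩

theorem sylG {X P : Subgroup G} (hP : IsPGroup 2 P) (h1 : P ≤ X ⊓ φ.range) (hz : φ z ∈ P)
    (h : ∀ g l, C φ g z l → cj g P ≤ X ⊓ φ.range → P ≤ 𝐂[φ l] → l = z) : ∃ R, Syl 2 R X ∧ R ≤ φ.range := by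
  obtain ⟨R, r1, r2⟩ := exists_syl_ge hP h1
  refine ⟨R, r1.of_normalizer_le inf_le_left fun n hn => ⟨hn.1, s.rng.ge (mem_centralizer_singleton_iff.2 ?_)⟩, r1.le.trans inf_le_right⟩
  obtain ⟨l, hl⟩ := (r1.le ((mem_normalizer_iff.1 hn.2 _).1 (r2 hz))).2
  rw [← mul_inv_eq_iff_eq_mul, ← hl, h n l hl.symm ((cj_le_of_le_of_mem_normalizer r2 hn.2).trans r1.le) ?_]
  rw [hl, ← cj_centralizer_singleton, ← s.rng]
  exact r2.trans ((cj_of_mem_normalizer hn.2).ge.trans (cj_mono n (r1.le.trans inf_le_right)))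

theorem pQ : IsPGroup 2 (φ.comp ι).range := (IsPGroup.of_card (n := 5) (card_Q0 false)).of_surjective _ (φ.comp ι).rangeRestrict_surjective

theorem syl : ∃ R, Syl 2 R ⊤ ∧ R ≤ φ.range :=
  s.sylG s.pQ (le_inf le_top (by rintro _ ⟨t, rfl⟩; exact ⟨_, rfl⟩)) ⟨zQ, congrArg φ (mrel e f).2.1⟩ fun g l h1 _ h2 =>
    (cen_Q l fun i => s.inj (by simpa using (mem_centralizer_singleton_iff.1 (h2 ⟨UQ i, rfl⟩)).symm)).resolve_left
      (mt (h1.eq1 s.inj).1 (bas e f).2.1)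

theorem cls (h : C φ g z t) (h1 : t ≠ z) : t = u ∨ t = u * z ∨ ∃ r, r * a * r⁻¹ = t ∧ (a : HM e f) * a = 1 := by
  obtain ⟨w, hw⟩ := s.ex h.symm (z_cen t).symm
  obtain ⟨k, k1, k2⟩ := Fb w (((hw.mul hw).eq1 s.inj).2 (bas e f).1)
  obtain ⟨l, hl⟩ := s.ex hw.symm' k1
  have e1 : l * l = t := (hl.mul hl).un s.inj (h.cast k2.symm rfl)
  have e2 : t * t = 1 := ((h.mul h).eq1 s.inj).2 (bas e f).1
  rcases Fc l (by rw [e1, e2]) with e | e | e | e | e <;> rw [e1] at e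
  · exact absurd ((h.eq1 s.inj).1 e) (bas _ _).2.1
  · exact absurd e h1
  · exact .inl e
  · exact .inr (.inl e)
  · obtain ⟨q, -, r, -, e⟩ := Fd t e e2
    exact .inr (.inr ⟨_, e, by rw [← e, conj_mul, conj_eq_one_iff] at e2; exact e2⟩)

theorem zu (h : C φ g z t) (h1 : t ≠ z) : ∃ g, C φ g z u := by
  by_contra hn
  push Not at hn
  have hn' : ∀ g, ¬ C φ g z (u * z) := fun g h => hn _ (h.comp (C.of p (bas e f).2.2.2.2.2.2.2.1))
  rcases s.cls h h1 with rfl | rfl | ⟨r, rfl, a2⟩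
  · exact hn _ h
  · exact hn' _ h
  replace h := h.comp (C.of r rfl).symm
  generalize (φ r)⁻¹ * g = g at h
  obtain ⟨w, hw⟩ := s.ex h.symm (z_cen a).symm
  rcases s.cls hw (fun e => (bas _ _).2.2.2.2.2.1 (h.symm.un' s.inj (hw.cast rfl e))) with rfl | rfl | ⟨r, rfl, -⟩
  · exact hn _ hw
  · exact hn' _ hw
  have g1 : C φ (g * φ r) z a := (C.of r (by rw [z_cen, mul_inv_cancel_right])).comp h
  have g2 : C φ (g * φ r) a z := (C.of r rfl).comp hw.symm'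
  generalize g * φ r = g at g1 g2
  obtain ⟨f1, f2, f3, f4, f5, f6⟩ := Ff e f a2
  obtain ⟨l, hl⟩ := s.ex g2 f1
  obtain ⟨m, hm⟩ := s.ex g2 f2
  have l2 := ((hl.mul hl).eq1 s.inj).2 f3
  have la := (hl.com s.inj g1).2 (z_cen _)
  rcases (Fe a2 l la).2 l2 m ((hm.com s.inj g1).2 (z_cen _)) (((hm.mul hm).eq1 s.inj).2 f4) ((hl.com s.inj hm).2 f5) with e | e | ⟨v, hv, e⟩
  · obtain ⟨q, -, r, -, e⟩ := Fd l e l2
    exact hn _ ((g1.comp (C.of _ e)).comp hl.symm)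
  · obtain ⟨q, -, r, -, e⟩ := Fd _ e (by rw [mul_assoc, ← mul_assoc a, ← la, mul_assoc, a2, mul_one, l2])
    exact hn' _ ((g1.comp (C.of _ e)).comp (hl.mul g1).symm)
  · obtain ⟨v', v1, v2⟩ : ∃ v' ∈ [1, a, z, z * a], C φ g v' v := by
      simp only [List.mem_cons, List.not_mem_nil, or_false] at hv
      rcases hv with rfl | rfl | rfl | rfl
      exacts [⟨1, by simp, C.one g⟩, ⟨a, by simp, g2⟩, ⟨z, by simp, g1⟩, ⟨z * a, by simp, g1.mul g2⟩]
    rcases e with rfl | rfl | rfl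
    exacts [(f6 v' v1).1 (hl.un' s.inj v2), (f6 v' v1).2.1 (hm.un' s.inj v2), (f6 v' v1).2.2 (hm.un' s.inj (hl.mul v2))]

theorem ff (h : C φ g z u) : e = false ∧ f = false := by
  obtain ⟨b1, b2, b3, b4, b5, b6, b7, b8, b9, b10⟩ := bas e f
  obtain ⟨g, g1, g2⟩ : ∃ g, C φ g z u ∧ C φ g u z := by
    obtain ⟨w, hw⟩ := s.ex h.symm (z_cen u).symm
    have k : ∀ r, C φ (g * φ r) z u := fun r => (C.of r (by rw [z_cen, mul_inv_cancel_right])).comp h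
    rcases s.cls hw (fun e => b4 (h.symm.un' s.inj (hw.cast rfl e))) with rfl | rfl | ⟨r, rfl, a2⟩
    · exact ⟨g, h, hw.symm'⟩
    · exact ⟨_, k p, (C.of p b7).comp hw.symm'⟩
    have g2 := ((C.of r rfl).comp hw.symm').symm
    obtain ⟨l, hl⟩ := s.ex (k r).symm b9
    exact absurd ((((hl.mul hl).mul (hl.mul hl)).eq1 s.inj).1 (Fe a2 l ((hl.com s.inj g2).2 (z_cen _))).1) b10
  refine LA_spec.resolve_right fun ⟨n1, n2⟩ => ?_
  have : ∀ k : HM e f, ∃ l, k * u = u * k → C φ g k l := fun k => by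
    by_cases e : k * u = u * k
    · exact (s.ex g2 e).imp fun _ h _ => h
    · exact ⟨1, fun h => absurd h e⟩
  choose F hF using this
  have := (List.subperm_of_subset (n1.map_on (f := F) fun x hx y hy e =>
    (hF x (n2 x hx).2).un' s.inj ((hF y (n2 y hy).2).cast rfl e.symm)) (l₂ := LB) fun l hl => by
      obtain ⟨k, hk, rfl⟩ := List.mem_map.1 hl
      exact LB_spec _ (((hF k (n2 k hk).2).mul (hF k (n2 k hk).2)).un s.inj (g1.cast (n2 k hk).1.symm rfl))).length_le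
  simp [LA, LB] at this

theorem core_bot (h : C φ g z u) : pPrimeCore 2 G = ⊥ := eq_bot_iff.2 fun y hy => by
  have k : ∀ g t, C φ g z t → ∀ y ∈ pPrimeCore 2 G, φ t * y * (φ t)⁻¹ = y⁻¹ := fun g t h y hy => by
    have := s.inverts _ ((inferInstance : (pPrimeCore 2 G).Normal).conj_mem _ hy g⁻¹)
    rw [← show _ = φ t from h]
    calc _ = g * (φ z * (g⁻¹ * y * g⁻¹⁻¹) * (φ z)⁻¹) * g⁻¹ := by group
      _ = _ := by rw [this]; group
  have h1 := k _ _ (h.comp (C.of p (bas e f).2.2.2.2.2.2.1)) y hy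
  have h2 : φ (u * z) * y * (φ (u * z))⁻¹ = φ u * (φ z * y * (φ z)⁻¹) * (φ u)⁻¹ := by rw [map_mul]; group
  rw [h1, s.inverts y hy, k _ _ h _ (inv_mem hy), inv_inv] at h2
  exact s.core.le ⟨hy, mem_centralizer_singleton_iff.2 (mul_inv_eq_iff_eq_mul.1 ((s.inverts y hy).trans h2)).symm⟩

end Hs

namespace Hs
variable {φ : M0 →* G} {k l t r : M0} (s : Hs φ)
include s

theorem sylC (ht : t ∈ [p, c, γ]) {P : Subgroup G} (hP : IsPGroup 2 P) (h : P ≤ 𝐂[φ t]) : ∃ g, C φ g t t ∧ cj g P ≤ φ.range := by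
  obtain ⟨-, -, -, ⟨r, -, r1, r2⟩, d⟩ := D3 t ht
  obtain ⟨R, h1, h2⟩ := s.sylG (X := 𝐂[φ t]) (P := zpowers (φ r)) (isPGroup_zpowers_of_pow (k := 2) (by
      rw [show 2 ^ 2 = 2 * 2 from rfl, pow_mul, sq, sq, ← map_mul, r2, ← map_mul, (bas _ _).1, map_one]))
    (zpowers_le.2 ⟨mem_centralizer_singleton_iff.2 (by rw [← map_mul, r1, map_mul]), r, rfl⟩)
    (by rw [← r2, map_mul]; exact mul_mem (mem_zpowers _) (mem_zpowers _)) fun g l g1 g2 _ => by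
      obtain ⟨g3, k, g4⟩ := g2 (conj_mem_cj g (mem_zpowers _))
      have g5 : C φ g r k := g4.symm
      have g6 : k * k = l := (g5.mul g5).un s.inj (g1.cast r2.symm rfl)
      rw [← g6]
      exact (d k (s.inj (by rw [map_mul, map_mul, g4]; exact mem_centralizer_singleton_iff.1 g3))
        (by rw [g6]; exact ((g1.mul g1).eq1 s.inj).2 (bas _ _).1)).resolve_left (g6 ▸ mt (g1.eq1 s.inj).1 (bas _ _).2.1)
  obtain ⟨g, g1, g2⟩ := h1.exists_conj_le hP h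
  exact ⟨g, mul_inv_eq_iff_eq_mul.2 (mem_centralizer_singleton_iff.1 g1), g2.trans h2⟩

theorem nsq (ht : t ∈ [p, c, γ]) (h : C φ g (r * r) t) : False := by
  obtain ⟨t2, t1, t3, -, d⟩ := D3 t ht
  have e : g * φ r * g⁻¹ * (g * φ r * g⁻¹) = φ t := by rw [conj_mul, ← map_mul]; exact h
  obtain ⟨n, n1, n2⟩ := s.sylC ht (P := zpowers (g * φ r * g⁻¹)) (isPGroup_zpowers_of_pow (k := 2) (by
      rw [show 2 ^ 2 = 2 * 2 from rfl, pow_mul, sq, sq, e, ← map_mul, t2, map_one]))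
    (zpowers_le.2 (mem_centralizer_singleton_iff.2 (by rw [← e]; exact (mul_assoc _ _ _).symm)))
  obtain ⟨k, hk⟩ := n2 (conj_mem_cj n (mem_zpowers _))
  have g5 : C φ (n * g) r k := by rw [C, hk]; group
  have g6 : k * k = t := (g5.mul g5).un s.inj (h.comp n1)
  rcases d k (by rw [← g6, mul_assoc]) (by rw [g6, t2]) with e | e
  exacts [t1 (g6 ▸ e), t3 (g6 ▸ e)]

theorem npc (ht : t ∈ [c, γ]) (h : C φ g p t) : False := by
  have ht' : t ∈ [p, c, γ] := List.mem_cons_of_mem _ ht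
  obtain ⟨n, n1, n2⟩ := s.sylC ht' (P := cj g ((φ.comp ι).range ⊓ 𝐂[φ p])) ((s.pQ.to_le inf_le_left).map _)
    (by rw [← show _ = φ t from h, ← cj_centralizer_singleton]; exact cj_mono g inf_le_right)
  have k : ∀ q : Fin 32, (⟨q, 0⟩ : M0) * p = p * ⟨q, 0⟩ → (⟨q, 0⟩ : M0) * ⟨q, 0⟩ = z →
      ∃ l, C φ (n * g) ⟨q, 0⟩ l ∧ l * t = t * l ∧ l * l = z := fun q q1 q2 => by
    obtain ⟨l, hl⟩ := n2 (conj_mem_cj n (conj_mem_cj g (x := φ ⟨q, 0⟩) ⟨⟨⟨⟨q, 0⟩, rfl⟩, rfl⟩,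
      mem_centralizer_singleton_iff.2 (by rw [← map_mul, q1, map_mul])⟩))
    have g5 : C φ (n * g) ⟨q, 0⟩ l := by rw [C, hl]; group
    have g6 := (g5.com s.inj (h.comp n1)).2 q1
    have g7 := (g5.mul g5).cast q2 rfl
    exact ⟨l, g5, g6, ((D3 t ht').2.2.2.2 l g6 (((g7.mul g7).eq1 s.inj).2 (bas _ _).1)).resolve_left (mt (g7.eq1 s.inj).1 (bas _ _).2.1)⟩
  obtain ⟨l, l1, l2, l3⟩ := k 10 (by decide +kernel) (by decide +kernel)
  obtain ⟨m, m1, m2, m3⟩ := k 18 (by decide +kernel) (by decide +kernel)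
  exact absurd ((l1.com s.inj m1).1 (D4 t ht l l2 l3 m m2 m3)) (by decide +kernel)

theorem tr {M : Subgroup M0} (hM : M.index = 2) (ht : t ∈ [p, c, γ]) (h : ∀ g, ∀ w ∈ M, w * w = 1 → ¬ C φ g t w) :
    ∃ K : Subgroup G, K.index = 2 ∧ φ t ∉ K := by
  obtain ⟨R, h1, h2⟩ := s.syl
  obtain ⟨t2, t1, -⟩ := D3 t ht
  refine Invol.thompson_transfer (H := φ.range) (M := M.map φ) (Nat.odd_iff.2 (Nat.two_dvd_ne_zero.1
    (relIndex_top_right φ.range ▸ h1.not_dvd_relIndex_of_le h2))) (by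
      rw [MonoidHom.range_eq_map, relIndex_map_map_of_injective _ _ s.inj, relIndex_top_right, hM]) (s.two t2 t1) ?_
  rintro g ⟨w, hw, e⟩
  have e' : C φ g t w := e.symm
  exact h g w hw (((e'.mul e').eq1 s.inj).2 t2) e'

theorem exN : ∃ N : Subgroup G, N.Normal ∧ (∀ g, g * g ∈ N) ∧ Syl 2 (AA.map φ ⊔ AB.map φ) N := by
  have k1 : ∀ t ∈ [c, γ], ∃ K : Subgroup G, K.index = 2 ∧ φ t ∉ K := fun t ht =>
    s.tr ix1 (List.mem_cons_of_mem _ ht) fun g w hw w2 e => by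
      rcases D1 w hw w2 with ⟨r, rfl⟩ | ⟨r, rfl⟩
      exacts [s.nsq (List.mem_cons_of_mem _ ht) e.symm, s.npc ht ((C.of r rfl).comp e.symm)]
  obtain ⟨K1, i1, n1⟩ := k1 c (by simp)
  obtain ⟨K2, i2, n2⟩ := k1 γ (by simp)
  obtain ⟨K3, i3, n3⟩ := s.tr ix3 (t := p) (by simp) fun g w hw w2 e => by
    rcases D2 w hw w2 with ⟨r, rfl⟩ | ⟨r, rfl⟩
    exacts [s.nsq (by simp) e.symm, s.npc (t := γ) (by simp) (e.comp (C.of r rfl).symm)]
  have := normal_of_index_eq_two i1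
  have := normal_of_index_eq_two i2
  have := normal_of_index_eq_two i3
  have sq : ∀ g, g * g ∈ K1 ⊓ K2 ⊓ K3 := fun g =>
    ⟨⟨mul_self_mem_of_index_two i1 g, mul_self_mem_of_index_two i2 g⟩, mul_self_mem_of_index_two i3 g⟩
  have hU : (AA ⊔ AB).map φ ≤ K1 ⊓ K2 ⊓ K3 := map_le_iff_le_comap.2 (sup_le
    (fun k hk => let ⟨r, e⟩ := ((D6 k).1 hk).1; e ▸ (map_mul φ r r ▸ sq _ : φ (r * r) ∈ K1 ⊓ K2 ⊓ K3))
    fun k hk => let ⟨r, e⟩ := ((D6 k).2 hk).1; e ▸ (map_mul φ r r ▸ sq _ : φ (r * r) ∈ K1 ⊓ K2 ⊓ K3))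
  have h3 : ∀ k ∈ M1, k ∈ M3 → φ k ^ 3 ∈ (AA ⊔ AB).map φ := fun k a b => by
    obtain ⟨l, l1, l2⟩ := D5 k a b
    have := mul_mem (mem_sup_left ((show ∀ l ∈ [1, S4.a, a', S4.a * a'], l ∈ AA by decide +kernel) l l1)) (mem_sup_right l2)
    rw [mul_inv_cancel_left, ← pow_three'] at this
    exact ⟨_, this, map_pow _ _ _⟩
  have h2 : ∀ k ∈ M1, k ∈ M3 → φ k ∈ K1 ⊓ K2 ⊓ K3 := fun k a b =>
    L34.mem_of_coprime (hU (h3 k a b)) (pow_two (φ k) ▸ sq _) (by norm_num)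
  obtain ⟨R, r1, r2⟩ := s.syl
  refine ⟨K1 ⊓ K2 ⊓ K3, inferInstance, sq, Subgroup.map_sup _ _ φ ▸ (r1.inf_normal_top _).of_card_ge (IsPGroup.map
    (isPGroup_sup_of_le_normalizer (isPGroup_iff_mem.2 fun k hk => ⟨1, by rw [pow_one, pow_two, ((D6 k).1 hk).2.1]⟩)
      (isPGroup_iff_mem.2 fun k hk => ⟨1, by rw [pow_one, pow_two, ((D6 k).2 hk).2.1]⟩) fun k hk => mem_normalizer_fintype fun l hl => ?_) _)
    hU (card_le_of_le fun y ⟨y1, y2⟩ => ?_)⟩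
  · have := mul_mem (D8 k hk l hl).2.1 (inv_mem hl)
    rw [← mul_assoc, mul_inv_cancel_right] at this
    rwa [inv_eq_of_mul_eq_one_right ((D6 k).1 hk).2.1]
  obtain ⟨k, rfl⟩ := r2 y1
  obtain ⟨j, hj⟩ := isPGroup_iff_mem.1 r1.isPGroup _ y1
  rcases D7 k with e | ⟨t, ht, e⟩
  · exact L34.mem_of_coprime (h3 k e.1 e.2) (hj ▸ one_mem _) (Nat.Coprime.pow_right j (by norm_num))
  have := mul_mem (inv_mem (show φ k ∈ K1 ⊓ K2 ⊓ K3 from y2)) (h2 _ e.1 e.2)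
  rw [map_mul, inv_mul_cancel_left] at this
  simp only [List.mem_cons, List.not_mem_nil, or_false] at ht
  rcases ht with rfl | rfl | rfl
  exacts [absurd this.2 n3, absurd this.1.1 n1, absurd this.1.2 n2]

theorem exT {N : Subgroup G} (hS : Syl 2 (AA.map φ ⊔ AB.map φ) N) : L34.T ((AA.map φ).subgroupOf N) ((AB.map φ).subgroupOf N) := by
  have hi := s.inj
  have c : ∀ H : Subgroup M0, H.map φ ≤ N → Nat.card ((H.map φ).subgroupOf N) = Nat.card H := fun H hH => by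
    rw [Nat.card_congr (subgroupOfEquivOfLe hH).toEquiv, card_map_of_injective hi]
  have h1 := le_sup_left.trans hS.le
  have h2 := le_sup_right.trans hS.le
  refine ⟨?_, ?_, (c _ h1).trans card_AA, (c _ h2).trans card_AB, ?_, ?_, ?_, subgroupOf_sup h1 h2 ▸ hS.subgroupOf_top⟩
  · rintro ⟨_, _⟩ ⟨k, hk, rfl⟩; exact Subtype.ext (by simp [← map_mul, ((D6 k).1 hk).2.1])
  · rintro ⟨_, _⟩ ⟨k, hk, rfl⟩; exact Subtype.ext (by simp [← map_mul, ((D6 k).2 hk).2.1])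
  · rw [← card_AAB, ← c _ ((map_mono inf_le_left).trans h1), map_inf_eq _ _ _ hi]; rfl
  · rintro ⟨_, _⟩ ⟨k, hk, rfl⟩ ⟨_, _⟩ ⟨l, hl, rfl⟩
    exact ⟨⟨_, (D8 k hk l hl).1, by simp⟩, ⟨_, (D8 k hk l hl).2.1, by simp⟩⟩
  · rintro ⟨_, _⟩ ⟨k, hk, rfl⟩ ⟨_, _⟩ ⟨l, hl, rfl⟩ e
    exact ((D8 k hk l hl).2.2 (hi (by simpa using congrArg Subtype.val e))).imp (mem_map_of_mem φ) (mem_map_of_mem φ)

end Hs

end Cfsg.Lib.JT.S4
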