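import Cfsg.Agent.Lib.JT.Q44
import Cfsg.Agent.Lib.U3.Aut
import Cfsg.Agent.Lib.Exc.CIT6
import Cfsg.Agent.Lib.Linear.PSL2Sub

/-! # Groups with an involution centraliser `2^{1+4}_-.S₄` -/

set_option autoImplicit false
set_option linter.unusedSectionVars false
set_option maxRecDepth 100000
set_option synthInstance.maxSize 4000

namespace Cfsg.Lib.JT.S4

open Subgroup Cfsg.Lib.Core Cfsg.Lib.BG1 Cfsg.Lib.Invol Cfsg.Lib.Layer Cfsg.Lib.L34
open Cfsg.Lib.Amalg hiding le_cent_symm op_top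
open scoped Pointwise
attribute [-instance] eqF

local notation "PSL" => Matrix.ProjectiveSpecialLinearGroup

variable {G : Type*} [Group G] [Finite G]

theorem card_G {A B : Subgroup G} {c : G} (h : Mn A B) (hc : c ∈ A ⊓ B) (c1 : c ≠ 1) : Nat.card G = 315 * Nat.card 𝐂[c] := by
  classical
  have hM := h.card_M hc c1
  have hM1 := h.symm.card_M ⟨hc.2, hc.1⟩ c1
  have hB := h.card_B hc c1
  have hn : 64 ≤ Nat.card 𝐂[c] := h.cS ▸ card_le_of_le (h.S_le_cent hc)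
  generalize Nat.card 𝐂[c] = n at hM hM1 hB hn ⊢
  let _ := Fintype.ofFinite (G ⧸ 𝐍(A))
  set ℓ : Finset (G ⧸ 𝐍(A)) := (MulAction.orbit 𝐍(B) ((1 : G) : G ⧸ 𝐍(A))).toFinset with hℓ
  have mem : ∀ g x : G, (x : G ⧸ 𝐍(A)) ∈ g • ℓ ↔ ∃ m ∈ 𝐍(B), x⁻¹ * (g * m) ∈ 𝐍(A) := fun g x => by
    rw [← Finset.inv_smul_mem_iff, hℓ, Set.mem_toFinset, MulAction.mem_orbit_iff]
    refine ⟨fun ⟨m, e⟩ => ⟨m, m.2, ?_⟩, fun ⟨m, hm, e⟩ => ⟨⟨m, hm⟩, ?_⟩⟩
    · have := QuotientGroup.eq.1 (show (((g⁻¹ * x : G) : G ⧸ 𝐍(A))) = ((m * 1 : G) : G ⧸ 𝐍(A)) from e.symm)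
      simpa [mul_assoc] using this
    · exact (QuotientGroup.eq.2 (by simpa [mul_assoc] using e) :
        (((g⁻¹ * x : G) : G ⧸ 𝐍(A))) = ((m * 1 : G) : G ⧸ 𝐍(A))).symm
  have duo : ∀ g x : G, (x : G ⧸ 𝐍(A)) ∈ g • ℓ → T (cj x A) (cj g B) := fun g x hx => by
    obtain ⟨m, hm, e⟩ := (mem g x).1 hx
    have := h.conj (g * m)
    rwa [cj_mul g m B, cj_of_mem_normalizer hm, ← mul_inv_cancel_left x (g * m), cj_mul, cj_of_mem_normalizer e] at this
  have uniq : ∀ g g' x y : G, (x : G ⧸ 𝐍(A)) ≠ y → (x : G ⧸ 𝐍(A)) ∈ g • ℓ → (y : G ⧸ 𝐍(A)) ∈ g • ℓ →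
      (x : G ⧸ 𝐍(A)) ∈ g' • ℓ → (y : G ⧸ 𝐍(A)) ∈ g' • ℓ → g'⁻¹ * g ∈ 𝐍(B) := by
    intro g g' x y hne e1 e2 e3 e4
    have := (duo g x e1).line_eq (duo g y e2) (duo g' x e3) (duo g' y e4) (eq_bot_iff.2 fun w hw => by
      by_contra h6
      refine hne (QuotientGroup.eq.2 (h.ti (mem_cj.1 hw.2) (fun e => h6 ?_) ?_))
      · simpa [mul_assoc] using congrArg (fun z => y * z * y⁻¹) e
      · convert mem_cj.1 hw.1 using 1; group)
    rw [← cj_eq_self_iff, cj_mul, this, cj_inv_cj]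
  have stab : ∀ m ∈ 𝐍(B), m • ℓ = ℓ := fun m hm => by
    ext p
    obtain ⟨x, rfl⟩ := QuotientGroup.mk_surjective p
    rw [mem, ← one_smul G ℓ, mem]
    exact ⟨fun ⟨k, hk, e⟩ => ⟨m * k, mul_mem hm hk, by rwa [one_mul]⟩,
      fun ⟨k, hk, e⟩ => ⟨m⁻¹ * k, mul_mem (inv_mem hm) hk, by simpa using e⟩⟩
  have hℓ5 : ℓ.card = 5 := by
    have := Golay.card_eq_orbit_mul 𝐍(B) ((1 : G) : G ⧸ 𝐍(A))
    rw [Exc.stabilizer_one, inf_comm, hM1, hB] at this
    have e : 15 * n = (MulAction.orbit 𝐍(B) ((1 : G) : G ⧸ 𝐍(A))).ncard * (3 * n) := this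
    rw [← Set.coe_toFinset (MulAction.orbit _ _), Set.ncard_coe_finset] at e
    have e : 15 * n = ℓ.card * (3 * n) := by convert e
    exact Nat.eq_of_mul_eq_mul_right (m := 3 * n) (by omega) (by rw [← e]; ring)
  have hSt : IsSteinerSystem 2 5 (MulAction.orbit G ℓ) := by
    refine ⟨by rintro _ ⟨g, rfl⟩; simpa using hℓ5, fun s hs => ?_⟩
    obtain ⟨p, q, hpq, rfl⟩ := Finset.card_eq_two.1 hs
    obtain ⟨x, rfl⟩ := QuotientGroup.mk_surjective p
    obtain ⟨y, rfl⟩ := QuotientGroup.mk_surjective q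
    obtain ⟨g, e1, e2⟩ := h.collinear (x⁻¹ * y)
    have e3 : (x : G ⧸ 𝐍(A)) ∈ (x * g) • ℓ := (mem _ _).2 (by simpa [mul_assoc] using e1)
    have e4 : (y : G ⧸ 𝐍(A)) ∈ (x * g) • ℓ := (mem _ _).2 (by simpa [mul_assoc] using e2)
    refine ⟨(x * g) • ℓ, ⟨⟨_, rfl⟩, by simp [Finset.insert_subset_iff, e3, e4]⟩, ?_⟩
    rintro _ ⟨⟨g', rfl⟩, h6⟩
    rw [Finset.insert_subset_iff, Finset.singleton_subset_iff] at h6
    have := stab _ (uniq _ _ _ _ hpq h6.1 h6.2 e3 e4)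
    rwa [mul_smul, inv_smul_eq_iff] at this
  have hstab : MulAction.stabilizer G ℓ = 𝐍(B) := by
    refine le_antisymm (fun g hg => ?_) stab
    obtain ⟨p, hp, q, hq, hpq⟩ := Finset.one_lt_card.1 (show 1 < ℓ.card by omega)
    obtain ⟨x, rfl⟩ := QuotientGroup.mk_surjective p
    obtain ⟨y, rfl⟩ := QuotientGroup.mk_surjective q
    have e : g • ℓ = ℓ := hg
    simpa using uniq g 1 x y hpq (e.symm ▸ hp) (e.symm ▸ hq) (by simpa using hp) (by simpa using hq)
  have h21 : Fintype.card (G ⧸ 𝐍(A)) = 21 := by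
    have e1 := Golay.cnt_mul_choose hSt {((1 : G) : G ⧸ 𝐍(A))} (by simp)
    have e2 := Golay.card_eq_orbit_mul 𝐍(A) ℓ
    have e3 : {c | c ∈ MulAction.orbit G ℓ ∧ {((1 : G) : G ⧸ 𝐍(A))} ⊆ c ∧ Disjoint c ∅} = MulAction.orbit 𝐍(A) ℓ := by
      ext c
      constructor
      · rintro ⟨⟨g, rfl⟩, h6, -⟩
        obtain ⟨m, hm, e⟩ := (mem g 1).1 (Finset.singleton_subset_iff.1 h6)
        exact ⟨⟨g * m, by simpa using e⟩, show (g * m) • ℓ = g • ℓ by rw [mul_smul, stab m hm]⟩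
      · rintro ⟨k, rfl⟩
        exact ⟨⟨k, rfl⟩, Finset.singleton_subset_iff.2 ((mem k 1).2 ⟨1, one_mem _, by simp⟩), by simp⟩
    rw [hstab, hM, hB] at e2
    rw [Golay.cnt, e3] at e1
    simp only [Finset.card_singleton, Nat.add_one_sub_one, Nat.choose_one_right] at e1
    have e4 : (MulAction.orbit 𝐍(A) ℓ).ncard = 5 :=
      Nat.eq_of_mul_eq_mul_right (m := 3 * n) (by omega) (e2.symm.trans (by ring))
    omega
  rw [← 𝐍(A).card_mul_index, hM, index, Nat.card_eq_fintype_card, h21]; omega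

theorem chr (K : Subgroup G) [K.Normal] [IsSimpleGroup K] (hC : 𝐂(K) = ⊥) : K.Characteristic :=
  characteristic_iff_le_comap.2 fun ϕ => by
    rcases (inferInstance : ((K.comap ϕ.toMonoidHom).subgroupOf K).Normal).eq_bot_or_eq_top with e | e
    · intro y hy
      have : ϕ.symm y = 1 := hC.le fun k hk => (commute_of_normal_of_disjoint _ _ inferInstance inferInstance
        (subgroupOf_eq_bot.1 e) (ϕ.symm y) k (by simpa using hy) hk).symm
      rw [ϕ.symm.map_eq_one_iff.1 this]; exact one_mem _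
    · exact subgroupOf_eq_top.1 e

theorem conj_inj (K : Subgroup G) [K.Normal] (hC : 𝐂(K) = ⊥) : Function.Injective (MulAut.conjNormal : G →* MulAut K) :=
  (injective_iff_map_eq_one _).2 fun g hg => hC.le fun x hx =>
    (mul_inv_eq_iff_eq_mul.1 (congrArg (fun f : MulAut K => (f ⟨x, hx⟩ : G)) hg)).symm

theorem char_inj (K : Subgroup G) [K.Characteristic] (hC : 𝐂(K) = ⊥) : Function.Injective (MulAut.characteristic K) :=
  (injective_iff_map_eq_one _).2 fun δ hδ => MulEquiv.ext fun r => by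
    have k : ∀ x ∈ K, δ x = x := fun x hx => congrArg (fun f : MulAut K => (f ⟨x, hx⟩ : G)) hδ
    refine (inv_mul_eq_one.1 (hC.le (show r⁻¹ * δ r ∈ 𝐂(K) from fun x hx => ?_))).symm
    have := k _ ((inferInstance : K.Normal).conj_mem x hx r)
    rw [map_mul, map_mul, map_inv, k x hx] at this
    calc _ = r⁻¹ * (r * x * r⁻¹) * δ r := by group
      _ = _ := by rw [← this]; group

theorem autEq [IsSimpleGroup G] (hc : ∃ a b : G, a * b ≠ b * a) (R : Subgroup (MulAut G)) [R.Normal] (hR : Inn G ≤ R) :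
    Nonempty (MulAut G ≃* MulAut R) := by
  have hi : Function.Injective (MulAut.conj : G →* MulAut G) := (MonoidHom.ker_eq_bot_iff _).1
    ((MonoidHom.normal_ker _).eq_bot_or_eq_top.resolve_right fun e => by
      obtain ⟨a, b, h⟩ := hc
      exact h (mul_inv_eq_iff_eq_mul.1 (congrArg (fun f : MulAut G => f b) (e.ge (mem_top a)))))
  have hC : ∀ β : MulAut G, (∀ s, MulAut.conj s * β = β * MulAut.conj s) → β = 1 := fun β h => MulEquiv.ext fun s =>
    hi (MulEquiv.ext fun y => by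
      obtain ⟨y, rfl⟩ := β.surjective y
      simpa using (congrArg (fun f : MulAut G => f y) (h s)).symm)
  let ε : (Inn G).subgroupOf R ≃* G := (subgroupOfEquivOfLe hR).trans (MonoidHom.ofInjective hi).symm
  have := ε.isSimpleGroup
  have h1 : 𝐂((Inn G).subgroupOf R) = ⊥ := eq_bot_iff.2 fun β h => Subtype.ext (hC _ fun s =>
    congrArg Subtype.val (h ⟨_, hR ⟨s, rfl⟩⟩ ⟨s, rfl⟩))
  have := chr _ h1
  have h2 := conj_inj R (eq_bot_iff.2 fun β h => hC _ fun s => h _ (hR ⟨s, rfl⟩))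
  exact ⟨MulEquiv.ofBijective _ ((Nat.bijective_iff_injective_and_card _).2 ⟨h2, le_antisymm (Nat.card_le_card_of_injective _ h2)
    ((Nat.card_le_card_of_injective _ (char_inj _ h1)).trans (Nat.card_congr (MulAut.congr ε).toEquiv).le)⟩)⟩

theorem Hs.mn {φ : M0 →* G} (s : Hs φ) (hO : pPrimeCore 2 G = ⊥) (hs : ¬ Group.IsSolvable G) : ∃ N : Subgroup G, N.Normal ∧
    AA.map φ ≤ N ∧ pPrimeCore 2 N = ⊥ ∧ Mn ((AA.map φ).subgroupOf N) ((AB.map φ).subgroupOf N) := by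
  obtain ⟨N, hN, sq, hS⟩ := s.exN
  have t := s.exT hS
  have hA := le_sup_left.trans hS.le
  have hB := le_sup_right.trans hS.le
  have hO' : pPrimeCore 2 N = ⊥ := (map_eq_bot_iff_of_injective _ N.subtype_injective).1 (eq_bot_iff.2 (by
    rw [map_pPrimeCore_subtype Nat.prime_two, ← hO, ← pPrimeCoreOf_top' Nat.prime_two]
    exact piCoreOf_le_of_normal le_top le_normalizer_of_normal))
  have p1 : cj (φ p) (AA.map φ) = AB.map φ := eq_of_le_of_card_ge (cj_le_iff'.2 (by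
    rintro _ ⟨k, hk, rfl⟩; exact ⟨_, ((D6 k).1 hk).2.2, by simp⟩))
    (by rw [card_cj, card_map_of_injective s.inj, card_map_of_injective s.inj, card_AA, card_AB])
  have p2 : cj (φ p) (AB.map φ) = AA.map φ := eq_of_le_of_card_ge (cj_le_iff'.2 (by
    rintro _ ⟨k, hk, rfl⟩; exact ⟨_, ((D6 k).2 hk).2.2, by simp⟩))
    (by rw [card_cj, card_map_of_injective s.inj, card_map_of_injective s.inj, card_AA, card_AB])
  have sw : ∀ X : Subgroup G, N ≤ 𝐍(X) → N ≤ 𝐍(cj (φ p) X) := fun X h => by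
    rw [← cj_normalizer, ← cj_of_mem_normalizer (le_normalizer_of_normal (H := N) (mem_top (φ p)))]; exact cj_mono _ h
  have ns : N ≤ 𝐍(AA.map φ) → N ≤ 𝐍(AB.map φ) → False := fun a b => hs (by
    have := JTW.Cen.solvable_of_syl hS (le_normalizer_sup a b)
    have := (solvable_of_pgroup (H := (⊤ : Subgroup (G ⧸ N))) Nat.prime_two (isPGroup_iff_mem.2 fun q _ => ⟨1, by
      obtain ⟨g, rfl⟩ := QuotientGroup.mk_surjective q
      rw [pow_one, pow_two, ← QuotientGroup.mk_mul, QuotientGroup.eq_one_iff]; exact sq g⟩))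
    have := Core.isSolvable_of_equiv (G' := G ⧸ N) topEquiv
    exact isSolvable_of_normal_of_quotient N)
  exact ⟨N, hN, hA, hO', t.mn hO' (fun e => by
      have := (normal_subgroupOf_iff_le_normalizer hB).1 (t.symm.normal hO' (inf_comm ((AA.map φ).subgroupOf N) _ ▸ e))
      exact ns (p2 ▸ sw _ this) this)
    fun e => by
      have := (normal_subgroupOf_iff_le_normalizer hA).1 (t.normal hO' (inf_comm ((AB.map φ).subgroupOf N) _ ▸ e))
      exact ns this (p1 ▸ sw _ this)⟩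

theorem Hs.cardG {φ : M0 →* G} (s : Hs φ) {N : Subgroup G} (hA : AA.map φ ≤ N)
    (h : Mn ((AA.map φ).subgroupOf N) ((AB.map φ).subgroupOf N)) : 241920 ≤ Nat.card G := by
    have zA : φ z ∈ AA.map φ := mem_map_of_mem φ (by decide +kernel)
    have e1 := card_G h (c := ⟨φ z, hA zA⟩) ⟨zA, mem_map_of_mem φ (by decide +kernel)⟩
      fun e => ne_one_of_two s.oz (congrArg Subtype.val e)
    have e2 : 𝐂[(⟨φ z, hA zA⟩ : N)] = 𝐂[φ z].subgroupOf N := by
      ext y; simp [mem_centralizer_singleton_iff, mem_subgroupOf, Subtype.ext_iff]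
    rw [← (𝐂[(⟨φ z, hA zA⟩ : N)]).index_mul_card] at e1
    have e3 := Nat.eq_of_mul_eq_mul_right Nat.card_pos e1
    rw [e2] at e3
    have e4 : 𝐂[φ z].relIndex N ≤ 𝐂[φ z].relIndex ⊤ := relIndex_le_of_le_right le_top (by simp [index_ne_zero_of_finite])
    rw [← 𝐂[φ z].index_mul_card, ← s.rng, ← Nat.card_congr (MonoidHom.ofInjective s.inj).toEquiv, card_HM, s.rng]
    rw [relIndex_top_right, relIndex, e3] at e4
    omega

theorem cardW {F : Type*} [Field F] [Fintype F] (hF : Fintype.card F = 4) : Nat.card (MulAut (PSL (Fin 3) F)) = 241920 := by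
  have hF' := Nat.card_eq_fintype_card.trans hF
  obtain ⟨w, -, -, w2, -⟩ := field4 hF
  have : CharP F 2 := CharTwo.of_one_ne_zero_of_two_eq_zero one_ne_zero (one_add_one_eq_two (R := F) ▸ w2)
  rw [Linear.card_mulAut_PSL le_rfl, U3.Aut.card_aut (p := 2) (f := 2) hF', Linear.card_PGL_eq_card_SL, ← Linear.gcd_mul_card_PSL,
    Exc.card_psl3_four hF', hF']
  simp

theorem Hs.main {φ : M0 →* G} (s : Hs φ) (hO : pPrimeCore 2 G = ⊥) (hs : ¬ Group.IsSolvable G) {F : Type*} [Field F] [Fintype F]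
    (hF : Fintype.card F = 4) : Nonempty (G ≃* MulAut (GL (Fin 3) F ⧸ center (GL (Fin 3) F))) := by
  obtain ⟨N, hN, hA, hO', h⟩ := s.mn hO hs
  have hG := s.cardG hA h
  let _ := Fintype.ofFinite (GaloisField 2 2)
  have h4 : Nat.card (GaloisField 2 2) = 4 := GaloisField.card 2 2 (by norm_num)
  have hF' := Nat.card_eq_fintype_card.trans hF
  obtain ⟨L, hL, ⟨ε⟩⟩ := h.psl3 hO' (GaloisField 2 2) (Nat.card_eq_fintype_card.symm.trans h4)
  obtain ⟨ε'⟩ := Linear.nonempty_psl_equiv_of_card_eq (ι := Fin 3) (h4.trans hF'.symm)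
  replace ε := ε.trans ε'
  have := Linear.psl_fin_isSimpleGroup (F := F) (n := 3) (by norm_num) (by norm_num)
  have := ε.isSimpleGroup
  have hSL := (h.le_or hO' h.tr h.tr' L).resolve_left ((nontrivial_iff_ne_bot _).1 inferInstance)
  obtain ⟨a0, ha, h1⟩ := h.exists_a
  obtain ⟨b0, hb, h2⟩ := h.toT.symm.exists_a
  have hC := (h.le_or hO' h.tr h.tr' 𝐂(L)).resolve_right fun h3 =>
    (h.ne a0 ha b0 hb (h3 (mem_sup_right hb) a0 (hSL (mem_sup_left ha)))).elim h1 h2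
  have := chr L hC
  have hC' : 𝐂(L.map N.subtype) = ⊥ := eq_bot_iff.2 fun y hy => by
    have k : ∀ k ∈ AA, φ k * y = y * φ k := fun k hk =>
      hy _ ⟨⟨φ k, hA (mem_map_of_mem φ hk)⟩, hSL (mem_sup_left (mem_map_of_mem φ hk)), rfl⟩
    obtain ⟨l, rfl⟩ := s.rng.ge (mem_centralizer_singleton_iff.2 (k z (by decide +kernel)).symm)
    have hl : φ l ∈ N := hA (mem_map_of_mem φ ⟨mem_centralizer_singleton_iff.2 (s.inj (by simpa using (k a (by decide +kernel)).symm)),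
      mem_centralizer_singleton_iff.2 (s.inj (by simpa only [map_mul] using (k a' (by decide +kernel)).symm))⟩)
    exact congrArg Subtype.val (hC.le (show (⟨φ l, hl⟩ : N) ∈ 𝐂(L) from fun x hx => Subtype.ext (hy _ ⟨x, hx, rfl⟩)))
  let ψ : G →* MulAut (PSL (Fin 3) F) :=
    (MulAut.congr ((L.equivMapOfInjective _ N.subtype_injective).symm.trans ε)).toMonoidHom.comp MulAut.conjNormal
  have hψ : Function.Injective ψ := (MulAut.congr _).injective.comp (conj_inj _ hC')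
  obtain ⟨Φ, -, hΦ⟩ := Linear.exists_autFieldGraph (F := F) (n := 3) le_rfl
  have : (Linear.pslConj (Fin 3) F).range.Normal := hΦ ▸ Φ.normal_ker
  obtain ⟨η⟩ := autEq ⟨ε ⟨a0, hSL (mem_sup_left ha)⟩, ε ⟨b0, hSL (mem_sup_right hb)⟩, fun e =>
    (h.ne a0 ha b0 hb (congrArg Subtype.val (ε.injective ((map_mul ε _ _).trans (e.trans (map_mul ε _ _).symm))))).elim h1 h2⟩ _ (Linear.Inn_le_range_pslConj (ι := Fin 3) (F := F))
  exact ⟨((MulEquiv.ofBijective ψ ((Nat.bijective_iff_injective_and_card _).2 ⟨hψ, le_antisymm (Nat.card_le_card_of_injective _ hψ)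
    ((cardW hF).trans_le hG)⟩)).trans η).trans (MulAut.congr ((QuotientGroup.quotientKerEquivRange _).symm.trans
      (QuotientGroup.quotientMulEquivOfEq (Linear.ker_pslConj (ι := Fin 3) (F := F)))))⟩

theorem Hs.main' {e f : Bool} {φ : HM e f →* G} (s : Hs φ) (hH : Group.IsSolvable 𝐂[φ z]) (hs : ¬ Group.IsSolvable G) {F : Type*} [Field F]
    [Fintype F] (hF : Fintype.card F = 4) : Nonempty (G ≃* MulAut (GL (Fin 3) F ⧸ center (GL (Fin 3) F))) := by
  obtain ⟨R, r1, r2⟩ := s.syl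
  by_cases hz : ∀ g t, C φ g z t → t = z
  · refine absurd ?_ hs
    have zR : φ z ∈ R := r1.mem_of_mem_normalizer (k := 1) (by rw [pow_one, ← s.oz, pow_orderOf_eq_one]) (mem_top _)
      (centralizer_le_normalizer _ fun y hy => mem_centralizer_singleton_iff.1 (s.rng.le (r2 hy)))
    have e := So.zsplit r1 zR (mul_self_of_two s.oz) fun g _ hg => let ⟨t, ht⟩ := r2 hg; by rw [← ht, hz g t ht.symm]
    rw [top_inf_eq, sup_comm] at e
    have := FT.solvable_of_not_two_dvd _ (not_dvd_card_pPrimeCoreOf Nat.prime_two (⊤ : Subgroup G))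
    have := isSolvable_sup_of_le_normalizer (H := 𝐂[φ z]) (le_top.trans (le_norm_piCoreOf_self ({2}ᶜ : Set ℕ) ⊤))
    rw [e] at this
    exact Core.isSolvable_of_equiv topEquiv
  push Not at hz
  obtain ⟨g, t, h1, h2⟩ := hz
  obtain ⟨g, h⟩ := s.zu h1 h2
  obtain ⟨rfl, rfl⟩ := s.ff h
  exact s.main (s.core_bot h) hs hF

end Cfsg.Lib.JT.S4
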