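import Cfsg.Agent.Lib.JT.B1
import Cfsg.Agent.Lib.Transfer.Apps
import Cfsg.Agent.Lib.SCl.FusCore
import Cfsg.Agent.S1175
import Mathlib.GroupTheory.FixedPointFree

/-! # Type `J₂`/`J₃`: Sylow subgroups, simplicity, generation -/

set_option autoImplicit false
set_option maxRecDepth 100000
set_option linter.dupNamespace false
set_option synthInstance.maxSize 2000

namespace Cfsg.Lib.JT

open Subgroup Cfsg.Lib.Transfer

theorem cent_Q : ∀ k : HH false, k * u0 = u0 * k → k * p0 = p0 * k → k * q0 = q0 * k → k * r0 = r0 * k → k = 1 ∨ k = z0 := by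
  decide +kernel
theorem ncl_q : ∀ q : Fin 32, (⟨q, 0⟩ : HH false) = 1 ∨ (⟨q, 0⟩ : HH false) = z0 ∨
    ∃ d ∈ [u0, p0, q0, r0], (⟨q, 0⟩ : HH false) * (d * (⟨q, 0⟩ : HH false)⁻¹ * d⁻¹) = z0 := by decide +kernel
theorem ncl_p : ∀ p : Fin 60, p = 0 ∨ ∃ c d : Fin 60, pm (pm (pm (pm c p) (pi' c)) (pm (pm d p) (pi' d))) (pi' 15) = 0 := by
  decide +kernel
theorem ncl_v : ∃ c d : Fin 60, pm (pm (pm (pm c 15) (pi' c)) (pm (pm d 15) (pi' d))) (pi' 11) = 0 := by decide +kernel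
theorem sq_Q : ∀ l : HH false, l.p = 0 → l * l ≠ u0 := by decide +kernel
theorem za_conj : ∃ c : HH false, z0 * a0 = c * a0 * c⁻¹ := by decide +kernel

instance Q0_normal (e : Bool) : (Q0 e).Normal := ⟨fun k hk c => by
  change pm (pm c.p k.p) (pi' c.p) = 0
  rw [show k.p = 0 from hk]; generalize c.p = p; revert p; decide +kernel⟩

theorem normal_HH (N : Subgroup (HH false)) [hN : N.Normal] (hu : u0 ∈ N) : N = Q0 false ∨ N = ⊤ := by
  have hp : p0 ∈ N := (show v0 * u0 * v0⁻¹ = (p0 : HH false) by decide +kernel) ▸ hN.conj_mem _ hu _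
  have hq : q0 ∈ N := (show v0 * p0 * v0⁻¹ = (q0 : HH false) by decide +kernel) ▸ hN.conj_mem _ hp _
  have hr : r0 ∈ N := (show a0 * q0 * a0⁻¹ = (r0 : HH false) by decide +kernel) ▸ hN.conj_mem _ hq _
  have hs : s0 ∈ N := (show a0 * p0 * a0⁻¹ = (s0 : HH false) by decide +kernel) ▸ hN.conj_mem _ hp _
  have hz : z0 ∈ N := (show u0 * p0 * (u0 * p0) = (z0 : HH false) by decide +kernel) ▸ mul_mem (mul_mem hu hp) (mul_mem hu hp)
  have hQ : Q0 false ≤ N := by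
    rw [← cl_Q]; exact Comp.cl_le.2 (by simp only [List.forall_mem_cons]; simp [γ0, lt8, *])
  by_cases h : N ≤ Q0 false
  · exact .inl (le_antisymm h hQ)
  right
  obtain ⟨k, hk, hp⟩ := SetLike.not_le_iff_exists.1 h
  have key : ∀ k ∈ N, ∀ (t : HH false) (c d : Fin 60),
      pm (pm (pm (pm c k.p) (pi' c)) (pm (pm d k.p) (pi' d))) (pi' t.p) = 0 → t ∈ N := fun k hk t c d e => by
    have h1 := mul_mem (hN.conj_mem _ hk ⟨0, c⟩) (hN.conj_mem _ hk ⟨0, d⟩)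
    exact inv_mem_iff.1 ((mul_mem_cancel_left h1).1 (hQ e))
  obtain ⟨c, d, e⟩ := (ncl_p k.p).resolve_left hp
  have hv := key k hk v0 c d e
  obtain ⟨c, d, e⟩ := ncl_v
  have ha := key v0 hv a0 c d e
  rw [eq_top_iff, ← cl_top]
  exact Comp.cl_le.2 (by
    rw [show Comp.JTa.L = [1, 2, 3, 4, 5, 6, 7, 8, 9, 10] by decide +kernel]
    simp only [List.forall_mem_cons]; simp [γ0, lt8, *])

variable {G : Type*} [Group G] {φ : HH false →* G}

theorem JT.z_ne (hφ : JT φ) : φ z0 ≠ 1 := fun e => absurd (hφ.inj (e.trans φ.map_one.symm)) (by decide +kernel)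
theorem JT.oz (hφ : JT φ) : orderOf (φ z0) = 2 :=
  orderOf_eq_prime (by rw [← map_pow, show (z0 ^ 2 : HH false) = 1 by decide +kernel, map_one]) hφ.z_ne

variable [Finite G]

theorem JT.sylow (hφ : JT φ) : ∃ T : Subgroup G, SylowIn 2 T ⊤ ∧ T ≤ φ.range ∧ φ z0 ∈ T ∧
    ∀ g ∈ normalizer (T : Set G), Cj φ g z0 z0 := by
  have : Fact (Nat.Prime 2) := ⟨Nat.prime_two⟩
  obtain ⟨T, hT⟩ := exists_sylowIn 2 φ.range
  have hQ : (Q0 false).map φ ≤ T := hT.le_of_le_normalizer ((IsPGroup.of_card (n := 5) (card_Q0 _)).map φ) (map_le_range _ _)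
    fun g hg => by
      obtain ⟨c, rfl⟩ := hT.1 hg
      refine mem_normalizer_of_cj_le (cj_le_iff.2 ?_)
      rintro _ ⟨k, hk, rfl⟩
      exact ⟨_, (Q0_normal _).conj_mem k hk c, Eq.symm (Cj.self c k)⟩
  have hz : φ z0 ∈ T := hQ ⟨z0, rfl, rfl⟩
  have hN : ∀ g ∈ normalizer (T : Set G), Cj φ g z0 z0 := fun g hg => by
    obtain ⟨k, hk⟩ := hT.1 (conj_mem_of_mem_normalizer hg hz)
    have hk : Cj φ g z0 k := hk.symm
    have key : ∀ t : HH false, t ∈ Q0 false → k * t = t * k := fun t ht => by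
      obtain ⟨l, hl⟩ := hT.1 (conj_mem_of_mem_normalizer (inv_mem hg) (hQ ⟨t, ht, rfl⟩))
      have hl : Cj φ g l t := Cj.symm' hl.symm
      exact (hk.mul hl).uniq hφ ((hl.mul hk).cast (z0_comm l) rfl)
    rcases cent_Q k (key _ rfl) (key _ rfl) (key _ rfl) (key _ rfl) with rfl | rfl
    · exact absurd (hk.inj hφ (Cj.one _)) (by decide +kernel)
    · exact hk
  refine ⟨T, sylowIn_of_maximal le_top hT.2 fun P hP h1 _ => ?_, hT.1, hz, hN⟩
  by_contra hc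
  have h2 := lt_inf_normalizer hP (lt_of_le_not_ge h1 hc)
  exact h2.ne (hT.eq_of_le hP.to_inf_left h2.le fun g hg => hφ.mem' (hN g hg.2)).symm

theorem JT.inv_into (hφ : JT φ) {M : Subgroup G} (hM : φ.range ≤ M) {t : G} (ht : t ∈ M) (h2 : t * t = 1) :
    ∃ g ∈ M, t = 1 ∨ g * t * g⁻¹ = φ z0 ∨ g * t * g⁻¹ = φ u0 ∨ g * t * g⁻¹ = φ a0 := by
  have : Fact (Nat.Prime 2) := ⟨Nat.prime_two⟩
  obtain ⟨T, hT, h1, -⟩ := hφ.sylow
  obtain ⟨g, hg, h⟩ := (hT.mono (h1.trans hM) le_top).exists_cj_le (Q := zpowers t) (fun x => ⟨1, by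
    obtain ⟨_, n, rfl⟩ := x
    exact Subtype.ext (by change (t ^ n) ^ 2 ^ 1 = 1; rw [pow_one, ← zpow_natCast, ← zpow_mul, mul_comm, zpow_mul]; simp [sq, h2])⟩)
    (zpowers_le.2 ht)
  obtain ⟨k, hk⟩ := h1 (cj_le_iff.1 h t (mem_zpowers t))
  have hk2 : k * k = 1 := hφ.inj (by rw [map_mul, hk, conj_mul, h2]; simp)
  rcases inv_cls k hk2 with rfl | rfl | ⟨c, rfl | rfl⟩
  · exact ⟨1, one_mem _, .inl (by simpa using hk.symm)⟩
  · exact ⟨g, hg, .inr (.inl hk.symm)⟩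
  · exact ⟨(φ c)⁻¹ * g, mul_mem (inv_mem (hM ⟨c, rfl⟩)) hg, .inr (.inr (.inl (by
      rw [mul_inv_rev, ← mul_assoc, mul_assoc _ g, mul_assoc _ (g * t), ← hk]; simp [mul_assoc])))⟩
  · exact ⟨(φ c)⁻¹ * g, mul_mem (inv_mem (hM ⟨c, rfl⟩)) hg, .inr (.inr (.inr (by
      rw [mul_inv_rev, ← mul_assoc, mul_assoc _ g, mul_assoc _ (g * t), ← hk]; simp [mul_assoc])))⟩

theorem JT.z_mem (hφ : JT φ) (N : Subgroup G) [hN : N.Normal] (h : N ≠ ⊥) : φ z0 ∈ N := by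
  have h1 : ∀ n ∈ N, n ≠ 1 → n * φ z0 = φ z0 * n → φ z0 ∈ N := fun n hn n1 e => by
    obtain ⟨k, rfl⟩ := hφ.mem e
    have hk : k ∈ N.comap φ := hn
    have hc : ∀ k ∈ N.comap φ, ∀ c, k * (c * k⁻¹ * c⁻¹) ∈ N.comap φ := fun k hk c =>
      mul_mem hk ((hN.comap φ).conj_mem _ (inv_mem hk) c)
    have hq : ∀ t ∈ Q0 false, k * t = t * k ∨ φ z0 ∈ N := fun t ht => by
      have h1 := hc k hk t
      have h2 : k * (t * k⁻¹ * t⁻¹) ∈ Q0 false := by
        simpa only [mul_assoc] using mul_mem ((Q0_normal _).conj_mem t ht k) (inv_mem ht)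
      generalize e : k * (t * k⁻¹ * t⁻¹) = l at h1 h2
      obtain ⟨q, p⟩ := l
      obtain rfl : p = 0 := h2
      rcases ncl_q q with e1 | e1 | ⟨d, -, e1⟩
      · left; rw [e1] at e; rw [← mul_inv_eq_one, ← e]; group
      · exact .inr (e1 ▸ h1 :)
      · exact .inr (e1 ▸ hc _ h1 d :)
    by_contra hz
    rcases cent_Q k ((hq _ rfl).resolve_right hz) ((hq _ rfl).resolve_right hz) ((hq _ rfl).resolve_right hz)
      ((hq _ rfl).resolve_right hz) with rfl | rfl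
    exacts [n1 φ.map_one, hz hn]
  by_contra hz
  have h2 : ∀ t : HH false, IsConj (φ z0) (φ t) → ∀ n ∈ N, φ t * n * (φ t)⁻¹ = n⁻¹ := fun t ht n hn => by
    obtain ⟨g, hg⟩ := isConj_iff.1 ht
    have t2 : φ t * φ t = 1 := by rw [← hg, conj_mul, ← map_mul, show (z0 * z0 : HH false) = 1 by decide +kernel]; simp
    have hf : MonoidHom.FixedPointFree (MulAut.conjNormal (H := N) (φ t)) := fun x hx => by
      by_contra x1
      have e : φ t * x * (φ t)⁻¹ = x := congrArg Subtype.val hx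
      refine hz (h1 (g⁻¹ * x * g⁻¹⁻¹) (hN.conj_mem _ x.2 _) (fun e => x1 (Subtype.ext (conj_eq_one_iff.1 e))) ?_)
      rw [mul_inv_eq_iff_eq_mul, ← hg] at e
      calc _ = g⁻¹ * (x * (g * φ z0 * g⁻¹)) * g := by group
        _ = _ := by rw [← e]; group
    have := congrFun (hf.coe_eq_inv_of_involutive fun x => Subtype.ext (by
      change φ t * (φ t * x * (φ t)⁻¹) * (φ t)⁻¹ = x
      rw [← mul_assoc, ← mul_assoc, t2, mul_assoc, ← mul_inv_rev, t2]; simp)) ⟨n, hn⟩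
    exact congrArg Subtype.val this
  obtain ⟨⟨n, hn⟩, n1⟩ := ne_bot_iff_exists_ne_one.1 h
  have e1 := h2 z0 (IsConj.refl _) n hn
  have e2 := h2 u0 hφ.fus n hn
  have e3 := h2 (z0 * u0) (hφ.fus.trans (Cj.of (l := z0 * u0) s0 (by decide +kernel)).isConj) n hn
  rw [map_mul, mul_inv_rev, ← mul_assoc, mul_assoc (φ z0), mul_assoc (φ z0), e2, ← conj_inv, e1, inv_inv] at e3
  exact hz (h1 n hn (fun e => n1 (Subtype.ext e)) (by rw [← e3, mul_inv_eq_iff_eq_mul] at e1; exact e1.symm))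

theorem JT.simple (hφ : JT φ) : IsSimpleGroup G := by
  have : Fact (Nat.Prime 2) := ⟨Nat.prime_two⟩
  have : Nontrivial G := ⟨_, _, hφ.z_ne⟩
  refine ⟨fun N hN => or_iff_not_imp_left.2 fun h => ?_⟩
  have hz := hφ.z_mem N h
  obtain ⟨g, g1, g2⟩ := hφ.swap_u
  have hu : u0 ∈ N.comap φ := show φ u0 ∈ N from g1 ▸ hN.conj_mem _ hz g
  rcases normal_HH _ hu with e | e
  · obtain ⟨l, hl⟩ := hφ.ex (k := p0 * q0) g2 (by decide +kernel)
    have h1 : p0 * q0 ∈ N.comap φ := e ▸ (by decide +kernel)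
    have h2 : l ∈ N.comap φ := show φ l ∈ N from hl ▸ hN.conj_mem _ h1 g
    exact absurd ((hl.mul hl).uniq hφ (g1.cast (by decide +kernel) rfl)) (sq_Q l (e.le h2))
  · have hH : φ.range ≤ N := by rintro _ ⟨k, rfl⟩; exact (e.ge (mem_top k) :)
    obtain ⟨T, hT, h1, -, h2⟩ := hφ.sylow
    refine eq_top_iff.2 fun x _ => ?_
    obtain ⟨n, hn, m, hm, rfl⟩ := (hT.mono (h1.trans hH) le_top).frattini (H := ⊤) (normalizer_eq_top N).ge (mem_top x)
    exact mul_mem hn (hH (hφ.mem' (h2 m hm)))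

theorem JT.eq_top (hφ : JT φ) {M : Subgroup G} (hM : φ.range ≤ M) (hu : ∃ g ∈ M, Cj φ g u0 z0)
    (ha : IsConj (φ z0) (φ a0) → ∃ g ∈ M, Cj φ g a0 z0) : M = ⊤ := by
  have : Fact (Nat.Prime 2) := ⟨Nat.prime_two⟩
  have := hφ.simple
  by_contra hne
  obtain ⟨T, hT, h1, h2, h3⟩ := hφ.sylow
  obtain ⟨P, rfl⟩ := hT.exists_sylow_top
  have hz2 : φ z0 * φ z0 = 1 := by rw [← sq, ← hφ.oz, pow_orderOf_eq_one]
  have key : ∀ g : G, g * φ z0 * g⁻¹ ∈ M → g ∈ M := fun g hg => by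
    have fin : ∀ h ∈ M, h * (g * φ z0 * g⁻¹) * h⁻¹ = φ z0 → g ∈ M := fun h hh e =>
      (mul_mem_cancel_left hh).1 (hM (hφ.mem' (Eq.trans (by group) e)))
    have fin' : ∀ t, (∃ g ∈ M, Cj φ g t z0) → ∀ h ∈ M, h * (g * φ z0 * g⁻¹) * h⁻¹ = φ t → g ∈ M := fun t ⟨c, hc, e1⟩ h hh e =>
      fin (c * h) (mul_mem hc hh) (Eq.trans (by rw [← e]; group) e1)
    obtain ⟨h, hh, e | e | e | e⟩ := hφ.inv_into hM hg (by rw [conj_mul, hz2]; simp)
    · exact absurd (by simpa using e) hφ.z_ne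
    · exact fin h hh e
    · exact fin' _ hu h hh e
    · exact fin' _ (ha (isConj_iff.2 ⟨h * g, by rw [← e]; group⟩)) h hh e
  obtain ⟨H, hH⟩ := Cfsg.Agent.S1175.result M hne (φ z0) hφ.oz (hM ⟨_, rfl⟩)
    ⟨P, h2, fun s hs => by obtain ⟨k, rfl⟩ := h1 hs; exact (Cj.of k (z0_comm k)).comm⟩ key fun g hc hn => by
      obtain ⟨k, hk⟩ := hφ.mem hc.symm
      have hk' : Cj φ g z0 k := hk.symm
      have : IsConj (φ z0) (φ (z0 * k)) := by
        rcases inv_cls k ((hk'.mul hk').uniq hφ ((Cj.one _).cast (by decide +kernel) rfl)) with rfl | rfl | ⟨c, rfl | rfl⟩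
        · exact absurd (hk'.inj hφ (Cj.one _)) (by decide +kernel)
        · exact absurd hk' hn
        · exact hφ.fus.trans (((Cj.of (l := z0 * u0) s0 (by decide +kernel)).comp
            ((Cj.of c (z0_comm c)).mul (Cj.self c u0))).isConj)
        · obtain ⟨d, hd⟩ := za_conj
          exact (hk'.comp (Cj.self c a0).symm).isConj.trans ((((Cj.self d a0).cast rfl hd.symm).comp
            ((Cj.of c (z0_comm c)).mul (Cj.self c a0))).isConj)
      obtain ⟨h, hh⟩ := isConj_iff.1 this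
      have hM' : h ∈ M := key h (hh ▸ hM ⟨_, rfl⟩)
      intro x hx
      rw [mem_centralizer_singleton_iff, ← hk, ← map_mul, ← hh] at hx
      have : h⁻¹ * x * h ∈ M := hM (hφ.mem (by
        calc _ = h⁻¹ * (x * (h * φ z0 * h⁻¹)) * h := by group
          _ = _ := by rw [hx]; group))
      exact (mul_mem_cancel_left (inv_mem hM')).1 ((mul_mem_cancel_right hM').1 this)
  obtain ⟨g, hg, e⟩ := SCl.se_moves (fun h => absurd (hφ.inj (by rw [map_mul, map_mul]; exact h.1.1 _ _) : (u0 * p0 : HH false) = p0 * u0)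
    (by decide +kernel)) (Amalg.syl_top P) hH h2 hφ.oz
  exact e (h3 g hg)

end Cfsg.Lib.JT
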