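import Cfsg.Agent.Lib.JT.Sy2
import Cfsg.Agent.Lib.Block.ScnA
import Cfsg.Agent.Lib.Block.IsoElt
import Cfsg.Agent.Lib.Fus2.Model

/-! # A core-free group with Sylow `2`-subgroups of type `J₂` and a central involution -/

set_option autoImplicit false
set_option maxRecDepth 100000
set_option synthInstance.maxSize 4000
set_option linter.unusedSectionVars false

namespace Cfsg.Lib.JT.Sy

open Subgroup Cfsg.Lib.JT Cfsg.Lib.Amalg Cfsg.Lib.Block.Scn Cfsg.Lib.Gsm Cfsg.Lib.Core Equiv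
open Cfsg.Lib.Wal (CB)
open Cfsg.Lib.GW (exists_two_odd Two Two.map Two.eq_one)

universe w

attribute [-instance] eqF

def τ1 : Perm (Fin 5) := swap 1 4 * swap 2 3
def τ2 : Perm (Fin 5) := swap 1 2 * swap 3 4
theorem p5a : ∀ τ : Perm (Fin 5), τ 1 = 0 → (∃ x ∈ [τ1, τ2, τ1 * τ2], (τ1 * (τ * x * τ⁻¹)) ^ 5 = 1 ∧ τ1 * (τ * x * τ⁻¹) ≠ 1) ∧
    ∃ x ∈ [τ1, τ2, τ1 * τ2], (τ1 * (τ * x * τ⁻¹)) ^ 3 = 1 ∧ τ1 * (τ * x * τ⁻¹) ≠ 1 := by decide +kernel
theorem a_act : ∀ i, a * U i * a⁻¹ = U (τ1 i) := by decide +kernel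
theorem a'_act : ∀ i, a' * U i * a'⁻¹ = U (τ2 i) := by decide +kernel
theorem five_fpf : ∀ c, W (u5 * (g5 * u5 * g5⁻¹)).1 c = W id c ∨ W (u5 * (g5 * u5 * g5⁻¹)).1 c = W id c * z → W id c = 1 := by
  decide +kernel

theorem range_A5 {Γ : Subgroup (Perm (Fin 5))} (h1 : τ1 ∈ Γ) (h2 : τ2 ∈ Γ) {τ : Perm (Fin 5)} (h3 : τ ∈ Γ) (h4 : τ 1 = 0)
    (h5 : Γ ≠ ⊤) : Γ = alternatingGroup (Fin 5) := by
  have : Fact (Nat.Prime 3) := ⟨by norm_num⟩
  have : Fact (Nat.Prime 5) := ⟨by norm_num⟩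
  have m : ∀ x ∈ [τ1, τ2, τ1 * τ2], τ1 * (τ * x * τ⁻¹) ∈ Γ := fun x hx => mul_mem h1 (mul_mem (mul_mem h3 (by
    simp only [List.mem_cons, List.not_mem_nil, or_false] at hx
    rcases hx with rfl | rfl | rfl
    exacts [h1, h2, mul_mem h1 h2])) (inv_mem h3))
  obtain ⟨⟨x, x1, x2, x3⟩, y, y1, y2, y3⟩ := p5a τ h4
  have d5 := orderOf_eq_prime x2 x3 ▸ Γ.orderOf_dvd_natCard (m x x1)
  have d3 := orderOf_eq_prime y2 y3 ▸ Γ.orderOf_dvd_natCard (m y y1)
  have d4 : 4 ∣ Nat.card Γ := by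
    let K : Subgroup (Perm (Fin 5)) :=
      { carrier := {x | x ∈ ({1, τ1, τ2, τ1 * τ2} : Finset (Perm (Fin 5)))}
        mul_mem' := fun {a b} ha hb => (show ∀ a ∈ ({1, τ1, τ2, τ1 * τ2} : Finset (Perm (Fin 5))),
          ∀ b ∈ ({1, τ1, τ2, τ1 * τ2} : Finset (Perm (Fin 5))), a * b ∈ ({1, τ1, τ2, τ1 * τ2} : Finset (Perm (Fin 5))) by
            decide +kernel) a ha b hb
        one_mem' := show (1 : Perm (Fin 5)) ∈ ({1, τ1, τ2, τ1 * τ2} : Finset (Perm (Fin 5))) from Finset.mem_insert_self _ _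
        inv_mem' := fun {a} ha => (show ∀ a ∈ ({1, τ1, τ2, τ1 * τ2} : Finset (Perm (Fin 5))),
          a⁻¹ ∈ ({1, τ1, τ2, τ1 * τ2} : Finset (Perm (Fin 5))) by decide +kernel) a ha }
    have e : Nat.card K = 4 := (Nat.subtype_card ({1, τ1, τ2, τ1 * τ2} : Finset (Perm (Fin 5))) fun _ => Iff.rfl).trans (by decide +kernel)
    refine e ▸ card_dvd_of_le (show K ≤ Γ from fun x hx => ?_)
    have hx : x ∈ ({1, τ1, τ2, τ1 * τ2} : Finset (Perm (Fin 5))) := hx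
    simp only [Finset.mem_insert, Finset.mem_singleton] at hx
    rcases hx with rfl | rfl | rfl | rfl
    exacts [one_mem _, h1, h2, mul_mem h1 h2]
  refine Perm.eq_alternatingGroup_of_index_eq_two ?_
  have e := Γ.card_mul_index
  have e1 := one_lt_index_of_ne_top h5
  rw [Nat.card_perm, Nat.card_eq_fintype_card (α := Fin 5), Fintype.card_fin] at e
  obtain ⟨n, hn⟩ : 60 ∣ Nat.card Γ := by omega
  rw [hn] at e
  norm_num [Nat.factorial] at e
  have : n * Γ.index = 2 := by nlinarith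
  have := Nat.le_of_dvd (by norm_num) (Dvd.intro_left n this)
  omega

variable {X : Type w} [Group X] [Finite X] {ψ : TT →* X} (s : St ψ)
include s

theorem St.oz : orderOf (ψ z) = 2 :=
  have : Fact (Nat.Prime 2) := ⟨Nat.prime_two⟩
  (orderOf_injective ψ s.inj z).trans (orderOf_eq_prime (by decide +kernel) (by decide +kernel))

theorem St.nz : (zpowers (ψ z)).Normal := ⟨by
  rintro _ ⟨n, rfl⟩ g
  exact ⟨n, by rw [← conj_zpow, show g * ψ z * g⁻¹ = ψ z from s.cen g]⟩⟩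

set_option maxHeartbeats 1600000 in
theorem St.main (hO : pPrimeCore 2 X = ⊥) : Nonempty (X ≃* HH false) := by
  have : Fact (Nat.Prime 2) := ⟨Nat.prime_two⟩
  have hi := s.inj
  have := s.nz
  let π := QuotientGroup.mk' (zpowers (ψ z))
  have πs : Function.Surjective π := QuotientGroup.mk'_surjective _
  let χ := π.comp ψ
  have zz : ψ z * ψ z = 1 := by rw [← map_mul, show z * z = 1 by decide +kernel, map_one]
  have πe : ∀ x y, π x = π y ↔ x = y ∨ x = y * ψ z := fun x y => by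
    rw [eq_comm, QuotientGroup.mk'_eq_mk']
    constructor
    · rintro ⟨t, ht, rfl⟩
      rcases (Known2.mem_zpowers_invol zz).1 ht with rfl | rfl <;> simp
    · rintro (rfl | rfl)
      exacts [⟨1, one_mem _, mul_one _⟩, ⟨_, mem_zpowers _, rfl⟩]
  have χe : ∀ k l, χ k = χ l ↔ k = l ∨ k = l * z := fun k l => by
    change π (ψ k) = π (ψ l) ↔ _
    rw [πe, ← map_mul, hi.eq_iff, hi.eq_iff]
  have χz : χ z = 1 := (χe z 1).2 (.inr (one_mul z).symm) |>.trans χ.map_one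
  have lift : ∀ g k l, π g * χ k * (π g)⁻¹ = χ l → C ψ g k l ∨ C ψ g k (l * z) := fun g k l e => by
    have : π (g * ψ k * g⁻¹) = π (ψ l) := by rw [map_mul, map_mul, map_inv]; exact e
    rwa [πe, ← map_mul] at this
  have down : ∀ {g k l}, C ψ g k l → π g * χ k * (π g)⁻¹ = χ l := fun {g k l} e => by
    have := congrArg π e
    rwa [map_mul, map_mul, map_inv] at this
  have zQ : z ∈ Q := by decide +kernel
  have hS : Syl 2 χ.range ⊤ := by
    rw [MonoidHom.range_comp]; exact s.syl.map_top πs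
  let B := Q.map χ
  have Bsq : ∀ x ∈ B, x * x = 1 := by
    rintro _ ⟨k, hk, rfl⟩
    rw [← map_mul]
    rcases Q_sq k hk with e | e <;> rw [e]
    exacts [χ.map_one, χz]
  have c : SA B := sa_of_closed hS Bsq ⟨map_le_range _ _, by
    rintro _ ⟨k, hk, rfl⟩ g ⟨l, hl⟩
    obtain ⟨g, rfl⟩ := πs g
    rcases lift g k l hl.symm with e | e
    · exact ⟨l, s.closed hk e, hl⟩
    · exact ⟨l, (Q.mul_mem_cancel_right zQ).1 (s.closed hk e), hl⟩⟩
  have UQ : ∀ i, U i ∈ Q := by decide +kernel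
  have ex : ∀ (g : 𝐍 B) i, ∃ j, (g : X ⧸ zpowers (ψ z)) * χ (U i) * (g : X ⧸ zpowers (ψ z))⁻¹ = χ (U j) := fun ⟨g, hg⟩ i => by
    obtain ⟨g, rfl⟩ := πs g
    obtain ⟨l, l1, l2⟩ := GW.conj_mem_norm hg (mem_map_of_mem χ (UQ i))
    obtain ⟨l, l1, l2⟩ : ∃ l ∈ Q, C ψ g (U i) l := (lift g _ l l2.symm).elim (fun e => ⟨l, l1, e⟩) fun e => ⟨_, mul_mem l1 zQ, e⟩
    have n := (show ∀ i, U i * U i = 1 ∧ U i ≠ 1 ∧ U i ≠ z by decide +kernel) i
    rcases F9 l l1 ((l2.sq hi).2 n.1) with rfl | rfl | ⟨j, rfl | rfl⟩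
    exacts [absurd (l2.un' hi (C.one g)) n.2.1, absurd (l2.un' hi (s.cen g)) n.2.2, ⟨j, down l2⟩,
      ⟨j, by rw [down l2, map_mul, χz, mul_one]⟩]
  have un : ∀ {i j}, χ (U i) = χ (U j) → i = j := fun e => F10 _ _ ((χe _ _).1 e)
  choose f hf using ex
  let act : MulAction (𝐍 B) (Fin 5) :=
    { smul := f
      one_smul := fun i => un (by change χ (U (f 1 i)) = _; rw [← hf]; simp)
      mul_smul := fun g g' i => un (by
        change χ (U (f (g * g') i)) = χ (U (f g (f g' i)))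
        rw [← hf, ← hf, ← hf, coe_mul]; group) }
  let σ := MulAction.toPermHom (𝐍 B) (Fin 5)
  have σP : ∀ (g : 𝐍 B) i, (g : X ⧸ zpowers (ψ z)) * χ (U i) * (g : X ⧸ zpowers (ψ z))⁻¹ = χ (U (σ g i)) := hf
  have kerσ : ∀ g : 𝐍 B, σ g = 1 ↔ (g : X ⧸ zpowers (ψ z)) ∈ 𝐂 B := fun g => by
    constructor
    · rintro e _ ⟨k, hk, rfl⟩
      refine mem_centralizer_singleton_iff.1 (Q_le (M := (centralizer {(g : X ⧸ zpowers (ψ z))}).comap χ) ?_ (fun i => ?_) hk)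
      · rw [mem_comap, χz]; exact one_mem _
      · have := σP g i
        rw [e, mul_inv_eq_iff_eq_mul] at this
        exact mem_centralizer_singleton_iff.2 this.symm
    · exact fun e => Equiv.ext fun i => un (by rw [← σP, ← e _ (mem_map_of_mem χ (UQ i)), mul_inv_cancel_right]; rfl)
  have TN : χ.range ≤ 𝐍 B := c.le_norm hS.isPGroup (map_le_range _ _)
  have σT : ∀ (k : TT) (τ : Perm (Fin 5)), (∀ i, k * U i * k⁻¹ = U (τ i)) → σ ⟨χ k, TN ⟨k, rfl⟩⟩ = τ := fun k τ e =>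
    Equiv.ext fun i => un (by rw [← σP, ← e]; simp)
  have rσ : σ.range = alternatingGroup (Fin 5) := by
    obtain ⟨g, hg⟩ := s.fus
    obtain ⟨n, -, n1, n2⟩ := c.ctrl1 le_top (mem_top (π g)) (mem_map_of_mem χ (UQ 1)) (by
      rw [show U 1 = p from rfl, down hg]; exact mem_map_of_mem χ (UQ 0))
    refine range_A5 ⟨_, σT a τ1 a_act⟩ ⟨_, σT a' τ2 a'_act⟩ ⟨⟨n, n1⟩, rfl⟩ (un (by
      rw [← σP, n2, show U 1 = p from rfl, down hg]; rfl)) fun e => ?_
    have h1 := ((hS.of_le TN le_top).subgroupOf_top.map σ)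
    rw [← MonoidHom.range_eq_map, e] at h1
    obtain ⟨m, -, hm⟩ := h1.exists_conj_le (P := zpowers (swap 1 2 * swap 2 3 * swap 3 4))
      (isPGroup_zpowers_of_pow (k := 2) (by decide +kernel)) le_top
    obtain ⟨⟨_, y⟩, ⟨k, rfl⟩, hk⟩ := hm (conj_mem_cj m (mem_zpowers _))
    have h2 : σ (⟨χ k, y⟩ * ⟨χ k, y⟩) = 1 := (kerσ _).2 (c.A_cent le_rfl ⟨k * k, sq_Q k, map_mul χ k k⟩)
    rw [map_mul, hk, conj_mul, conj_eq_one_iff] at h2
    exact absurd h2 (by decide +kernel)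
  let φ : 𝐍 B →* A5 := σ.codRestrict (alternatingGroup (Fin 5)) fun g => rσ.le ⟨g, rfl⟩
  have φs : Function.Surjective φ := fun x => by
    obtain ⟨g, hg⟩ := rσ.ge x.2
    exact ⟨g, Subtype.ext hg⟩
  have kerφ : ∀ g : 𝐍 B, φ g = 1 ↔ (g : X ⧸ zpowers (ψ z)) ∈ 𝐂 B := fun g => by rw [← kerσ, Subtype.ext_iff]; rfl
  have hn : (B ⊔ pPrimeCore 2 _).Normal := normal_of_no_cm c fun K h => by
    obtain ⟨V, t, tv⟩ := c.exists_tv h
    have h1 : (K.subgroupOf 𝐍 B).map φ = ⊤ := by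
      refine (((subnormalIn_top_iff.1 h.pc.sn).subgroupOf.map φs).eq_bot_or_top_of_isSimpleGroup inferInstance).resolve_left
        fun e => ?_
      have t1 := (kerφ _).1 ((Subgroup.map_eq_bot_iff _).1 e (show (⟨t, tv.nA⟩ : 𝐍 B) ∈ K.subgroupOf _ from tv.mem))
      obtain ⟨v, v1, w, w1, v2, w2, e⟩ := tv.nc
      obtain ⟨i, hi⟩ := tv.tr v v1 v2 w w1 w2
      have : Commute t v := (t1 v (tv.le v1)).symm
      exact e (by rw [← hi, (this.pow_left i).eq, mul_inv_cancel_right])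
    obtain ⟨d, d1, d2⟩ := h1.ge (mem_top (u5 * (g5 * u5 * g5⁻¹)))
    have h2 : ∀ x ∈ B, x ∈ CB K → x = 1 := by
      rintro _ ⟨k, hk, rfl⟩ h1
      have e := c.fix h d1 d.2 (mem_map_of_mem χ hk) h1
      obtain ⟨c0, hc⟩ := Q_W k hk
      have e1 : χ k = χ (W id c0) := (χe _ _).2 hc
      have e2 : ∀ (c : Bool) i, (d : X ⧸ zpowers (ψ z)) * χ (pw c (U i)) * (d : X ⧸ zpowers (ψ z))⁻¹ =
          χ (pw c (U ((u5 * (g5 * u5 * g5⁻¹)).1 i))) := fun c i => by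
        cases c
        · simp [pw]
        · rw [← d2]; exact σP d i
      rw [e1, five_fpf c0 ((χe _ _).1 ?_), map_one]
      rw [← e1, ← e, e1]
      simp only [W, map_mul, ← e2, id, coe_subtype]
      group
    obtain ⟨y, y1, y2⟩ := h1.ge (mem_top u5)
    obtain ⟨r, r1, o, o1, r2, o2, e⟩ := exists_two_odd y
    have o3 : φ o = 1 := by
      obtain ⟨i, rfl⟩ := o1
      refine Two.eq_one ⟨1, ?_⟩ (o2.of_dvd_nat (orderOf_map_dvd φ _))
      rw [map_zpow, y2, pow_one, ← zpow_natCast, ← zpow_mul, mul_comm, zpow_mul, zpow_natCast, pow_two, a5_five.2.2.1, one_zpow]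
    refine a5_five.2.2.2 ?_
    rw [← y2, e, map_mul, o3, mul_one]
    refine (kerφ _).2 fun x hx => ?_
    have := h2 _ (mul_mem (GW.conj_mem_norm r.2 hx) (inv_mem hx))
      (c.two_cent h (zpowers_le.2 y1 r1) r.2 (r2.map (𝐍 B).subtype) x hx)
    exact (mul_inv_eq_iff_eq_mul.1 (mul_inv_eq_one.1 this)).symm
  have hO' : pPrimeCore 2 (X ⧸ zpowers (ψ z)) = ⊥ := Block.oddCore_quotient_eq_bot hO s.oz
  rw [hO', sup_bot_eq] at hn
  have hC : 𝐂 B ≤ B := Fus2.centralizer_le_of_pPrimeCore_eq_bot hS hO' (by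
    rintro _ ⟨⟨k, rfl⟩, hk⟩
    refine mem_map_of_mem χ (cent_Q k fun i => (χe _ _).1 ?_)
    rw [map_mul, map_mul, map_inv, ← hk _ (mem_map_of_mem χ (UQ i)), mul_inv_cancel_right])
  have eQ : B.comap π = Q.map ψ := by
    rw [show B = (Q.map ψ).map π from (map_map _ _ _).symm, comap_map_eq, QuotientGroup.ker_mk', sup_eq_left]
    exact zpowers_le.2 (mem_map_of_mem ψ zQ)
  have nQ : (Q.map ψ).Normal := eQ ▸ hn.comap π
  have top : ∀ y, y ∈ 𝐍 B := fun y => (normalizer_eq_top_iff.2 hn).ge (mem_top y)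
  let Φ : X →* A5 := φ.comp (π.codRestrict _ fun g => top _)
  have Φs : Function.Surjective Φ := fun x => by
    obtain ⟨⟨g, hg⟩, rfl⟩ := φs x
    obtain ⟨g, rfl⟩ := πs g
    exact ⟨g, rfl⟩
  have Φk : Φ.ker = Q.map ψ := by
    rw [← eQ]; ext g
    exact (kerφ ⟨π g, top _⟩).trans ⟨fun h => hC h, fun h => c.A_cent le_rfl h⟩
  have e := (QuotientGroup.quotientMulEquivOfEq Φk.symm).trans (QuotientGroup.quotientKerEquivOfSurjective Φ Φs)
  obtain ⟨_ | _, θ, θ1, θ2, θ3⟩ := ident_core (Q := Q.map ψ) (z := ψ z) (J2.es_of (mem_map_of_mem ψ zQ)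
    (fun e => absurd (hi (e.trans ψ.map_one.symm)) (by decide +kernel)) zz
    (fun x _ => mul_inv_eq_iff_eq_mul.1 (s.cen x)) (by
      rintro _ ⟨k, hk, rfl⟩ e
      have : ∀ i, k * U i = U i * k := fun i => hi (by simpa using e _ (mem_map_of_mem ψ (UQ i)))
      rcases (show ∀ k : TT, k ∈ Q → (∀ i, k * U i = U i * k) → k = 1 ∨ k = z by decide +kernel) k hk this with rfl | rfl <;> simp)
    (by
      rintro _ ⟨k, hk, rfl⟩
      rcases Q_sq k hk with e | e <;> simp [← map_mul, e])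
    ⟨_, mem_map_of_mem ψ (UQ 0), _, mem_map_of_mem ψ (UQ 1), fun e => absurd (hi (by simpa using e : ψ (U 0 * U 1) = ψ (U 1 * U 0)))
      (by decide +kernel)⟩) (fun g => mul_inv_eq_iff_eq_mul.1 (s.cen g)) (by rw [card_map_of_injective hi, card_Q])
    (fun g hg => eQ.le (hC (by
      rintro _ ⟨k, hk, rfl⟩
      exact (congrArg π (hg _ (mem_map_of_mem ψ hk))).symm))) e.isSimpleGroup ((Nat.card_congr e.toEquiv).trans card_a5)
  · exact ⟨(MulEquiv.ofBijective θ θ1).symm⟩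
  · obtain ⟨k, hk⟩ := θ1.2 (ψ a)
    obtain ⟨l, l1, l2⟩ := θ3.le ⟨k, inv_true k (θ1.1 (by
      rw [map_mul, hk, ← map_mul, show a * a = 1 by decide +kernel, map_one, map_one])), hk⟩
    exact absurd (hi l2 ▸ l1 : a ∈ Q) (by decide +kernel)

end Cfsg.Lib.JT.Sy
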