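import Cfsg.Agent.Lib.JT.So1
import Cfsg.Agent.Lib.JT.So2
import Cfsg.Agent.Lib.JT.Sy3
import Cfsg.Agent.Lib.Glaub.Fac

/-! Sylow `2`-subgroups of type `J₂`: finite facts, local structure, fusion. -/

set_option autoImplicit false
set_option linter.unusedSectionVars false
set_option maxRecDepth 100000
set_option synthInstance.maxSize 4000

namespace Cfsg.Lib.JT.So
open Subgroup Cfsg.Lib.Core Cfsg.Lib.BG1 Cfsg.Lib.Layer Cfsg.Lib.SigC Cfsg.Lib.Push.ZC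
open Cfsg.Lib.Amalg hiding le_cent_symm op_top
open Cfsg.Lib.JT.Sy hiding W cent_Q

def A' : Subgroup TT := centralizer {p * a * p⁻¹}
def UU : Subgroup TT := centralizer {u}
theorem mem_A' {x : TT} : x ∈ A' ↔ x * (p * a * p⁻¹) = (p * a * p⁻¹) * x := mem_centralizer_singleton_iff
theorem mem_UU {x : TT} : x ∈ UU ↔ x * u = u * x := mem_centralizer_singleton_iff
instance (x : TT) : Decidable (x ∈ A') := decidable_of_iff _ mem_A'.symm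
instance (x : TT) : Decidable (x ∈ UU) := decidable_of_iff _ mem_UU.symm

theorem G1 : ∀ k : TT, k ∈ Q → k * k = 1 → ∀ l : TT, l ∈ Q → l * l = 1 → k * l = l * k → ∀ m : TT, m ∈ Q → m * m = 1 →
    k * m = m * k → l * m = m * l → k = 1 ∨ l = 1 ∨ m = 1 ∨ k = l ∨ k = m ∨ l = m ∨ k * l = m := by decide +kernel
theorem G2 : ∀ l : TT, l * l * (l * l) = 1 → inV (l * l) := by decide +kernel
theorem G3 : ∀ y : TT, y ∈ A → ¬ inV y → y ∉ Q ∧ ∀ k : TT, k * y = y * k → k ∈ A := by decide +kernel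
theorem G4 : ∀ k : TT, inV k → k ∈ A ∧ ∀ l : TT, l ∈ UU → l * k = k * l := by decide +kernel
theorem G5 : ∀ k : TT, inV k → ∀ l : TT, inV l → inV (k * l) := by decide +kernel
theorem A'_sq : ∀ k : TT, k ∈ A' → k * k = 1 := by decide +kernel
theorem G6 : ∀ k : TT, k ∈ A → ∀ l : TT, l ∈ A' → k * l * (k * l) ∈ A ∧ k * l * (k * l) ∈ A' ∧ (k * l = l * k → k ∈ A' ∨ l ∈ A) := by
  decide +kernel
theorem G7 : ∀ k : TT, k ∈ UU → ∃ l : TT, l ∈ A ∧ l⁻¹ * k ∈ A' := by decide +kernel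
theorem G8 : ∀ k : TT, k ∈ UU → ∃ l : TT, l ∈ UU ∧ (l * l = z ∨ l * l = u) ∧ (l⁻¹ * k * (l⁻¹ * k) = z ∨ l⁻¹ * k * (l⁻¹ * k) = u) := by
  decide +kernel
theorem G9 : ∀ k : TT, k * k = z → k ∈ UU → ∃ s ∈ [p * a, p * a', p * a * a'], ∃ t : TT, k = s * s * (t * t) := by decide +kernel
theorem G10 : ∀ k : TT, k ∉ UU → ∀ l : TT, l ∉ UU → k⁻¹ * l ∈ UU := by decide +kernel
theorem G11 : ∀ y : TT, y ∈ A → ¬ inV y → ∀ k : TT, k ∈ A → ∀ l : TT, l ∈ A → (inV k ↔ inV l) → (inV (k * y) ↔ inV (l * y)) →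
    inV (k * l) ∨ inV (k * l * y) := by decide +kernel
theorem G12 : ∀ y : TT, y ∈ A → ∃ w ∈ [a, a'], ∀ v ∈ [1, z, u, u * z], w ≠ v ∧ w ≠ y * v := by decide +kernel
theorem A_UU : ∀ k : TT, (k ∈ A → k ∈ UU ∧ p * k * p⁻¹ ∈ A') ∧ (k ∈ A' → k ∈ UU ∧ p⁻¹ * k * p ∈ A) ∧ (k ∈ A ∧ k ∈ A' ↔ inV k) := by
  decide +kernel
theorem U_cj : ∀ i, ∃ s ∈ [1, a, a', a * a'], s * U i * s⁻¹ = u ∨ s * U i * s⁻¹ = p := by decide +kernel

end Cfsg.Lib.JT.So
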