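import Cfsg.Agent.Lib.JT.So3

/-! Sylow `2`-subgroups of type `J₂`: local structure and fusion. -/

set_option autoImplicit false
set_option linter.unusedSectionVars false
set_option maxRecDepth 100000
set_option synthInstance.maxSize 4000

namespace Cfsg.Lib.JT.So
open Subgroup Cfsg.Lib.Core Cfsg.Lib.BG1 Cfsg.Lib.Layer Cfsg.Lib.SigC Cfsg.Lib.Push.ZC
open Cfsg.Lib.Amalg hiding le_cent_symm op_top
open Cfsg.Lib.JT.Sy hiding W cent_Q

variable {G : Type*} [Group G] [Finite G] {ψ : TT →* G} {N R Y : Subgroup G} {g h n : G} {k l v y : TT}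

theorem charP_HH {X : Type*} [Group X] [Finite X] (f : X ≃* HH false) :
    centralizer (pCore 2 X : Set X) ≤ pCore 2 X := by
  have h1 : (Q0 false).comap f.toMonoidHom ≤ pCore 2 X := by
    rw [← Amalg.op_top]
    exact le_op le_top le_normalizer_of_normal' ((IsPGroup.of_card (n := 5) (card_Q0 _)).comap_of_injective _ f.injective)
  intro x hx
  have : ∀ t ∈ Q0 false, f x * t = t * f x := fun t ht => by
    obtain ⟨s, rfl⟩ := f.surjective t
    rw [← map_mul, ← hx s (h1 ht), map_mul]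
  refine h1 (show f x ∈ Q0 false from ?_)
  rcases JT.cent_Q _ (this _ rfl) (this _ rfl) (this _ rfl) (this _ rfl) with e | e <;> rw [e] <;> rfl

theorem St.pigeon {X : Type*} [Group X] [Finite X] {χ : TT →* X} (s : St χ) (f : X ≃* HH false) (fz : f (χ z) = z0)
    (hk : k ∉ Q) (k2 : k * k = 1) : ∃ c, C χ c k a := by
  have cl : ∀ k : TT, k * k = 1 → k ≠ 1 → k ≠ z → IsConj (f.symm u0) (χ k) ∨ IsConj (f.symm a0) (χ k) := fun k k2 k1 kz => by
    rcases inv_cls (f (χ k)) (by rw [← map_mul, ← map_mul, k2, map_one, map_one]) with e | e | ⟨c, e⟩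
    · exact absurd (s.inj (f.injective (by rw [e, map_one, map_one]))) k1
    · exact absurd (s.inj (f.injective (e.trans fz.symm))) kz
    · exact e.imp (fun e => isConj_iff.2 ⟨f.symm c, f.injective (by simp [e])⟩)
        fun e => isConj_iff.2 ⟨f.symm c, f.injective (by simp [e])⟩
  have nu : ∀ k ∉ Q, ∀ w, IsConj w (χ k) → IsConj w (χ u) → False := fun k hk w h1 h2 => by
    obtain ⟨c, hc⟩ := isConj_iff.1 (h1.symm.trans h2)
    exact s.not_u hk hc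
  have aQ : a ∉ Q := by decide +kernel
  have : IsConj (χ k) (χ a) := by
    rcases cl k k2 (fun e => hk (e ▸ one_mem _)) (fun e => hk (e ▸ by decide +kernel)) with e1 | e1 <;>
    rcases cl a (by decide +kernel) (by decide +kernel) (by decide +kernel) with e2 | e2 <;>
    rcases cl u (by decide +kernel) (by decide +kernel) (by decide +kernel) with e3 | e3
    exacts [e1.symm.trans e2, e1.symm.trans e2, (nu _ hk _ e1 e3).elim, (nu _ aQ _ e2 e3).elim, (nu _ aQ _ e2 e3).elim,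
      (nu _ hk _ e1 e3).elim, e1.symm.trans e2, e1.symm.trans e2]
  exact isConj_iff.1 this

structure Hy (ψ : TT →* G) : Prop where
  inj : Function.Injective ψ
  syl : Syl 2 ψ.range ⊤
  n2 : ∀ K : Subgroup G, K.index ≠ 2

theorem mem_c (e : k * l = l * k) : ψ k ∈ 𝐂[ψ l] := cmem.2 (by rw [← map_mul, e, map_mul])
theorem le_z : ψ.range ≤ 𝐂[ψ z] := by rintro _ ⟨x, rfl⟩; exact mem_c (z_cen x)
theorem C_of_mem (hg : g ∈ 𝐂[ψ k]) : C ψ g k k := mul_inv_eq_iff_eq_mul.2 (cmem.1 hg)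
theorem mem_of_C (hg : C ψ g k k) : g ∈ 𝐂[ψ k] := cmem.2 (mul_inv_eq_iff_eq_mul.1 hg)
theorem pgm (H : Subgroup TT) : IsPGroup 2 (H.map ψ) := (pgT.to_subgroup H).map ψ

namespace Hy
variable (s : Hy ψ)
include s

theorem two (k2 : k * k = 1) (k1 : k ≠ 1) : orderOf (ψ k) = 2 :=
  (orderOf_injective ψ s.inj k).trans (orderOf_eq_prime ((sq k).trans k2) k1)
theorem oz : orderOf (ψ z) = 2 := s.two (by decide +kernel) (by decide +kernel)
theorem sylz : Syl 2 ψ.range 𝐂[ψ z] := s.syl.of_le le_z le_top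
theorem comm (h : ψ k ∈ 𝐂[ψ l]) : k * l = l * k := s.inj (by rw [map_mul, map_mul, cmem.1 h])

theorem loc : ∃ (χ : TT →* 𝐂[ψ z] ⧸ pPrimeCore 2 𝐂[ψ z]) (f : (𝐂[ψ z] ⧸ pPrimeCore 2 𝐂[ψ z]) ≃* HH false),
    St χ ∧ f (χ z) = z0 ∧ ∀ k, χ k = QuotientGroup.mk ⟨ψ k, le_z ⟨k, rfl⟩⟩ := by
  have hi := s.inj
  obtain ⟨c, c1, c2⟩ := stepA s.n2 hi s.syl
  let ρ := QuotientGroup.mk' (pPrimeCore 2 𝐂[ψ z])
  let ψ1 := ψ.codRestrict 𝐂[ψ z] fun k => le_z ⟨k, rfl⟩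
  have t : St (ρ.comp ψ1) := by
    refine ⟨(injective_iff_map_eq_one _).2 fun x hx => ?_, ?_, fun g => ?_, ρ ⟨c, mem_of_C c1⟩, ?_⟩
    · have := (Glaub.inf_ker_mk' (p := 2) (Q := ψ1.range) (pgT.of_surjective _ ψ1.rangeRestrict_surjective)).le ⟨⟨x, rfl⟩, hx⟩
      exact hi ((congrArg Subtype.val (mem_bot.1 this)).trans ψ.map_one.symm)
    · rw [MonoidHom.range_comp]
      refine Syl.map_top ?_ (QuotientGroup.mk'_surjective _)
      convert s.sylz.subgroupOf_top using 1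
      ext y
      exact ⟨fun ⟨x, hx⟩ => ⟨x, congrArg Subtype.val hx⟩, fun ⟨x, hx⟩ => ⟨x, Subtype.ext hx⟩⟩
    · obtain ⟨g, rfl⟩ := QuotientGroup.mk'_surjective _ g
      change ρ g * ρ _ * (ρ g)⁻¹ = ρ _
      rw [← map_inv, ← map_mul, ← map_mul]
      exact congrArg ρ (Subtype.ext (C_of_mem g.2))
    · change ρ _ * ρ _ * (ρ _)⁻¹ = ρ _
      rw [← map_inv, ← map_mul, ← map_mul]
      exact congrArg ρ (Subtype.ext c2)
  obtain ⟨f⟩ := t.main pPrimeCore_quotient_pPrimeCore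
  have : ∀ w, f ((ρ.comp ψ1) z) * w = w * f ((ρ.comp ψ1) z) := fun w => by
    obtain ⟨w, rfl⟩ := f.surjective w
    rw [← map_mul f, ← mul_inv_eq_iff_eq_mul.1 (t.cen w), map_mul f]
  refine ⟨_, f, t, (JT.cent_Q _ (this _) (this _) (this _) (this _)).resolve_left fun e => ?_, fun _ => rfl⟩
  exact absurd (t.inj (f.injective (by rw [e, map_one, map_one]) : _ = (ρ.comp ψ1) 1)) (by decide +kernel)

theorem lay : pLayerOf 2 𝐂[ψ z] = ⊥ :=
  let ⟨_, f, _⟩ := s.loc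
  pLayerOf_eq_bot_iff.2 (charP_quotient_iff.1 (charP_HH f))

theorem lay' {t : G} (e : g * ψ z * g⁻¹ = t) : pLayerOf 2 𝐂[t] = ⊥ := by
  rw [← e, ← cj_centralizer_singleton]
  have := pLayerOf_map_of_injective (p := 2) (H := 𝐂[ψ z]) (f := (MulAut.conj g).toMonoidHom) (MulAut.conj g).injective
  rw [show (pLayer 2 𝐂[ψ z]).map _ = ⊥ from s.lay, Subgroup.map_bot] at this
  exact this

theorem cls (hk : k ∉ Q) (k2 : k * k = 1) : ∃ c, C ψ c z z ∧ C ψ c k a := by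
  obtain ⟨χ, f, t, fz, e⟩ := s.loc
  obtain ⟨c, hc⟩ := St.pigeon t f fz hk k2
  obtain ⟨c, rfl⟩ := QuotientGroup.mk_surjective c
  rw [C, e, e, ← QuotientGroup.mk_inv, ← QuotientGroup.mk_mul, ← QuotientGroup.mk_mul, eq_comm, QuotientGroup.eq] at hc
  have a2 : ψ a * ψ a = 1 := by rw [← map_mul, show a * a = 1 by decide +kernel, map_one]
  have h1 : ψ a * (c * ψ k * (c : G)⁻¹) ∈ th (ψ z) := ⟨_, hc, by simp [inv_eq_of_mul_eq_one_right a2]⟩
  obtain ⟨m, hm⟩ := Invol.exists_conj_of_odd a2 (y := c * ψ k * (c : G)⁻¹) (by rw [conj_mul, ← map_mul, k2]; simp)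
    (GW.odd_of_mem (Nat.odd_iff.2 (Nat.two_dvd_ne_zero.1 (cpc_not_dvd _))) h1)
  have h2 := pow_mem (cpc_le_cent _ h1) m
  generalize (ψ a * (c * ψ k * (c : G)⁻¹)) ^ m = d at hm h2
  exact ⟨d⁻¹ * c, C_of_mem (mul_mem (inv_mem h2) c.2), by rw [C, mul_inv_rev, mul_assoc d⁻¹, mul_assoc d⁻¹, ← mul_assoc _ _ d⁻¹⁻¹, ← hm]; group⟩

theorem clsU (i : Fin 5) : ∃ c, C ψ c z z ∧ C ψ c (U i) u := by
  obtain ⟨c, c1, c2⟩ := stepA s.n2 s.inj s.syl
  have hz : ∀ r, C ψ (ψ r) z z := fun r => C_of_mem (le_z ⟨r, rfl⟩)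
  obtain ⟨r, -, e | e⟩ := U_cj i
  exacts [⟨_, hz r, C.of r e⟩, ⟨_, (hz r).comp c1, (C.of r e).comp c2⟩]

theorem wc (hc : cj h (A.map ψ) ≤ ψ.range) : ∃ t : TT, ψ t * h ∈ 𝐍(A.map ψ) := by
  have hi := s.inj
  obtain ⟨l0, h0⟩ := C.ex hc (k := z) (by decide +kernel)
  obtain ⟨l1, h1⟩ := C.ex hc (k := u) (by decide +kernel)
  obtain ⟨l2, h2⟩ := C.ex hc (k := a) (by decide +kernel)
  obtain ⟨e0, e, e1, e2, e3⟩ : ∃ e0 e, e0 ∈ A ∧ C ψ h e0 e ∧ e ∉ Q := by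
    by_contra hn
    push Not at hn
    rcases G1 l0 (hn _ _ (by decide +kernel) h0) ((h0.sq hi).2 (by decide +kernel)) l1 (hn _ _ (by decide +kernel) h1)
      ((h1.sq hi).2 (by decide +kernel)) ((h0.com hi h1).2 (by decide +kernel)) l2 (hn _ _ (by decide +kernel) h2)
      ((h2.sq hi).2 (by decide +kernel)) ((h0.com hi h2).2 (by decide +kernel)) ((h1.com hi h2).2 (by decide +kernel))
      with e | e | e | e | e | e | e <;> subst e
    exacts [absurd (h0.un' hi (C.one h)) (by decide +kernel), absurd (h1.un' hi (C.one h)) (by decide +kernel),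
      absurd (h2.un' hi (C.one h)) (by decide +kernel), absurd (h0.un' hi h1) (by decide +kernel),
      absurd (h0.un' hi h2) (by decide +kernel), absurd (h1.un' hi h2) (by decide +kernel),
      absurd (h2.un' hi (h0.mul h1)) (by decide +kernel)]
  obtain ⟨t, -, -, ht⟩ := F4 e e3 ((e2.sq hi).2 (A_sq _ e1))
  refine ⟨t, mem_normalizer_of_cj_le (cj_le_iff'.2 ?_)⟩
  rintro _ ⟨k, hk, rfl⟩
  obtain ⟨l, hl⟩ := C.ex hc hk
  exact ⟨_, ht l ((hl.com hi e2).2 (L34.comm_of_sq A_sq hk e1)), Eq.symm (hl.comp (C.self t l))⟩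

omit s in
theorem exN (hh : h ∈ 𝐍(A.map ψ)) (hk : k ∈ A) : ∃ l ∈ A, C ψ h k l := by
  obtain ⟨l, l1, l2⟩ := (cj_of_mem_normalizer hh).le (conj_mem_cj h (mem_map_of_mem ψ hk))
  exact ⟨l, l1, l2.symm⟩

theorem ext (hN : ψ.range ≤ N) (hg : g ∈ N) (hk : C ψ g k z) (hR : IsPGroup 2 R) (hRN : R ≤ N) (hc : R ≤ 𝐂[ψ k]) :
    ∃ h ∈ N, C ψ h k z ∧ cj h R ≤ ψ.range := by
  obtain ⟨c, c1, c2⟩ := (s.syl.of_le (K := N ⊓ 𝐂[ψ z]) (le_inf hN le_z) le_top).exists_conj_le (isPGroup_cj g hR)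
    (le_inf (cj_le_of_le_of_mem hRN hg) (by rw [← show _ = ψ z from hk, ← cj_centralizer_singleton]; exact cj_mono g hc))
  exact ⟨c * g, mul_mem c1.1 hg, hk.comp (C_of_mem c1.2), by rwa [cj_mul]⟩

omit s in
theorem A_le_c (hk : k ∈ A) : A.map ψ ≤ 𝐂[ψ k] := by
  rintro _ ⟨x, hx, rfl⟩; exact mem_c (L34.comm_of_sq A_sq hx hk)

theorem toN (hk : k ∈ A) (e : C ψ g k z) : ∃ n ∈ 𝐍(A.map ψ), C ψ n k z := by
  obtain ⟨h, -, h1, h2⟩ := s.ext le_top (mem_top g) e (pgm A) le_top (A_le_c hk)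
  obtain ⟨t, ht⟩ := s.wc h2
  exact ⟨_, ht, h1.comp (C_of_mem (le_z ⟨t, rfl⟩))⟩

omit s in
theorem to_u (hN : ψ.range ≤ N) (hg : g ∈ N) (e : C ψ g k l) (hl : l = u ∨ l = u * z) : ∃ g ∈ N, C ψ g k u := by
  rcases hl with rfl | rfl
  exacts [⟨g, hg, e⟩, ⟨_, mul_mem (hN ⟨p, rfl⟩) hg, e.comp (C.of p uz_p)⟩]

theorem fuse (hN : ψ.range ≤ N) (hg : g ∈ N) (e : C ψ g z l) (l1 : l ≠ z) (hl : l ∈ Q) : ∃ g ∈ N, C ψ g z u := by
  have hi := s.inj
  have l2 := (e.sq hi).2 (by decide +kernel)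
  rcases F8 l hl with h | rfl | rfl | ⟨r, h | h⟩
  · exact absurd (l2.symm.trans h) (by decide +kernel)
  · exact absurd (e.un' hi (C.one g)) (by decide +kernel)
  · exact absurd rfl l1
  · exact ⟨_, mul_mem (hN ⟨r, rfl⟩) hg, e.comp (C.of r h)⟩
  obtain ⟨h, h0, h1, h2⟩ := s.ext hN (inv_mem (mul_mem (hN ⟨r, rfl⟩) hg)) (e.comp (C.of r h)).symm
    (pgm (centralizer {p})) ((map_le_range _ _).trans hN) (by rintro _ ⟨x, hx, rfl⟩; exact mem_c (cmem.1 hx))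
  obtain ⟨j, hj⟩ := C.ex h2 (k := u * U 2) (cmem.2 (by decide +kernel))
  have w : C ψ h z (j * j) := (hj.mul hj).cast (by decide +kernel) rfl
  rcases G2 j ((w.sq hi).2 (by decide +kernel)) with e | e | e
  · exact absurd ((w.cast rfl e).un' hi (C.one h)) (by decide +kernel)
  · exact absurd ((w.cast rfl e).un' hi h1) (by decide +kernel)
  · exact to_u hN h0 w e

theorem fuse_a (e : C ψ g a z) : ∃ g, C ψ g z u := by
  have hi := s.inj
  obtain ⟨n, n1, n2⟩ := s.toN (by decide +kernel) e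
  have key : ∀ k l, (k = u ∨ k = u * z) → l ∈ A → ¬ inV l → C ψ n k l → ∃ g, C ψ g z u := fun k l hk l1 l2 h => by
    obtain ⟨c, -, c2⟩ := s.cls (G3 l l1 l2).1 (A_sq l l1)
    obtain ⟨g, -, hg⟩ := to_u le_top (mem_top _) ((h.comp c2).comp e).symm hk
    exact ⟨g, hg⟩
  obtain ⟨l1, a1, b1⟩ := exN n1 (k := u) (by decide +kernel)
  obtain ⟨l2, a2, b2⟩ := exN n1 (k := u * z) (by decide +kernel)
  by_cases v1 : inV l1
  swap; · exact key _ _ (.inl rfl) a1 v1 b1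
  by_cases v2 : inV l2
  swap; · exact key _ _ (.inr rfl) a2 v2 b2
  have := (show ∀ k : TT, inV k → ∀ l : TT, inV l → k = 1 ∨ k = z ∨ l = 1 ∨ l = z ∨ k = l ∨ k * l = z by decide +kernel) _ v1 _ v2
  rcases this with e | e | e | e | e | e
  exacts [absurd ((b1.cast rfl e).un' hi (C.one n)) (by decide +kernel), absurd ((b1.cast rfl e).un' hi n2) (by decide +kernel),
    absurd ((b2.cast rfl e).un' hi (C.one n)) (by decide +kernel), absurd ((b2.cast rfl e).un' hi n2) (by decide +kernel),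
    absurd ((b1.cast rfl e).un' hi b2) (by decide +kernel), absurd (((b1.mul b2).cast rfl e).un' hi n2) (by decide +kernel)]

/-- `z` is isolated or fused to `u` -/
theorem iso_or : (∀ g, g * ψ z * g⁻¹ ∈ ψ.range → g * ψ z * g⁻¹ = ψ z) ∨ ∃ g, C ψ g z u := by
  by_contra hn
  push Not at hn
  obtain ⟨⟨g, ⟨l, hl⟩, h1⟩, h2⟩ := hn
  have e : C ψ g z l := hl.symm
  by_cases hq : l ∈ Q
  · obtain ⟨g, -, hg⟩ := s.fuse le_top (mem_top g) e (fun e' => h1 (by rw [← hl, e'])) hq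
    exact h2 g hg
  · obtain ⟨c, -, c2⟩ := s.cls hq ((e.sq s.inj).2 (by decide +kernel))
    obtain ⟨g, hg⟩ := s.fuse_a (e.comp c2).symm
    exact h2 g hg

theorem invol (hu : C ψ g z u) {t : G} (ht : orderOf t = 2) : (∃ g, g * ψ z * g⁻¹ = t) ∨ ∃ g, g * ψ a * g⁻¹ = t := by
  obtain ⟨h, -, hh⟩ := s.syl.exists_conj_le (Invol.isPGroup_zpowers_two ht) le_top
  obtain ⟨l, hl⟩ := hh (conj_mem_cj h (mem_zpowers t))
  have fin : ∀ {c k}, C ψ c l k → (h⁻¹ * c⁻¹) * ψ k * (h⁻¹ * c⁻¹)⁻¹ = t := fun {c k} e => by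
    rw [← show _ = ψ k from e, hl]; group
  have l2 : l * l = 1 := s.inj (by rw [map_mul, hl, conj_mul, Invol.mul_self_of_two ht]; simp)
  by_cases hq : l ∈ Q
  · left
    rcases F9 l hq l2 with rfl | rfl | ⟨i, rfl | rfl⟩
    · exact absurd (by simpa using hl.symm) (Invol.ne_one_of_two ht)
    · exact ⟨_, fin (c := 1) (by simp [C])⟩
    · obtain ⟨c, -, c2⟩ := s.clsU i
      exact ⟨_, fin (c2.comp hu.symm)⟩
    · obtain ⟨c, c1, c2⟩ := s.clsU i
      exact ⟨_, fin (((c2.mul c1).comp (C.of p uz_p)).comp hu.symm)⟩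
  · obtain ⟨c, -, c2⟩ := s.cls hq l2
    exact .inr ⟨_, fin c2⟩

end Hy

end Cfsg.Lib.JT.So
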