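import Cfsg.Agent.Lib.JT.So4

/-! Sylow `2`-subgroups of type `J₂`, two classes of involutions: odd subgroups normalised by `U`. -/

set_option autoImplicit false
set_option linter.unusedSectionVars false
set_option maxRecDepth 100000
set_option synthInstance.maxSize 4000

namespace Cfsg.Lib.JT.So
open Subgroup Cfsg.Lib.Core Cfsg.Lib.BG1 Cfsg.Lib.Layer Cfsg.Lib.SigC Cfsg.Lib.Push.ZC
open Cfsg.Lib.Amalg hiding le_cent_symm op_top
open Cfsg.Lib.JT.Sy hiding W cent_Q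

variable {G : Type*} [Group G] [Finite G] {ψ : TT →* G} {N R Y : Subgroup G} {g h n : G} {k l v y : TT}

theorem card_A : Nat.card A = 16 :=
  (Nat.subtype_card ({m0 0, m0 1, m0 2, m0 3, m1 0, m1 1, m1 2, m1 3, m2 0, m2 1, m2 2, m2 3, m3 0, m3 1, m3 2, m3 3} : Finset TT)
    (by decide +kernel)).trans (by decide +kernel)
theorem card_A' : Nat.card A' = 16 := by
  rw [A', ← cj_centralizer_singleton, card_cj]; exact card_A
theorem card_AA : Nat.card ↥(A ⊓ A') = 4 :=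
  (Nat.subtype_card ({1, z, u, u * z} : Finset TT) (fun x => by rw [mem_inf, (A_UU x).2.2]; simp [inV])).trans (by decide +kernel)
theorem sup_AA : A ⊔ A' = UU := le_antisymm (sup_le (fun k hk => ((A_UU k).1 hk).1) fun k hk => ((A_UU k).2.1 hk).1) fun k hk => by
  obtain ⟨l, l1, l2⟩ := G7 k hk
  simpa using mul_mem (mem_sup_left l1) (mem_sup_right l2)
theorem A_le_U : A.map ψ ≤ UU.map ψ := map_mono fun k hk => ((A_UU k).1 hk).1
theorem U_le_c (hv : inV v) : UU.map ψ ≤ 𝐂[ψ v] := by rintro _ ⟨x, hx, rfl⟩; exact mem_c ((G4 v hv).2 x hx)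

theorem gen {B K L : Subgroup G} {x w : G} (hx : orderOf x = 2) (hw : orderOf w = 2) (hc : x ∈ 𝐂[w]) (hne : x ≠ w)
    (hB : B ≤ 𝐍(K)) (h1 : x ∈ B) (h2 : w ∈ B) (ho : ¬ 2 ∣ Nat.card K) (a1 : K ⊓ 𝐂[x] ≤ L) (a2 : K ⊓ 𝐂[w] ≤ L)
    (a3 : K ⊓ 𝐂[x * w] ≤ L) : K ≤ L := by
  have e := ea_K4 hx hw hc hne
  have := e.1.1
  refine Coprime.le_of_forall_centralizer_le (not_isCyclic_of_elem e.1 e.2) ((K4_le h1 h2).trans hB) (cop e.pg ho)
    fun t ht t1 => ?_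
  rcases (mem_K4 hx hw hc).1 ht with rfl | rfl | rfl | rfl
  exacts [absurd rfl t1, a1, a2, a3]

namespace Hy
variable (s : Hy ψ)
include s

theorem genV {L : Subgroup G} (hn : A.map ψ ≤ 𝐍(Y)) (ho : ¬ 2 ∣ Nat.card Y) (h : ∀ v, inV v → v ≠ 1 → Y ⊓ 𝐂[ψ v] ≤ L) : Y ≤ L :=
  gen s.oz (s.two (k := u) (by decide +kernel) (by decide +kernel)) (mem_c (by decide +kernel))
    (fun e => absurd (s.inj e) (by decide +kernel)) hn (mem_map_of_mem ψ (by decide +kernel)) (mem_map_of_mem ψ (by decide +kernel)) ho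
    (h _ (by decide +kernel) (by decide +kernel)) (h _ (by decide +kernel) (by decide +kernel))
    (map_mul ψ z u ▸ h _ (by decide +kernel) (by decide +kernel))

theorem Fb0 (hn : A.map ψ ≤ 𝐍(Y)) (ho : ¬ 2 ∣ Nat.card Y) (hc : Y ≤ 𝐂[ψ z]) : Y ≤ th (ψ z) := by
  have key : ∀ w ∈ A, ¬ inV w → Y ⊓ 𝐂[ψ w] ≤ th (ψ z) := fun w w1 w2 => by
    rw [th, cpc_eq]
    refine gl s.lay s.sylz ⟨w, rfl⟩ (inf_le_left.trans hc) (not_dvd_card_of_le inf_le_left ho) inf_le_right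
      (le_trans ?_ (le_normalizer_inf hn ((A_le_c w1).trans le_normalizer)))
    rintro _ ⟨⟨k, rfl⟩, hk⟩
    exact mem_map_of_mem ψ ((G3 w w1 w2).2 k (s.comm hk))
  exact gen (s.two (k := a) (by decide +kernel) (by decide +kernel)) (s.two (k := a') (by decide +kernel) (by decide +kernel))
    (mem_c (by decide +kernel)) (fun e => absurd (s.inj e) (by decide +kernel)) hn (mem_map_of_mem ψ (by decide +kernel))
    (mem_map_of_mem ψ (by decide +kernel)) ho (key _ (by decide +kernel) (by decide +kernel))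
    (key _ (by decide +kernel) (by decide +kernel)) (map_mul ψ a a' ▸ key _ (by decide +kernel) (by decide +kernel))

theorem l34N (hS : Syl 2 (UU.map ψ) N) (hY : Y ≤ N) (ho : ¬ 2 ∣ Nat.card Y) (hn : UU.map ψ ≤ 𝐍(Y)) : Y ≤ 𝐎'[2](N) := by
  have hi := s.inj
  have c : ∀ H ≤ UU, Nat.card ((H.map ψ).subgroupOf N) = Nat.card H := fun H hH => by
    rw [Nat.card_congr (subgroupOfEquivOfLe ((map_mono hH).trans hS.le)).toEquiv, card_map_of_injective hi]
  have e : (A.map ψ).subgroupOf N ⊔ (A'.map ψ).subgroupOf N = (UU.map ψ).subgroupOf N := by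
    rw [← subgroupOf_sup (A_le_U.trans hS.le) ((map_mono (sup_AA ▸ le_sup_right)).trans hS.le), ← Subgroup.map_sup, sup_AA]
  have t : L34.T ((A.map ψ).subgroupOf N) ((A'.map ψ).subgroupOf N) := by
    refine ⟨?_, ?_, (c _ (sup_AA ▸ le_sup_left)).trans card_A, (c _ (sup_AA ▸ le_sup_right)).trans card_A', ?_, ?_, ?_,
      e ▸ hS.subgroupOf_top⟩
    · rintro ⟨_, _⟩ ⟨k, hk, rfl⟩; exact Subtype.ext (by simp [← map_mul, A_sq k hk])
    · rintro ⟨_, _⟩ ⟨k, hk, rfl⟩; exact Subtype.ext (by simp [← map_mul, A'_sq k hk])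
    · rw [← card_AA, ← c _ (inf_le_left.trans (sup_AA ▸ le_sup_left)), map_inf_eq _ _ _ hi]; rfl
    · rintro ⟨_, _⟩ ⟨k, hk, rfl⟩ ⟨_, _⟩ ⟨l, hl, rfl⟩
      exact ⟨⟨_, (G6 k hk l hl).1, by simp⟩, ⟨_, (G6 k hk l hl).2.1, by simp⟩⟩
    · rintro ⟨_, _⟩ ⟨k, hk, rfl⟩ ⟨_, _⟩ ⟨l, hl, rfl⟩ e
      exact ((G6 k hk l hl).2.2 (hi (by simpa using congrArg Subtype.val e))).imp (mem_map_of_mem ψ) (mem_map_of_mem ψ)
  refine s.genV (A_le_U.trans hn) ho fun v v1 v2 => ?_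
  have vA := ((A_UU v).2.2.2 v1)
  have vN : ψ v ∈ N := hS.le (A_le_U (mem_map_of_mem ψ vA.1))
  have hle : Y ⊓ 𝐂[ψ v] ≤ N := inf_le_left.trans hY
  have := l34 (Y := (Y ⊓ 𝐂[ψ v]).subgroupOf N) (z := ⟨ψ v, vN⟩) t (by
      rw [Nat.card_congr (subgroupOfEquivOfLe hle).toEquiv]; exact not_dvd_card_of_le inf_le_left ho)
    (by rw [e]; exact (comap_mono (le_normalizer_inf hn ((U_le_c v1).trans le_normalizer))).trans (le_normalizer_comap _))
    ⟨mem_map_of_mem ψ vA.1, mem_map_of_mem ψ vA.2⟩ (fun e => v2 (hi ((congrArg Subtype.val e).trans ψ.map_one.symm)))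
    fun x hx => cmem.2 (Subtype.ext (cmem.1 hx.2))
  rw [← map_pPrimeCore_subtype Nat.prime_two, ← map_subgroupOf_eq_of_le hle]
  exact map_mono this

theorem inf_eq (hU : UU.map ψ ≤ N) (hT : ¬ ψ.range ≤ N) : ψ.range ⊓ N = UU.map ψ := by
  refine le_antisymm ?_ (le_inf (map_le_range _ _) hU)
  rintro _ ⟨⟨k, rfl⟩, hk⟩
  by_contra hn
  refine hT ?_
  rintro _ ⟨l, rfl⟩
  by_cases hl : l ∈ UU
  · exact hU (mem_map_of_mem ψ hl)
  · simpa using mul_mem hk (hU (mem_map_of_mem ψ (G10 k (fun e => hn (mem_map_of_mem ψ e)) l hl)))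

end Hy

structure J2c (ψ : TT →* G) : Prop extends Hy ψ where
  fus : ∃ g, C ψ g z u
  na : ∀ g, ¬ C ψ g a z

/-- the inductive hypothesis -/
def IH (G : Type*) [Group G] [Finite G] : Prop := ∀ N : Subgroup G, N ≠ ⊤ → ∀ χ : TT →* N, Hy χ → th (χ z) ≤ pPrimeCore 2 N

namespace J2c
variable (s : J2c ψ)
include s

theorem toV (hv : inV v) (v1 : v ≠ 1) : ∃ n ∈ 𝐍(A.map ψ), C ψ n v z := by
  obtain ⟨g, hg⟩ := s.fus
  rcases hv with rfl | rfl | rfl | rfl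
  exacts [absurd rfl v1, ⟨1, one_mem _, by simp [C]⟩, s.toN (by decide +kernel) hg.symm,
    s.toN (by decide +kernel) ((C.of p uz_p).comp hg.symm)]

theorem inQ (e : C ψ g z l) : l ∈ Q := by
  by_contra hl
  obtain ⟨c, -, c2⟩ := s.cls hl ((e.sq s.inj).2 (by decide +kernel))
  exact s.na _ (e.comp c2).symm

theorem nV (hn : n ∈ 𝐍(A.map ψ)) (e : C ψ n k l) (hk : inV k) : inV l := by
  obtain ⟨l', l1, l2⟩ := Hy.exN hn (G4 k hk).1
  obtain rfl := e.un s.inj l2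
  by_cases k1 : k = 1
  · exact .inl ((e.cast k1 rfl).un s.inj (C.one n))
  obtain ⟨m, -, hm⟩ := s.toV hk k1
  by_contra hl
  exact (G3 l l1 hl).1 (s.inQ (hm.symm.comp e))

theorem nV' (hn : n ∈ 𝐍(A.map ψ)) (e : C ψ n k l) : inV k ↔ inV l := ⟨s.nV hn e, s.nV (inv_mem hn) e.symm⟩

theorem Fb (hv : inV v) (v1 : v ≠ 1) (hn : A.map ψ ≤ 𝐍(Y)) (ho : ¬ 2 ∣ Nat.card Y) (hc : Y ≤ 𝐂[ψ v]) : Y ≤ th (ψ v) := by
  obtain ⟨n, n1, n2⟩ := s.toV hv v1
  rw [← cj_le_cj_iff (g := n), cj_cpc, show _ = ψ z from n2]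
  refine s.Fb0 (by rw [← cj_normalizer, ← cj_of_mem_normalizer n1]; exact cj_mono n hn) (by rwa [card_cj]) ?_
  rw [← show _ = ψ z from n2, ← cj_centralizer_singleton]; exact cj_mono n hc

theorem U_le (hT : ψ.range ≤ N) (hg : g ∈ N) (e : C ψ g z u) {K : Subgroup N} (hK : K.index = 2) :
    UU.map ψ ≤ K.map N.subtype := by
  have hi := s.inj
  have := normal_of_index_eq_two hK
  have sq : ∀ k, ψ (k * k) ∈ K.map N.subtype := fun k => ⟨_, mul_self_mem_of_index_two hK ⟨ψ k, hT ⟨k, rfl⟩⟩, by simp⟩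
  have h1 : ∀ k ∈ UU, k * k = z → ψ k ∈ K.map N.subtype := fun k hk e => by
    obtain ⟨r, -, t, rfl⟩ := G9 k e hk
    rw [map_mul]; exact mul_mem (sq r) (sq t)
  obtain ⟨h, h0, h2, h3⟩ := s.ext hT (inv_mem hg) e.symm (pgm UU) ((map_le_range _ _).trans hT) (U_le_c (by decide +kernel))
  obtain ⟨j, hj⟩ := C.ex h3 (k := m0 12) (by decide +kernel)
  have w : C ψ h z (j * j) := (hj.mul hj).cast (by decide +kernel) rfl
  have w' : ∀ l, l * (j * j) = j * j * l → l ∈ UU := by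
    rcases G2 j ((w.sq hi).2 (by decide +kernel)) with e | e | e | e
    · exact absurd ((w.cast rfl e).un' hi (C.one h)) (by decide +kernel)
    · exact absurd ((w.cast rfl e).un' hi h2) (by decide +kernel)
    · rw [e]; exact fun l => mem_UU.2
    · rw [e]; decide +kernel
  have h4 : ∀ k ∈ UU, k * k = z ∨ k * k = u → ψ k ∈ K.map N.subtype := fun k hk e => by
    rcases e with e | e
    · exact h1 k hk e
    obtain ⟨l, hl⟩ := C.ex h3 hk
    have := h1 l (w' l ((hl.com hi w).2 (z_cen k))) ((hl.mul hl).un hi (h2.cast e.symm rfl))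
    rw [← show _ = ψ l from hl] at this
    exact (mem_normalizer_iff.1 (le_normalizer_map_of_normal K h0) _).2 this
  rintro _ ⟨k, hk, rfl⟩
  obtain ⟨l, l1, l2, l3⟩ := G8 k hk
  simpa using mul_mem (h4 l l1 l2) (h4 _ (mul_mem (inv_mem l1) hk) l3)

theorem clN0 (ih : IH G) (hN : N ≠ ⊤) (hS : Syl 2 (ψ.range ⊓ N) N) (hU : UU.map ψ ≤ N) (hY : Y ≤ N) (ho : ¬ 2 ∣ Nat.card Y)
    (hn : UU.map ψ ≤ 𝐍(Y)) : Y ≤ 𝐎'[2](N) := by
  by_cases hT : ψ.range ≤ N
  swap; · exact s.l34N (s.inf_eq hU hT ▸ hS) hY ho hn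
  rw [inf_eq_left.2 hT] at hS
  have oN := not_dvd_card_pPrimeCoreOf Nat.prime_two N
  have nN := le_norm_piCoreOf_self ({2}ᶜ : Set ℕ) N
  by_cases hz : ∀ g ∈ N, g * ψ z * g⁻¹ ∈ ψ.range → g * ψ z * g⁻¹ = ψ z
  · have e := zsplit hS ⟨z, rfl⟩ (Invol.mul_self_of_two s.oz) hz
    have o := not_dvd_card_sup Nat.prime_two oN ho (hY.trans nN)
    have h1 : N ⊓ 𝐂[ψ z] ⊓ (𝐎'[2](N) ⊔ Y) ≤ th (ψ z) := s.Fb0 (le_normalizer_inf (le_normalizer_inf
      ((A_le_U.trans hU).trans le_normalizer) (((map_le_range _ _).trans le_z).trans le_normalizer))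
      (le_normalizer_sup ((A_le_U.trans hU).trans nN) (A_le_U.trans hn))) (not_dvd_card_of_le inf_le_right o)
      (inf_le_left.trans inf_le_right)
    have h2 : N ⊓ th (ψ z) ≤ 𝐎'[2](N) := core_le e inf_le_left (not_dvd_card_of_le inf_le_right (cpc_not_dvd _))
      (le_normalizer_inf (inf_le_left.trans le_normalizer) (inf_le_right.trans (cent_le_norm_cpc _)))
    refine (le_inf (hY.trans e.ge) le_sup_right).trans ((sup_inf_of_le_normalizer' le_sup_left (inf_le_left.trans nN)).le.trans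
      (sup_le le_rfl ((le_inf (inf_le_left.trans inf_le_left) h1).trans h2)))
  push Not at hz
  obtain ⟨g, hg, ⟨l, hl⟩, l1⟩ := hz
  obtain ⟨g, hg, e⟩ := s.fuse hT hg (l := l) hl.symm (fun e => l1 (by rw [← hl, e])) (s.inQ hl.symm)
  by_cases hx : ∃ K : Subgroup N, K.index = 2
  · obtain ⟨K, hK⟩ := hx
    have := normal_of_index_eq_two hK
    have k1 := s.U_le hT hg e hK
    have k2 := le_normalizer_map_of_normal K
    have k3 := hS.inf_normal (map_subtype_le K) k2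
    rw [s.inf_eq k1 fun h => hS.not_dvd_relIndex_of_le h (by
      rw [relIndex, ← hK, subgroupOf, comap_map_eq_self_of_injective N.subtype_injective])] at k3
    refine (s.l34N k3 (fun x hx => ?_) ho hn).trans (piCoreOf_le_of_normal (map_subtype_le K) k2)
    obtain ⟨m, hm⟩ := GW.odd_of_mem (Nat.odd_iff.2 (Nat.two_dvd_ne_zero.1 ho)) hx
    refine ⟨⟨x, hY hx⟩, ?_, rfl⟩
    have : (⟨x, hY hx⟩ : N) = (⟨x, hY hx⟩ * ⟨x, hY hx⟩) ^ (m + 1) := Subtype.ext (by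
      change x = (x * x) ^ (m + 1)
      rw [← sq, ← pow_mul, show 2 * (m + 1) = 2 * m + 1 + 1 by ring, ← hm, pow_succ, pow_orderOf_eq_one, one_mul])
    exact this ▸ pow_mem (mul_self_mem_of_index_two hK _) _
  let χ := ψ.codRestrict N fun k => hT ⟨k, rfl⟩
  have h1 := ih N hN χ ⟨fun x y e => s.inj (congrArg Subtype.val e), by
    convert hS.subgroupOf_top using 1
    ext y
    exact ⟨fun ⟨x, hx⟩ => ⟨x, congrArg Subtype.val hx⟩, fun ⟨x, hx⟩ => ⟨x, Subtype.ext hx⟩⟩, fun K hK => hx ⟨K, hK⟩⟩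
  have h2 : N ⊓ th (ψ z) ≤ 𝐎'[2](N) := by
    rw [← map_pPrimeCore_subtype Nat.prime_two, inf_comm, ← subgroupOf_map_subtype]
    refine map_mono (le_trans (le_cpc (fun x hx => cmem.2 (Subtype.ext (cmem.1 (cpc_le_cent (ψ z) (mem_subgroupOf.1 hx))))) ?_ ?_) h1)
    · exact le_trans (fun x hx => cent_le_norm_cpc (ψ z) (cmem.2 (congrArg Subtype.val (cmem.1 hx)))) (le_normalizer_comap _)
    · rw [← card_map_of_injective N.subtype_injective, subgroupOf_map_subtype]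
      exact not_dvd_card_of_le inf_le_left (cpc_not_dvd _)
  refine s.genV (A_le_U.trans hn) ho fun v v1 v2 => ?_
  have h3 := s.Fb v1 v2 (le_normalizer_inf (A_le_U.trans hn) ((A_le_U.trans (U_le_c v1)).trans le_normalizer))
    (not_dvd_card_of_le inf_le_left ho) inf_le_right
  obtain ⟨m, m1, m2⟩ : ∃ m ∈ N, C ψ m z v := by
    rcases v1 with rfl | rfl | rfl | rfl
    exacts [absurd rfl v2, ⟨1, one_mem _, by simp [C]⟩, ⟨g, hg, e⟩,
      ⟨_, mul_mem (inv_mem (hT ⟨p, rfl⟩)) hg, e.comp (C.of p uz_p).symm⟩]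
  have h4 := cj_mono m h2
  rw [cj_inf, cj_of_mem m1, cj_cpc, show _ = ψ v from m2, cj_of_mem_normalizer (nN m1)] at h4
  exact (le_inf (inf_le_left.trans hY) h3).trans h4

theorem clN (ih : IH G) (hN : N ≠ ⊤) (hU : UU.map ψ ≤ N) (hY : Y ≤ N) (ho : ¬ 2 ∣ Nat.card Y)
    (hn : UU.map ψ ≤ 𝐍(Y)) : Y ≤ 𝐎'[2](N) := by
  obtain ⟨S, hS, h1⟩ := exists_syl_ge (pgm UU) hU
  obtain ⟨g, -, hg⟩ := s.syl.exists_conj_le hS.isPGroup le_top
  obtain ⟨t, ht⟩ := s.wc ((cj_mono g (A_le_U.trans h1)).trans hg)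
  have h2 : cj (ψ t * g) S ≤ ψ.range := by rw [cj_mul]; exact cj_le_of_le_of_mem hg ⟨t, rfl⟩
  generalize ψ t * g = n at ht h2
  have h3 := (cj_mono n h1).trans h2
  obtain ⟨v, -, hv⟩ := Hy.exN ht (k := z) (by decide +kernel)
  obtain ⟨w, -, hw⟩ := Hy.exN ht (k := u) (by decide +kernel)
  have e : cj n (UU.map ψ) = UU.map ψ := eq_of_le_of_card_le' (cj_le_iff'.2 (by
    rintro _ ⟨k, hk, rfl⟩
    obtain ⟨l, hl⟩ := C.ex h3 hk
    refine ⟨l, (show ∀ v, inV v → v ≠ 1 → ∀ w, inV w → w ≠ 1 → v ≠ w → ∀ l, l * v = v * l → l * w = w * l → l ∈ UU by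
      decide +kernel) v (s.nV ht hv (by decide +kernel)) (fun e => absurd ((hv.cast rfl e).un' s.inj (C.one n)) (by decide +kernel))
      w (s.nV ht hw (by decide +kernel)) (fun e => absurd ((hw.cast rfl e).un' s.inj (C.one n)) (by decide +kernel))
      (fun e => absurd ((hv.cast rfl e).un' s.inj hw) (by decide +kernel)) l ((hl.com s.inj hv).2 (z_cen k))
      ((hl.com s.inj hw).2 (mem_UU.1 hk)), Eq.symm hl⟩)) (card_cj _ _).ge
  have hS' := hS.conj n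
  rw [← cj_le_cj_iff (g := n), cj_piCoreOf]
  refine s.clN0 ih (mt cj_eq_top_iff.1 hN) (hS'.of_card_ge (s.syl.isPGroup.to_le inf_le_left) inf_le_right
    (card_le_of_le (le_inf h2 hS'.le))) (e ▸ cj_mono n hU) (cj_mono n hY) (by rwa [card_cj]) ?_
  rw [← cj_normalizer, ← e]; exact cj_mono n hn

end J2c

end Cfsg.Lib.JT.So
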