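import Cfsg.Agent.Lib.JT.So5
import Cfsg.Agent.S1221

/-! Sylow `2`-subgroups of type `J₂`, two classes of involutions: balance. -/

set_option autoImplicit false
set_option linter.unusedSectionVars false
set_option maxRecDepth 100000
set_option synthInstance.maxSize 4000

namespace Cfsg.Lib.JT.So
open Subgroup Cfsg.Lib.Core Cfsg.Lib.BG1 Cfsg.Lib.Layer Cfsg.Lib.SigC Cfsg.Lib.Push.ZC
open Cfsg.Lib.Amalg hiding le_cent_symm op_top
open Cfsg.Lib.JT.Sy hiding W cent_Q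
open scoped commutatorElement

variable {G : Type*} [Group G] [Finite G] {ψ : TT →* G} {N R Y : Subgroup G} {g h n : G} {k l v y : TT} {r : ℕ}

theorem memV (hv : inV v) : ψ v ∈ K4 (ψ z) (ψ u) := by
  have h1 : ψ z ∈ K4 (ψ z) (ψ u) := mem_sup_left (mem_zpowers _)
  have h2 : ψ u ∈ K4 (ψ z) (ψ u) := mem_sup_right (mem_zpowers _)
  rcases hv with rfl | rfl | rfl | rfl
  exacts [ψ.map_one ▸ one_mem _, h1, h2, map_mul ψ u z ▸ mul_mem h2 h1]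

theorem commA : IsMulCommutative (A.map ψ) := ⟨⟨by
  rintro ⟨_, k, hk, rfl⟩ ⟨_, l, hl, rfl⟩; exact Subtype.ext (cmem.1 (mem_c (L34.comm_of_sq A_sq hk hl)))⟩⟩

namespace Hy
variable (s : Hy ψ)
include s

theorem ou : orderOf (ψ u) = 2 := s.two (by decide +kernel) (by decide +kernel)

theorem exV {x : G} (hx : x ∈ K4 (ψ z) (ψ u)) : ∃ v, inV v ∧ ψ v = x := by
  rcases (mem_K4 s.oz s.ou (mem_c (by decide +kernel))).1 hx with rfl | rfl | rfl | rfl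
  exacts [⟨1, .inl rfl, ψ.map_one⟩, ⟨_, by decide +kernel, rfl⟩, ⟨_, by decide +kernel, rfl⟩, ⟨_, by decide +kernel, map_mul ψ _ _⟩]

theorem delta [Fact r.Prime] (hr : r ∣ Nat.card (th (ψ z))) : r ∣ Nat.card ↥(th (ψ z) ⊓ 𝐂[ψ u]) := by
  by_contra hn
  obtain ⟨P, p1, p2⟩ := Coprime.exists_invariant_sylowIn (le_z.trans (cent_le_norm_cpc (p := 2) (ψ z)))
    (cop s.syl.isPGroup (cpc_not_dvd _)) (sol s.syl.isPGroup) r
  replace p1 := syl_of_sylowIn p1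
  have h0 : ∀ i, P ⊓ 𝐂[ψ (U i)] = ⊥ := fun i => by
    obtain ⟨c, c1, c2⟩ := s.clsU i
    refine isPGroup_eq_bot_of_not_dvd (p1.isPGroup.to_le inf_le_left) (inf_le_inf_right _ p1.le) ?_
    rwa [← card_cj c, cj_inf, cj_cpc, cj_centralizer_singleton, show _ = ψ z from c1, show _ = ψ (u) from c2]
  have h1 := fun i => GW.inv_of_fpf (s.two (k := U i) (by revert i; decide +kernel) (by revert i; decide +kernel)) (p2 ⟨_, rfl⟩) (h0 i)
  refine p1.ne_bot hr (eq_bot_iff.2 fun d hd => (h0 0).le ⟨hd, cmem.2 ?_⟩)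
  have h2 : ∀ i j, ψ (U i * U j) * d * (ψ (U i * U j))⁻¹ = d := fun i j => by
    rw [map_mul, mul_inv_rev, ← mul_assoc, mul_assoc (ψ (U i)), mul_assoc (ψ (U i)), h1 j d hd, h1 i _ (inv_mem hd), inv_inv]
  rw [show U 0 = U 1 * U 2 * (U 3 * U 4) by decide +kernel, map_mul, mul_assoc, mul_inv_eq_iff_eq_mul.1 (h2 3 4), ← mul_assoc,
    ← mul_assoc, mul_inv_eq_iff_eq_mul.1 (h2 1 2)]

end Hy

namespace J2c
variable (s : J2c ψ)
include s

theorem exR (ih : IH G) (hO : pPrimeCore 2 G = ⊥) [Fact r.Prime] (r2 : r ≠ 2) (hr : r ∣ Nat.card (th (ψ z))) :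
    ∃ R P P' : Subgroup G, IsPGroup r R ∧ P ≤ R ∧ P' ≤ R ∧ Syl r P (th (ψ z)) ∧ Syl r P' (th (ψ u)) ∧
      UU.map ψ ≤ 𝐍(P) ∧ UU.map ψ ≤ 𝐍(P') := by
  have pU := pgm (ψ := ψ) UU
  have nz := (U_le_c (ψ := ψ) (v := z) (by decide +kernel)).trans (cent_le_norm_cpc (p := 2) _)
  have cu := U_le_c (ψ := ψ) (v := u) (by decide +kernel)
  have nD := le_normalizer_inf nz (cu.trans le_normalizer)
  have oD := not_dvd_card_of_le (inf_le_left : th (ψ z) ⊓ 𝐂[ψ u] ≤ _) (cpc_not_dvd _)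
  obtain ⟨D, d1, d2⟩ := Coprime.exists_invariant_sylowIn nD (cop pU oD) (sol pU) r
  replace d1 := syl_of_sylowIn d1
  obtain ⟨P, p1, p2, p3⟩ := Coprime.exists_invariant_sylowIn_ge nz (cop pU (cpc_not_dvd _)) (sol pU) (d1.le.trans inf_le_left)
    d1.isPGroup d2
  obtain ⟨P', q1, q2, q3⟩ := Coprime.exists_invariant_sylowIn_ge (cu.trans (cent_le_norm_cpc (p := 2) _)) (cop pU (cpc_not_dvd _))
    (sol pU) (d1.le.trans (s.Fb (by decide +kernel) (by decide +kernel) (A_le_U.trans nD) oD inf_le_right)) d1.isPGroup d2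
  obtain ⟨M, m1, m2⟩ := Finite.exists_le_maximal (p := fun S : Subgroup G => IsPGroup r S ∧ UU.map ψ ≤ 𝐍(S)) ⟨p1.isPGroup, p3⟩
  obtain ⟨M', n1, n2⟩ := Finite.exists_le_maximal (p := fun S : Subgroup G => IsPGroup r S ∧ UU.map ψ ≤ 𝐍(S)) ⟨q1.isPGroup, q3⟩
  obtain ⟨c, c1, c2⟩ := trans r2 pU (fun E e1 e2 e3 Y => s.clN ih (fun e => e1 (eq_bot_of_normal_of_core hO
    (fun g => cj_of_mem_normalizer (e ▸ mem_top g)) e2)) e3) m2 n2 fun e =>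
      d1.ne_bot (s.delta hr) (le_bot_iff.1 ((le_inf (p2.trans m1) (q2.trans n1)).trans e.le))
  refine ⟨M', cj c P, P', n2.1.1, c2 ▸ cj_mono c m1, n1, (syl_of_sylowIn p1).conj_of_mem_normalizer (cent_le_norm_cpc _
    (cent_le_cent1 (mem_map_of_mem ψ (by decide +kernel)) c1)), syl_of_sylowIn q1, ?_, q3⟩
  rw [← cj_normalizer, ← cj_of_mem_centralizer c1]; exact cj_mono c p3

theorem sylA (hy : y ∈ A) (y1 : ¬ inV y) : Syl 2 (A.map ψ) 𝐂[ψ y] := by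
  obtain ⟨S, hS, h1⟩ := exists_syl_ge (pgm A) (Hy.A_le_c (ψ := ψ) hy)
  obtain ⟨g, -, hg⟩ := s.syl.exists_conj_le hS.isPGroup le_top
  obtain ⟨t, ht⟩ := s.wc ((cj_mono g h1).trans hg)
  have h2 : cj (ψ t * g) S ≤ ψ.range := by rw [cj_mul]; exact cj_le_of_le_of_mem hg ⟨t, rfl⟩
  generalize ψ t * g = n at ht h2
  obtain ⟨l, l1, l2⟩ := Hy.exN ht hy
  rw [le_antisymm h1 ?_]; exact hS
  rw [← cj_le_cj_iff (g := n), cj_of_mem_normalizer ht]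
  intro x hx
  obtain ⟨k, rfl⟩ := h2 hx
  have := cj_mono n hS.le hx
  rw [cj_centralizer_singleton, show _ = ψ l from l2] at this
  exact mem_map_of_mem ψ ((G3 l l1 (mt (s.nV' ht l2).2 y1)).2 k (s.comm this))

theorem normV : 𝐍(A.map ψ) ≤ 𝐍(K4 (ψ z) (ψ u)) := fun n hn => mem_normalizer_of_cj_le (cj_le_iff'.2 fun x hx => by
  obtain ⟨v, v1, rfl⟩ := s.exV hx
  obtain ⟨l, -, hl⟩ := Hy.exN hn (G4 v v1).1
  exact (show _ = ψ l from hl) ▸ memV (s.nV hn hl v1))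

theorem comm_le (hy : y ∈ A) (y1 : ¬ inV y) : ⁅A.map ψ, 𝐂[ψ y] ⊓ 𝐍(A.map ψ)⁆ ≤ K4 (ψ z) (ψ u) := by
  have h1 : ⁅A.map ψ, 𝐂[ψ y] ⊓ 𝐍(A.map ψ)⁆ ≤ K4 (ψ z) (ψ u) ⊔ zpowers (ψ y) := commutator_le.2 (by
    rintro _ ⟨k, hk, rfl⟩ m hm
    obtain ⟨l, l1, l2⟩ := Hy.exN hm.2 hk
    have e : ⁅ψ k, m⁆ = ψ (k * l) := by
      rw [map_mul, ← show _ = ψ l from l2, commutatorElement_def, ← map_inv, inv_eq_of_mul_eq_one_right (A_sq k hk)]; group
    rw [e]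
    rcases G11 y hy y1 k hk l l1 (s.nV' hm.2 l2) (s.nV' hm.2 (l2.mul (C_of_mem hm.1))) with h | h
    · exact mem_sup_left (memV h)
    · exact (mul_mem_cancel_right (mem_sup_right (mem_zpowers _))).1 (map_mul ψ _ y ▸ mem_sup_left (memV h)))
  have nA := le_normalizer.trans s.normV
  have h2 : ∀ X ≤ A.map ψ, X ≤ 𝐂(𝐂[ψ y] ⊓ 𝐍(A.map ψ)) → X ≤ centQuo (K4 (ψ z) (ψ u)) (𝐂[ψ y] ⊓ 𝐍(A.map ψ)) :=
    fun X h1 h2 => (le_inf (h1.trans nA) h2).trans (cent_le_centQuo _ _)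
  rw [commutator_comm]
  refine commutator_le_of_le_centQuo (inf_le_right.trans s.normV) ((((s.sylA hy y1).sylowIn.fitting_decomp commA).2.ge).trans
    (sup_le (h2 _ inf_le_left inf_le_right) (h1.trans (sup_le (self_le_centQuo _ _) (h2 _ (zpowers_le.2 (mem_map_of_mem ψ hy))
      (le_cent_symm (zp_le_cent inf_le_left)))))))

theorem exB (hy : y ∈ A) (y1 : ¬ inV y) : ∃ b ∈ A, b ≠ 1 ∧ b ≠ y ∧ ψ b ∈ 𝐂(𝐂[ψ y] ⊓ 𝐍(A.map ψ)) := by
  by_contra hn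
  push Not at hn
  have h1 : A.map ψ ≤ zpowers (ψ y) ⊔ K4 (ψ z) (ψ u) := (((s.sylA hy y1).sylowIn.fitting_decomp commA).2.ge).trans
    (sup_le_sup (by
      rintro _ ⟨⟨b, hb, rfl⟩, h⟩
      by_cases b1 : b = 1
      · rw [b1, map_one]; exact one_mem _
      by_cases b2 : b = y
      · rw [b2]; exact mem_zpowers _
      exact absurd h (hn b hb b1 b2)) (s.comm_le hy y1))
  obtain ⟨w, w1, w2⟩ := G12 y hy
  obtain ⟨x, x1, t, t1, e⟩ := (mem_sup_of_le_normalizer ((zpowers_le.2 (mem_map_of_mem ψ hy)).trans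
    (le_normalizer.trans s.normV))).1 (h1 (mem_map_of_mem ψ ((show ∀ w ∈ [a, a'], w ∈ A by decide +kernel) w w1)))
  obtain ⟨v, v1, rfl⟩ := s.exV t1
  have v2 := w2 v (by simpa [inV] using v1)
  rcases Push.Dich.zp_two (by rw [← map_mul, A_sq y hy, map_one]) x1 with rfl | rfl
  exacts [v2.1 (s.inj (by rw [← e, one_mul])), v2.2 (s.inj (by rw [← e, map_mul]))]

theorem split {b : TT} (hy : y ∈ A) (y1 : ¬ inV y) (hb : b ∈ A) (hc : ψ b ∈ 𝐂(𝐂[ψ y] ⊓ 𝐍(A.map ψ))) :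
    𝐎'[2](𝐂[ψ y]) ⊔ (𝐂[ψ y] ⊓ 𝐂[ψ b]) = 𝐂[ψ y] := by
  rw [← cent_zpowers (ψ b)]
  refine zfac ((pgm A).to_le (zpowers_le.2 (mem_map_of_mem ψ hb))) (fun g hg e he => ?_)
    (zpowers_le.2 (Hy.A_le_c hy (mem_map_of_mem ψ hb)))
  rcases Push.Dich.zp_two (by rw [← map_mul, A_sq b hb, map_one]) he with rfl | rfl
  · simp
  · exact Gold.zstar_of_comm (s.sylA hy y1) commA (mem_map_of_mem ψ hb) hc hg

theorem exO (hy : y ∈ A) (y1 : ¬ inV y) (hc : ψ z ∉ 𝐂(𝐂[ψ y] ⊓ 𝐍(A.map ψ))) :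
    ∃ o ∈ Transfer.resOf 2 𝐂[ψ y], C ψ o z u ∧ C ψ o u (u * z) := by
  have hi := s.inj
  obtain ⟨m, hm, m1⟩ : ∃ m ∈ 𝐂[ψ y] ⊓ 𝐍(A.map ψ), m ∉ 𝐂[ψ z] := by
    by_contra hn
    push Not at hn
    exact hc fun m hm => cmem.1 (hn m hm)
  obtain ⟨t, t1, o, o1, ⟨j, t2⟩, o2, rfl⟩ := GW.exists_two_odd m
  replace t1 := zpowers_le.2 hm t1
  replace o1 := zpowers_le.2 hm o1
  have o3 : o ∉ 𝐂[ψ z] := fun e => m1 (mul_mem (Hy.A_le_c (by decide +kernel)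
    ((s.sylA hy y1).mem_of_mem_normalizer t2 t1.1 t1.2)) e)
  have o4 : o ∈ Transfer.resOf 2 𝐂[ψ y] := Transfer.mem_resOf o1.1 (Nat.coprime_two_right.2 o2)
  obtain ⟨v, -, hv⟩ := Hy.exN o1.2 (k := z) (by decide +kernel)
  have v1 := s.nV o1.2 hv (by decide +kernel)
  obtain ⟨w, -, hw⟩ := Hy.exN o1.2 (G4 v v1).1
  have w1 := s.nV o1.2 hw v1
  have a1 : v ≠ 1 := fun e => absurd ((hv.cast rfl e).un' hi (C.one o)) (by decide +kernel)
  have a2 : v ≠ z := fun e => o3 (mem_of_C (hv.cast rfl e))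
  have a3 : w ≠ 1 := fun e => a1 ((hw.cast rfl e).un' hi (C.one o))
  have a4 : w ≠ v := fun e => a2 ((hw.cast rfl e).un' hi hv)
  have a5 : w ≠ z := fun e => o3 (mem_of_pow_mem_coprime (n := 2) (Nat.coprime_two_right.2 o2)
    (sq o ▸ mem_of_C ((hv.comp hw).cast rfl e)))
  rcases (show ∀ v, inV v → v ≠ 1 → v ≠ z → ∀ w, inV w → w ≠ 1 → w ≠ v → w ≠ z → v = u ∧ w = u * z ∨ v = u * z ∧ w = u by
    decide +kernel) v v1 a1 a2 w w1 a3 a4 a5 with ⟨rfl, rfl⟩ | ⟨rfl, rfl⟩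
  · exact ⟨o, o4, hv, hw⟩
  · have h : C ψ o u z := (hw.mul hv).cast (by decide +kernel) (by decide +kernel)
    exact ⟨o * o, mul_mem o4 o4, hv.comp hw, h.comp hv⟩

theorem B0 (ih : IH G) (hO : pPrimeCore 2 G = ⊥) (hy : y ∈ A) (y1 : ¬ inV y) : th (ψ z) ⊓ 𝐂[ψ y] ≤ th (ψ y) := by
  have od : ∀ v, ¬ 2 ∣ Nat.card ↥(th (ψ v) ⊓ 𝐂[ψ y]) := fun v => not_dvd_card_of_le inf_le_left (cpc_not_dvd _)
  have nm : ∀ v, 𝐂[ψ y] ⊓ 𝐂[ψ v] ≤ 𝐍(th (ψ v) ⊓ 𝐂[ψ y]) := fun v =>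
    le_normalizer_inf (inf_le_right.trans (cent_le_norm_cpc _)) (inf_le_left.trans le_normalizer)
  refine le_trans ?_ (cpc_eq (ψ y)).ge
  by_cases hc : ψ z ∈ 𝐂(𝐂[ψ y] ⊓ 𝐍(A.map ψ))
  · exact core_le (s.split hy y1 (by decide +kernel) hc) inf_le_right (od z) (nm z)
  obtain ⟨o, o1, o2, o3⟩ := s.exO hy y1 hc
  have hK := Transfer.resOf_le (p := 2) 𝐂[ψ y]
  have nK := Transfer.le_normalizer_resOf (p := 2) 𝐂[ψ y]
  have hS := syl_of_sylowIn (s.sylA hy y1).sylowIn.inf_resOf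
  have h1 := (inf_le_inf_left _ le_rfl).trans (((s.sylA hy y1).sylowIn.inf_resOf_of_comm commA).le.trans (s.comm_le hy y1))
  have le0 : ∀ v, th (ψ v) ⊓ 𝐂[ψ y] ≤ Transfer.resOf 2 𝐂[ψ y] := fun v x hx => Transfer.mem_resOf hx.2
    (Nat.coprime_two_right.2 (GW.odd_of_mem (Nat.odd_iff.2 (Nat.two_dvd_ne_zero.1 (od v))) hx))
  generalize Transfer.resOf 2 𝐂[ψ y] = K at *
  have cm : ∀ k ∈ A, ∀ l, C ψ o k l → ψ (l * k) ∈ K := fun k hk l e => by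
    have := mul_mem o1 ((mem_normalizer_iff.1 (nK (Hy.A_le_c hy (mem_map_of_mem ψ hk))) _).1 (inv_mem o1))
    rwa [← map_inv, inv_eq_of_mul_eq_one_right (A_sq k hk), ← mul_assoc, ← mul_assoc, show _ = ψ l from e, ← map_mul] at this
  have zK : ψ z ∈ K := (show u * z * u = z by decide +kernel) ▸ cm u (by decide +kernel) _ o3
  have uK : ψ u ∈ K := (mul_mem_cancel_right zK).1 (map_mul ψ u z ▸ cm z (by decide +kernel) _ o2)
  rw [le_antisymm h1 (K4_le ⟨mem_map_of_mem ψ (by decide +kernel), zK⟩ ⟨mem_map_of_mem ψ (by decide +kernel), uK⟩)] at hS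
  refine le_trans ?_ (piCoreOf_le_of_normal hK nK)
  rw [← mker_coreQ, ← mim_eq_bot_iff (le0 z)]
  by_contra hn
  let f := coreQ 2 K
  have o5 := not_dvd_card_mim f (od z)
  obtain ⟨r, hr, r1⟩ := exists_pCoreOf_ne_bot (FT.solvable_of_not_two_dvd _ o5) hn
  have : Fact r.Prime := ⟨hr⟩
  rw [← map_pCore_subtype hr, ← pCoreOf] at r1
  have r3 := dvd_card_of_isPGroup_le (op_isPGroup _) r1 (op_le _)
  have r2 : r ≠ 2 := fun e => o5 (e ▸ r3)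
  obtain ⟨R, P, P', pR, p1, q1, p2, q2, p3, q3⟩ := s.exR ih hO r2
    ((r3.trans (card_mim_dvd _ _)).trans (card_dvd_of_le inf_le_left))
  have ne : ∀ (v) (h : ψ v ∈ K), inV v → f ⟨ψ v, h⟩ = 1 → v = 1 := fun v h v1 e => s.inj ((mem_bot.1
    ((mker_coreQ_inf hS.isPGroup).le ⟨(mem_mker_iff h).2 e, memV v1⟩)).trans ψ.map_one.symm)
  have tw : ∀ (v) (h : ψ v ∈ K), inV v → v ≠ 1 → orderOf (f ⟨ψ v, h⟩) = 2 := fun v h v1 v2 => Invol.two_of_mul_self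
    (by rw [← map_mul]; exact (congrArg f (Subtype.ext (by simp [← map_mul, A_sq v (G4 v v1).1]))).trans f.map_one) (mt (ne v h v1) v2)
  have key : ∀ (v) (h : ψ v ∈ K), inV v → ∀ P ≤ R, Syl r P (th (ψ v)) → UU.map ψ ≤ 𝐍(P) →
      pCoreOf r (mim f (th (ψ v) ⊓ 𝐂[ψ y])) ≤ 𝐂[f ⟨ψ v, h⟩] ∧ 𝐂[f ⟨ψ v, h⟩] ≤ 𝐍(pCoreOf r (mim f (th (ψ v) ⊓ 𝐂[ψ y]))) ∧
        pCoreOf r (mim f (th (ψ v) ⊓ 𝐂[ψ y])) ≤ mim f R := fun v h v1 P p1 p2 p3 => by
    have e := mim_coreQ_inf_cent1 (hS.isPGroup.to_le (zpowers_le.2 (memV v1))) h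
    have yU := zpowers_le.2 (A_le_U (mem_map_of_mem ψ hy))
    have py := (pgm UU).to_le yU
    have h2 := syl_of_sylowIn (Coprime.sylowIn_inf_centralizer (yU.trans ((U_le_c v1).trans (cent_le_norm_cpc (p := 2) _)))
      (cop py (cpc_not_dvd _)) (sol py) p2.sylowIn (yU.trans p3))
    rw [cent_zpowers] at h2
    exact ⟨(op_le _).trans (e ▸ mim_mono f (le_inf (le0 v) (inf_le_left.trans (cpc_le_cent _)))),
      e ▸ le_norm_op_of_le (mim_norm f ((inf_le_inf_right _ hK).trans (nm v))),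
      (syl_mim f h2 (le0 v)).op_le.trans (mim_mono f (inf_le_left.trans p1))⟩
  obtain ⟨a1, a2, a3⟩ := key z zK (by decide +kernel) P p1 p2 p3
  obtain ⟨b1, b2, b3⟩ := key u uK (by decide +kernel) P' q1 q2 q3
  have hV := syl_mim f hS le_rfl
  rw [mim_dom, MonoidHom.range_eq_top.2 (QuotientGroup.mk'_surjective _), mim_sup (zpowers_le.2 zK) (zpowers_le.2 uK),
    mim_zpowers zK, mim_zpowers uK] at hV
  refine gw pPrimeCore_quotient_pPrimeCore ⟨tw z zK (by decide +kernel) (by decide +kernel),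
    tw u uK (by decide +kernel) (by decide +kernel), fun e => ?_, ?_⟩ hV r2 a1 a2 b1 b2 (isPGroup_mim f pR) a3 b3 r1 fun e => r1 ?_
  · refine absurd (ne (u * z) (map_mul ψ u z ▸ mul_mem uK zK) (by decide +kernel) ?_) (by decide +kernel)
    rw [← Invol.mul_self_of_two (tw z zK (by decide +kernel) (by decide +kernel))]
    conv_rhs => enter [1]; rw [← e]
    rw [← map_mul f]; exact congrArg f (Subtype.ext (map_mul ψ u z))
  · exact (show Commute (⟨ψ u, uK⟩ : K) ⟨ψ z, zK⟩ from Subtype.ext (cmem.1 (mem_c (z_cen u)))).map f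
  · rwa [← show _ = ψ u from o2, th, ← cj_cpc, ← cj_of_mem (hK o1), ← cj_inf, mim_cj o1, ← cj_op, cj_eq_bot_iff] at e

theorem Fc (ih : IH G) (hO : pPrimeCore 2 G = ⊥) (hy : y ∈ A) (y1 : ¬ inV y) (hn : A.map ψ ≤ 𝐍(Y)) (ho : ¬ 2 ∣ Nat.card Y)
    (hc : Y ≤ 𝐂[ψ y]) : Y ≤ th (ψ y) := s.genV hn ho fun v v1 v2 => by
  have h1 := s.Fb v1 v2 (le_normalizer_inf hn ((Hy.A_le_c (G4 v v1).1).trans le_normalizer))
    (not_dvd_card_of_le inf_le_left ho) inf_le_right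
  obtain ⟨n, n1, n2⟩ := s.toV v1 v2
  obtain ⟨l, l1, l2⟩ := Hy.exN n1 hy
  refine (le_inf h1 (inf_le_left.trans hc)).trans ?_
  rw [← cj_le_cj_iff (g := n), cj_inf, cj_cpc, cj_cpc, cj_centralizer_singleton, show _ = ψ z from n2, show _ = ψ l from l2]
  exact s.B0 ih hO l1 (mt (s.nV' n1 l2).2 y1)

theorem bal (ih : IH G) (hO : pPrimeCore 2 G = ⊥) {x w : G} (hx : orderOf x = 2) (hw : orderOf w = 2) (hc : x ∈ 𝐂[w]) :
    th x ⊓ 𝐂[w] ≤ th w := by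
  obtain ⟨g, hg⟩ := s.fus
  rcases s.invol hg hw with ⟨g, e⟩ | ⟨g, rfl⟩
  · exact cpc_inf_cent_le hc (Invol.isPGroup_zpowers_two hx) (s.lay' e)
  rw [← cj_centralizer_singleton] at hc
  obtain ⟨x, hc', rfl⟩ := mem_cj'.1 hc
  rw [Invol.orderOf_conj] at hx
  obtain ⟨c, c1, c2⟩ := (s.sylA (y := a) (by decide +kernel) (by decide +kernel)).exists_conj_le
    (Invol.isPGroup_zpowers_two hx) (zpowers_le.2 hc')
  obtain ⟨k, k1, k2⟩ := c2 (conj_mem_cj c (mem_zpowers x))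
  rw [th, th, ← cj_cpc, ← cj_cpc, ← cj_centralizer_singleton, ← cj_inf, cj_le_cj_iff, ← cj_le_cj_iff (g := c), cj_inf, cj_cpc,
    cj_cpc, cj_of_mem c1, show _ = ψ a from C_of_mem c1, ← k2]
  exact s.Fc ih hO (by decide +kernel) (by decide +kernel) (le_normalizer_inf ((Hy.A_le_c k1).trans (cent_le_norm_cpc _))
    ((Hy.A_le_c (by decide +kernel)).trans le_normalizer)) (not_dvd_card_of_le inf_le_left (cpc_not_dvd _)) inf_le_right

theorem gf (ih : IH G) (hO : pPrimeCore 2 G = ⊥) : GF 2 (th (G := G)) := sft2.gf_cpc_of_bal fun _ hE _ h1 h2 _ h3 h4 =>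
  s.bal ih hO (hE.orderOf h1 h2) (hE.orderOf h3 h4) (le_cent1_of_comm hE.1.1 h3 h1)

theorem k4 (gf : GF 2 (th (G := G))) (hy : y ∈ A) (y1 : ¬ inV y) : 𝐂[ψ y] ≤ 𝐍(W (K4 (ψ z) (ψ y))) := by
  obtain ⟨b, b1, b2, b3, b4⟩ := s.exB hy y1
  have oy := s.two (A_sq y hy) fun e => y1 (.inl e)
  have zA : z ∈ A := by decide +kernel
  have le : ∀ k ∈ A, K4 (ψ k) (ψ y) ≤ A.map ψ := fun k hk => K4_le (mem_map_of_mem ψ hk) (mem_map_of_mem ψ hy)
  have e := W_eq gf (ea_K4 (s.two (A_sq b b1) b2) oy (Hy.A_le_c hy (mem_map_of_mem ψ b1)) fun e => b3 (s.inj e))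
    (ea_K4 s.oz oy (Hy.A_le_c hy (mem_map_of_mem ψ zA)) fun e => y1 (.inr (.inl (s.inj e).symm)))
    ((le b b1).trans (le_cent_K4 (Hy.A_le_c zA) (Hy.A_le_c hy)))
  refine (s.split hy y1 b1 b4).ge.trans (sup_le ?_ ?_)
  · rw [← cpc_eq]
    exact (le_sigClosure (θ := th) (mem_sup_right (mem_zpowers _)) (Invol.ne_one_of_two oy)).trans le_normalizer
  · rw [← e]; exact (le_cent_K4 inf_le_right inf_le_left).trans ((cent_le_norm _).trans (norm_le_W _))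

end J2c

theorem Hy.rk (s : Hy ψ) : ∃ B, B ≤ ψ.range ∧ EA 2 3 B :=
  ⟨_, map_le_range ψ A, ⟨commA, by rintro _ ⟨k, hk, rfl⟩; rw [← map_pow, sq, A_sq k hk, map_one]⟩, by
    rw [card_map_of_injective s.inj, card_A]; norm_num⟩

theorem J2c.dc (s : J2c ψ) (ih : IH G) (hO : pPrimeCore 2 G = ⊥) : Dc ψ.range (ψ z) (ψ u) := by
  obtain ⟨g, hg⟩ := s.fus
  have gf := s.gf ih hO
  have hz : C ψ _ z (z * u) := hg.comp (C.of p (by decide +kernel))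
  refine ⟨gf, s.lay, s.lay' hg, map_mul ψ z u ▸ s.lay' hz, ?_, s.syl, s.oz, ⟨_, rfl⟩, le_z, s.ou, ⟨_, rfl⟩,
    fun e => absurd (s.inj e) (by decide +kernel), ?_, s.rk⟩
  · rintro _ ⟨k, rfl⟩ k2 kz T hT hTS
    by_cases hk : ∃ g, g * ψ z * g⁻¹ = ψ k
    · obtain ⟨g, hg⟩ := hk
      exact cent_le_K4 gf (s.lay' hg) k2 s.oz kz hT (hTS.trans le_z) (mem_c (z_cen k).symm)
    have k3 : k * k = 1 := s.inj (by rw [map_mul, Invol.mul_self_of_two k2, map_one])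
    have kq : k ∉ Q := fun h => by
      rcases s.invol hg k2 with h1 | ⟨c, h1⟩
      · exact hk h1
      rcases F9 k h k3 with rfl | rfl | ⟨i, rfl | rfl⟩
      · simp at k2
      · exact kz rfl
      · obtain ⟨d, -, d2⟩ := s.clsU i
        exact s.na _ (((show C ψ c a _ from h1).comp d2).comp hg.symm)
      · obtain ⟨d, d1, d2⟩ := s.clsU i
        exact s.na _ ((((show C ψ c a _ from h1).comp (d2.mul d1)).comp (C.of p uz_p)).comp hg.symm)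
    obtain ⟨t, -, t1, -⟩ := F4 k kq k3
    have := s.k4 gf t1 fun h => kq (by
      simpa [mul_assoc] using Q_conj _ ((show ∀ k, inV k → k ∈ Q by decide +kernel) _ h) t⁻¹)
    rwa [← show _ = ψ (t * k * t⁻¹) from C.self t k, ← show _ = ψ z from C_of_mem (le_z ⟨t, rfl⟩), ← cj_K4, ← cj_W,
      ← cj_centralizer_singleton, ← cj_normalizer, cj_le_cj_iff] at this
  · rintro _ ⟨w, rfl⟩
    exact ((show ∀ w : TT, w * u * w⁻¹ = u ∨ w * u * w⁻¹ = z * u by decide +kernel) w).imp (C.of w)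
      fun e => (show _ = ψ (z * u) from C.of w e).trans (map_mul ψ z u)

universe w

theorem main_aux (m : ℕ) : ∀ (G : Type w) [Group G] [Finite G], Nat.card G = m → ∀ ψ : TT →* G, Hy ψ →
    th (ψ z) ≤ pPrimeCore 2 G := by
  induction' m using Nat.strong_induction_on with m ih
  intro G _ _ hm ψ s
  by_cases hO : pPrimeCore 2 G = ⊥
  swap
  · let π := QuotientGroup.mk' (pPrimeCore 2 G)
    have h1 := ih _ (hm ▸ card_quotient_lt hO) _ rfl (π.comp ψ) ⟨(injective_iff_map_eq_one _).2 fun x hx => s.inj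
      ((mem_bot.1 ((Glaub.inf_ker_mk' s.syl.isPGroup).le ⟨⟨x, rfl⟩, hx⟩)).trans ψ.map_one.symm),
      by rw [MonoidHom.range_comp]; exact s.syl.map_top (QuotientGroup.mk'_surjective _),
      fun K hK => s.n2 (K.comap π) (by rwa [index_comap_of_surjective _ (QuotientGroup.mk'_surjective _)])⟩
    have pz := Invol.isPGroup_zpowers_two s.oz
    have e := Coprime.map_mk'_centralizer (pPrimeCore 2 G) (cop pz (not_dvd_card_pPrimeCore Nat.prime_two)) (sol pz)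
    rw [MonoidHom.map_zpowers, cent_zpowers, cent_zpowers] at e
    rw [pPrimeCore_quotient_pPrimeCore, le_bot_iff] at h1
    rw [← QuotientGroup.ker_mk' (pPrimeCore 2 G), ← Subgroup.map_eq_bot_iff, eq_bot_iff, ← h1]
    exact le_cpc (e ▸ map_mono (cpc_le_cent _)) (e ▸ (map_mono (cent_le_norm_cpc _)).trans (le_normalizer_map _))
      fun h => cpc_not_dvd _ (h.trans (card_map_dvd _ _))
  have hB : BenderCore G := fun H hH => Agent.S1221.result H hH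
  rcases s.iso_or with h | ⟨g, hg⟩
  · have := core_le (zsplit s.syl ⟨z, rfl⟩ (Invol.mul_self_of_two s.oz) fun g _ => h g) le_top (cpc_not_dvd (ψ z))
      (inf_le_right.trans (cent_le_norm_cpc _))
    rwa [← map_pPrimeCore_subtype Nat.prime_two, pPrimeCoreOf_top] at this
  by_cases ha : ∃ g, C ψ g a z
  · obtain ⟨c, hc⟩ := ha
    refine (Push.Dich.LC.th_eq_bot (fun t ht => ?_) s.n2 hB hO ?_ s.oz).le.trans bot_le
    · rcases s.invol hg ht with ⟨g, e⟩ | ⟨g, e⟩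
      exacts [s.lay' e, s.lay' (g := g * c⁻¹) (by rw [← e, ← show _ = ψ z from hc]; group)]
    · obtain ⟨B, -, hB⟩ := s.rk
      exact not_pRankLE_top_iff.2 ⟨B, hB⟩
  · exact ((J2c.dc ⟨s, ⟨g, hg⟩, fun g h => ha ⟨g, h⟩⟩ (fun N hN χ hχ => ih _ (hm ▸ Core.card_lt_of_ne_top hN) N rfl χ hχ) hO).th_eq_bot
      s.n2 hB hO s.oz).le.trans bot_le

end Cfsg.Lib.JT.So
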