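import Cfsg.Agent.Lib.JT.Main

/-! # The Sylow `2`-subgroup `T0` of `2^{1+4}_-:A₅`: finite facts -/

set_option autoImplicit false
set_option maxRecDepth 100000
set_option synthInstance.maxSize 4000
set_option synthInstance.maxHeartbeats 200000

namespace Cfsg.Lib.JT.Sy

open Subgroup Cfsg.Lib.JT

def inV4 (p : Fin 60) : Prop := p = 0 ∨ p = 3 ∨ p = 8 ∨ p = 11
instance (p : Fin 60) : Decidable (inV4 p) := by unfold inV4; infer_instance

theorem inV4_mul : ∀ a, inV4 a → ∀ b, inV4 b → inV4 (pm a b) := by decide +kernel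
theorem inV4_inv : ∀ a, inV4 a → inV4 (pi' a) := by decide +kernel

def T0 : Subgroup (HH false) where
  carrier := {k | inV4 k.p}
  mul_mem' := fun {a b} ha hb => inV4_mul _ ha _ hb
  one_mem' := .inl rfl
  inv_mem' := fun {a} ha => inV4_inv _ ha

abbrev TT := ↥T0

def m0 (q : Fin 32) : TT := ⟨⟨q, 0⟩, .inl rfl⟩
def m1 (q : Fin 32) : TT := ⟨⟨q, 3⟩, .inr (.inl rfl)⟩
def m2 (q : Fin 32) : TT := ⟨⟨q, 8⟩, .inr (.inr (.inl rfl))⟩
def m3 (q : Fin 32) : TT := ⟨⟨q, 11⟩, .inr (.inr (.inr rfl))⟩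

theorem tt_cases (x : TT) : x = m0 x.1.q ∨ x = m1 x.1.q ∨ x = m2 x.1.q ∨ x = m3 x.1.q := by
  obtain ⟨⟨q, p⟩, h⟩ := x
  rcases h with h | h | h | h <;> simp only at h <;> subst h <;> simp [m0, m1, m2, m3]

noncomputable instance decAllT (P : TT → Prop) [DecidablePred P] : Decidable (∀ x, P x) :=
  decidable_of_iff (∀ q, P (m0 q) ∧ P (m1 q) ∧ P (m2 q) ∧ P (m3 q))
    ⟨fun h x => by
      obtain ⟨a, b, c, d⟩ := h x.1.q
      rcases tt_cases x with e | e | e | e <;> rw [e] <;> assumption, fun h _ => ⟨h _, h _, h _, h _⟩⟩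
noncomputable instance decExT (P : TT → Prop) [DecidablePred P] : Decidable (∃ x, P x) :=
  decidable_of_iff (∃ q, P (m0 q) ∨ P (m1 q) ∨ P (m2 q) ∨ P (m3 q))
    ⟨fun ⟨_, h⟩ => by rcases h with h | h | h | h <;> exact ⟨_, h⟩, fun ⟨x, h⟩ => ⟨x.1.q, by
      rcases tt_cases x with e | e | e | e <;> rw [e] at h
      exacts [.inl h, .inr (.inl h), .inr (.inr (.inl h)), .inr (.inr (.inr h))]⟩⟩
instance decEqT : DecidableEq TT := fun x y => decidable_of_iff (x.1 = y.1) Subtype.ext_iff.symm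

theorem card_TT : Nat.card TT = 128 := by
  have : Function.Bijective (fun x : Fin 32 × Fin 4 => (![m0, m1, m2, m3] x.2 x.1 : TT)) := by
    refine ⟨by decide +kernel, fun x => ?_⟩
    rcases tt_cases x with e | e | e | e
    exacts [⟨(x.1.q, 0), e.symm⟩, ⟨(x.1.q, 1), e.symm⟩, ⟨(x.1.q, 2), e.symm⟩, ⟨(x.1.q, 3), e.symm⟩]
  rw [← Nat.card_eq_of_bijective _ this]; simp

def z : TT := m0 1
def u : TT := m0 2
def p : TT := m0 4
def a : TT := m3 0
def a' : TT := m1 0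
def b : TT := m1 12
def U : Fin 5 → TT := ![m0 2, m0 4, m0 8, m0 16, m0 30]

/-- `Q = 2^{1+4}` -/
def Q : Subgroup TT := (Q0 false).comap T0.subtype
instance (x : TT) : Decidable (x ∈ Q) := decidable_of_iff (x.1.p = 0) Iff.rfl
def inV (x : TT) : Prop := x = 1 ∨ x = z ∨ x = u ∨ x = u * z
instance (x : TT) : Decidable (inV x) := by unfold inV; infer_instance
/-- one of the two subgroups `2⁴` -/
def A : Subgroup TT := centralizer {a}
theorem mem_A {x : TT} : x ∈ A ↔ x * a = a * x := mem_centralizer_singleton_iff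
instance (x : TT) : Decidable (x ∈ A) := decidable_of_iff _ mem_A.symm

theorem z_cen : ∀ k : TT, k * z = z * k := by decide +kernel
theorem cen_z : ∀ k : TT, k * u = u * k → k * p = p * k → k * a = a * k → k * b = b * k → k = 1 ∨ k = z := by decide +kernel
theorem A_sq : ∀ k : TT, k ∈ A → k * k = 1 := by decide +kernel
theorem F1 : ∀ x : TT, x * a * x⁻¹ ∈ A → x ∈ A ∨ ∀ y : TT, y ∈ A → x * y = y * x → inV y := by decide +kernel
theorem F2 : ∀ x : TT, x * a * x⁻¹ ∈ A → x * u = u * x := by decide +kernel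
theorem F3 : ∀ k : TT, k ∈ Q → k * k = 1 → ∀ l : TT, l ∈ Q → l * l = 1 → k * l = l * k →
    k = 1 ∨ k = z ∨ l = 1 ∨ l = z ∨ l = k ∨ l = k * z := by decide +kernel
theorem F4 : ∀ e : TT, e ∉ Q → e * e = 1 → ∃ s ∈ [1, p], s * e * s⁻¹ ∈ A ∧ ∀ k, k * e = e * k → s * k * s⁻¹ ∈ A := by
  decide +kernel
theorem F5 : ∀ y : TT, y * u = u * y → y * y = 1 → y ≠ 1 → ∀ i, i * y = y * i → i * i ≠ 1 → i * i * (i * i) = 1 →
    inV y ∧ inV (i * i) := by decide +kernel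
theorem F6 : ∀ y : TT, y * y = 1 → inV y ∨ ∀ x, x * x = 1 → x * y = y * x → ∀ w, w * w = 1 → w * y = y * w → x * w = w * x := by
  decide +kernel
theorem F7 : ∀ l : TT, l * l = z → l ∈ Q := by decide +kernel
theorem F8 : ∀ k : TT, k ∈ Q → k * k = z ∨ k = 1 ∨ k = z ∨ ∃ s, s * k * s⁻¹ = u ∨ s * k * s⁻¹ = p := by decide +kernel
theorem F9 : ∀ k : TT, k ∈ Q → k * k = 1 → k = 1 ∨ k = z ∨ ∃ i, k = U i ∨ k = U i * z := by decide +kernel
theorem F10 : ∀ i j, U i = U j ∨ U i = U j * z → i = j := by decide +kernel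
theorem F11 : ∀ t : TT, t ∈ A → t ∉ Q → ∃ c, c * c = 1 ∧ (c * a * c⁻¹ ∈ A ∧ c * a' * c⁻¹ ∈ A ∧ c * u * c⁻¹ ∈ A) ∧
    c * t * c⁻¹ = t * z := by decide +kernel
theorem sq_Q : ∀ k : TT, k * k ∈ Q := by decide +kernel
theorem Q_sq : ∀ k : TT, k ∈ Q → k * k = 1 ∨ k * k = z := by decide +kernel
theorem Q_conj : ∀ k : TT, k ∈ Q → ∀ s, s * k * s⁻¹ ∈ Q := by decide +kernel
theorem cent_Q : ∀ k : TT, (∀ i, k * U i * k⁻¹ = U i ∨ k * U i * k⁻¹ = U i * z) → k ∈ Q := by decide +kernel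

def pw (c : Bool) (x : TT) : TT := Bool.rec 1 x c
def W (τ : Fin 5 → Fin 5) (c : Bool × Bool × Bool × Bool) : TT :=
  pw c.1 (U (τ 0)) * (pw c.2.1 (U (τ 1)) * (pw c.2.2.1 (U (τ 2)) * pw c.2.2.2 (U (τ 3))))
theorem Q_W : ∀ k : TT, k ∈ Q → ∃ c, k = W id c ∨ k = W id c * z := by decide +kernel
theorem A_gen : ∀ k : TT, k ∈ A → ∃ c : Bool × Bool × Bool × Bool,
    k = pw c.1 z * (pw c.2.1 u * (pw c.2.2.1 a * pw c.2.2.2 a')) := by decide +kernel

theorem pw_mem {M : Subgroup TT} {x : TT} (h : x ∈ M) (c : Bool) : pw c x ∈ M := by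
  cases c
  exacts [one_mem M, h]

theorem Q_le {M : Subgroup TT} (h1 : z ∈ M) (h2 : ∀ i, U i ∈ M) : Q ≤ M := fun k hk => by
  have : ∀ c, W id c ∈ M := fun c =>
    mul_mem (pw_mem (h2 _) _) (mul_mem (pw_mem (h2 _) _) (mul_mem (pw_mem (h2 _) _) (pw_mem (h2 _) _)))
  obtain ⟨c, rfl | rfl⟩ := Q_W k hk
  exacts [this c, mul_mem (this c) h1]

theorem A_le {M : Subgroup TT} (h1 : z ∈ M) (h2 : u ∈ M) (h3 : a ∈ M) (h4 : a' ∈ M) : A ≤ M := fun k hk => by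
  obtain ⟨c, rfl⟩ := A_gen k hk
  exact mul_mem (pw_mem h1 _) (mul_mem (pw_mem h2 _) (mul_mem (pw_mem h3 _) (pw_mem h4 _)))

theorem card_Q : Nat.card Q = 32 := by
  rw [← card_Q0 false]
  exact Nat.card_congr (subgroupOfEquivOfLe (H := Q0 false) (K := T0) fun k hk => .inl hk).toEquiv

end Cfsg.Lib.JT.Sy
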