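import Cfsg.Agent.Lib.JT.Sy1
import Cfsg.Agent.Lib.Amalg.Extremal
import Cfsg.Agent.Lib.GW.DC

/-! # Fusion in groups with Sylow `2`-subgroups of type `J₂` -/

set_option autoImplicit false
set_option maxRecDepth 100000
set_option synthInstance.maxSize 4000
set_option linter.unusedSectionVars false

namespace Cfsg.Lib.JT.Sy

open Subgroup Cfsg.Lib.JT Cfsg.Lib.Amalg

variable {G : Type*} [Group G] [Finite G] {ψ : TT →* G} {g h : G} {k l k' l' : TT}

/-- `g` conjugates `ψ k` to `ψ l` -/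
def C (ψ : TT →* G) (g : G) (k l : TT) : Prop := g * ψ k * g⁻¹ = ψ l

theorem C.mul (a : C ψ g k l) (b : C ψ g k' l') : C ψ g (k * k') (l * l') := by
  unfold C at *; rw [map_mul, map_mul, ← a, ← b]; group
theorem C.comp (a : C ψ g k l) (b : C ψ h l k') : C ψ (h * g) k k' := by
  unfold C at *; rw [← b, ← a]; group
theorem C.symm (a : C ψ g k l) : C ψ g⁻¹ l k := by unfold C at *; rw [← a]; group
theorem C.inv (a : C ψ g k l) : C ψ g k⁻¹ l⁻¹ := by unfold C at *; rw [map_inv, map_inv, ← a]; group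
theorem C.self (s k : TT) : C ψ (ψ s) k (s * k * s⁻¹) := by simp [C]
theorem C.of (s : TT) (e : s * k * s⁻¹ = l) : C ψ (ψ s) k l := e ▸ C.self s k
theorem C.one (g : G) : C ψ g 1 1 := by simp [C]
theorem C.cast (a : C ψ g k l) (e1 : k = k') (e2 : l = l') : C ψ g k' l' := e1 ▸ e2 ▸ a
theorem C.un (hi : Function.Injective ψ) (a : C ψ g k l) (b : C ψ g k l') : l = l' := hi (Eq.trans (Eq.symm a) b)
theorem C.un' (hi : Function.Injective ψ) (a : C ψ g k l) (b : C ψ g k' l) : k = k' := a.symm.un hi b.symm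
theorem C.com (hi : Function.Injective ψ) (a : C ψ g k l) (b : C ψ g k' l') : l * l' = l' * l ↔ k * k' = k' * k :=
  ⟨fun e => (a.mul b).un' hi ((b.mul a).cast rfl e.symm), fun e => (a.mul b).un hi ((b.mul a).cast e.symm rfl)⟩
theorem C.sq (hi : Function.Injective ψ) (a : C ψ g k l) : l * l = 1 ↔ k * k = 1 :=
  ⟨fun e => (a.mul a).un' hi ((C.one g).cast rfl e.symm), fun e => (a.mul a).un hi ((C.one g).cast e.symm rfl)⟩
theorem C.ex {H : Subgroup TT} (hc : cj g (H.map ψ) ≤ ψ.range) (hk : k ∈ H) : ∃ l, C ψ g k l :=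
  (hc (conj_mem_cj g (mem_map_of_mem ψ hk))).imp fun _ e => e.symm

theorem pgT : IsPGroup 2 TT := .of_card (n := 7) card_TT

theorem uz_p : p * (u * z) * p⁻¹ = u := by decide +kernel

/-- Thompson transfer: `p` is fused to `u` in the centraliser of `z` -/
theorem stepA (hG : ∀ K : Subgroup G, K.index ≠ 2) (hi : Function.Injective ψ) (hS : Syl 2 ψ.range ⊤) :
    ∃ c, C ψ c z z ∧ C ψ c p u := by
  have : Fact (Nat.Prime 2) := ⟨Nat.prime_two⟩
  have fin : ∀ {c : G} {y : TT}, C ψ c z z → C ψ c p y → inV y → ∃ c, C ψ c z z ∧ C ψ c p u := fun {c y} h1 h2 h3 => by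
    rcases h3 with rfl | rfl | rfl | rfl
    · exact absurd (h2.un' hi (C.one c)) (by decide +kernel)
    · exact absurd (h2.un' hi h1) (by decide +kernel)
    · exact ⟨c, h1, h2⟩
    · exact ⟨_, h1.comp (C.of p (by decide +kernel)), h2.comp (C.of p uz_p)⟩
  have hM : ((centralizer {u}).map ψ).relIndex ψ.range = 2 := by
    rw [MonoidHom.range_eq_map, relIndex_map_map_of_injective _ _ hi, relIndex_top_right, index_eq_two_iff]
    refine ⟨p, fun x => ?_⟩
    simp only [mem_centralizer_singleton_iff, xor_iff_not_iff]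
    revert x; decide +kernel
  obtain ⟨g, g1, g2⟩ := thompson_transfer_extremal hG (H := ψ.range) (T := (centralizer {p}).map ψ)
    (Nat.odd_iff.2 (Nat.two_dvd_ne_zero.1 hS.not_dvd_index)) hM (t := ψ p)
    ((orderOf_injective ψ hi p).trans (orderOf_eq_prime (by decide +kernel) (by decide +kernel))) ((pgT.to_subgroup _).map ψ)
    (by rintro _ ⟨x, hx, rfl⟩; rw [mem_centralizer_singleton_iff, ← map_mul, mem_centralizer_singleton_iff.1 hx, map_mul])
  obtain ⟨y, y1, y2⟩ := g1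
  have y3 : C ψ g⁻¹ p y := by rw [C, inv_inv, y2]
  obtain ⟨i, i2⟩ := g2 _ (mem_map_of_mem ψ (show u * U 2 ∈ centralizer {p} from mem_centralizer_singleton_iff.2 (by decide +kernel)))
  have i3 : C ψ g⁻¹ (u * U 2) i := by rw [C, inv_inv, i2]
  have w3 : C ψ g⁻¹ z (i * i) := (i3.mul i3).cast (by decide +kernel) rfl
  have w1 : i * i ≠ 1 := fun e => absurd ((i3.sq hi).1 e) (by decide +kernel)
  obtain ⟨v1, v2⟩ := F5 y (mem_centralizer_singleton_iff.1 y1) ((y3.sq hi).2 (by decide +kernel))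
    (fun e => absurd (y3.un' hi ((C.one _).cast rfl e.symm)) (by decide +kernel)) i ((i3.com hi y3).2 (by decide +kernel)) w1
    ((w3.sq hi).2 (by decide +kernel))
  by_cases e : i * i = z
  · exact fin (w3.cast rfl e) y3 v1
  have hw : ∀ k ∈ centralizer {u}, k * (i * i) = i * i * k := fun k hk => by
    have := mem_centralizer_singleton_iff.1 hk
    rcases v2 with h | h | h | h
    exacts [absurd h w1, absurd h e, h ▸ this, by rw [h, ← mul_assoc, this, mul_assoc, z_cen, mul_assoc]]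
  have hZ : ψ.range ≤ centralizer {ψ z} := by
    rintro _ ⟨x, rfl⟩; rw [mem_centralizer_singleton_iff, ← map_mul, z_cen, map_mul]
  obtain ⟨c, c1, c2⟩ := (hS.of_le hZ le_top).exists_conj_le (P := cj g ((centralizer {u}).map ψ))
    (isPGroup_cj _ ((pgT.to_subgroup _).map ψ)) (cj_le_iff'.2 (by
      rintro _ ⟨x, hx, rfl⟩
      rw [mem_centralizer_singleton_iff, ← show g * ψ (i * i) * g⁻¹ = ψ z by simpa [C] using w3.symm, conj_mul, conj_mul,
        ← map_mul, hw x hx, map_mul]))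
  rw [← cj_mul] at c2
  have cz : C ψ c z z := mul_inv_eq_iff_eq_mul.2 (mem_centralizer_singleton_iff.1 c1)
  obtain ⟨y', hy⟩ := C.ex c2 y1
  obtain ⟨x, hx⟩ := C.ex c2 (k := a) (mem_centralizer_singleton_iff.2 (by decide +kernel))
  obtain ⟨w, hw⟩ := C.ex c2 (k := b) (mem_centralizer_singleton_iff.2 (by decide +kernel))
  have hp : C ψ c p y' := by simpa using y3.comp hy
  have yc : ∀ k, k * u = u * k → k * y = y * k := fun k hk => by
    rcases v1 with h | h | h | h <;> rw [h]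
    exacts [by simp, z_cen k, hk, by rw [← mul_assoc, hk, mul_assoc, z_cen, mul_assoc]]
  refine fin cz hp ((F6 y' ((hp.sq hi).2 (by decide +kernel))).resolve_right fun h => ?_)
  exact absurd ((hx.com hi hw).1 (h x ((hx.sq hi).2 (by decide +kernel)) ((hx.com hi hy).2 (yc _ (by decide +kernel))) w
    ((hw.sq hi).2 (by decide +kernel)) ((hw.com hi hy).2 (yc _ (by decide +kernel))))) (by decide +kernel)

structure St (ψ : TT →* G) : Prop where
  inj : Function.Injective ψ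
  syl : Syl 2 ψ.range ⊤
  cen : ∀ g, C ψ g z z
  fus : ∃ c, C ψ c p u

namespace St
variable (s : St ψ)
include s

theorem wc (hc : cj h (A.map ψ) ≤ ψ.range) : ∃ t : TT, ψ t * h ∈ 𝐍 (A.map ψ) := by
  have hi := s.inj
  obtain ⟨l1, h1⟩ := C.ex hc (k := u) (by decide +kernel)
  obtain ⟨l2, h2⟩ := C.ex hc (k := a) (by decide +kernel)
  obtain ⟨e0, e, e1, e2, e3⟩ : ∃ e0 e, e0 ∈ A ∧ C ψ h e0 e ∧ e ∉ Q := by
    by_contra hn
    push Not at hn
    rcases F3 l1 (hn _ _ (by decide +kernel) h1) ((h1.sq hi).2 (by decide +kernel)) l2 (hn _ _ (by decide +kernel) h2)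
      ((h2.sq hi).2 (by decide +kernel)) ((h1.com hi h2).2 (by decide +kernel)) with e | e | e | e | e | e <;> subst e
    exacts [absurd (h1.un' hi (C.one h)) (by decide +kernel), absurd (h1.un' hi (s.cen h)) (by decide +kernel),
      absurd (h2.un' hi (C.one h)) (by decide +kernel), absurd (h2.un' hi (s.cen h)) (by decide +kernel),
      absurd (h2.un' hi h1) (by decide +kernel), absurd (h2.un' hi (h1.mul (s.cen h))) (by decide +kernel)]
  obtain ⟨t, -, -, ht⟩ := F4 e e3 ((e2.sq hi).2 (A_sq _ e1))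
  refine ⟨t, mem_normalizer_of_cj_le (cj_le_iff'.2 ?_)⟩
  rintro _ ⟨k, hk, rfl⟩
  obtain ⟨l, hl⟩ := C.ex hc hk
  refine ⟨_, ht l ((hl.com hi e2).2 ?_), Eq.symm (hl.comp (C.self t l))⟩
  have a1 := A_sq _ (mul_mem hk e1)
  rw [← mul_inv_eq_one, mul_inv_rev, inv_eq_of_mul_eq_one_left (A_sq _ hk), inv_eq_of_mul_eq_one_left (A_sq _ e1), a1]

theorem exN (hh : h ∈ 𝐍 (A.map ψ)) (hk : k ∈ A) : ∃ l ∈ A, C ψ h k l := by
  obtain ⟨l, l1, l2⟩ := (cj_of_mem_normalizer hh).le (conj_mem_cj h (mem_map_of_mem ψ hk))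
  exact ⟨l, l1, l2.symm⟩

theorem conjN {R : Subgroup G} (hR : IsPGroup 2 R) (hn : R ≤ 𝐍 (A.map ψ)) : ∃ m ∈ 𝐍 (A.map ψ), cj m R ≤ ψ.range := by
  have : Fact (Nat.Prime 2) := ⟨Nat.prime_two⟩
  obtain ⟨m, -, hm⟩ := s.syl.exists_conj_le (isPGroup_sup_of_le_normalizer hR ((pgT.to_subgroup A).map ψ) hn) le_top
  obtain ⟨t, ht⟩ := s.wc ((cj_mono m le_sup_right).trans hm)
  exact ⟨_, ht, by rw [cj_mul]; exact cj_le_of_le_of_mem ((cj_mono m le_sup_left).trans hm) ⟨t, rfl⟩⟩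

theorem no_inv {c : G} (c1 : c ∈ 𝐍 (A.map ψ)) (c2 : c * c = 1) (c3 : C ψ c u (u * z)) : False := by
  have : Fact (Nat.Prime 2) := ⟨Nat.prime_two⟩
  have hi := s.inj
  have b1 : ψ b ∈ 𝐍 (A.map ψ) := mem_normalizer_of_cj_le (cj_le_iff'.2 (by
    rintro _ ⟨k, hk, rfl⟩
    exact ⟨b * k * b⁻¹, (show ∀ k ∈ A, b * k * b⁻¹ ∈ A by decide +kernel) k hk, by simp⟩))
  have b2 : ψ b * ψ b = 1 := by rw [← map_mul, show b * b = 1 by decide +kernel, map_one]
  have x1 : C ψ (ψ b * c) u (u * z) := c3.comp (C.of b (by decide +kernel))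
  obtain ⟨j, m, hm, e⟩ := Nat.exists_eq_two_pow_mul_odd (orderOf_pos (ψ b * c)).ne'
  have y1 : C ψ ((ψ b * c) ^ m) u (u * z) := by
    obtain ⟨n, rfl⟩ := hm
    have x2 : C ψ ((ψ b * c) ^ 2) u u := by
      rw [sq]; exact x1.comp ((x1.mul (s.cen _)).cast rfl (by decide +kernel))
    have : ∀ n : ℕ, C ψ (((ψ b * c) ^ 2) ^ n) u u := fun n => by
      induction n with
      | zero => simp [C]
      | succ n ih => rw [pow_succ]; exact x2.comp ih
    rw [pow_succ', pow_mul]; exact (this n).comp x1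
  have y2 : ((ψ b * c) ^ m) ^ 2 ^ j = 1 := by rw [← pow_mul, mul_comm m, ← e, pow_orderOf_eq_one]
  have y3 : ψ b * (ψ b * c) ^ m * (ψ b)⁻¹ = ((ψ b * c) ^ m)⁻¹ := by
    rw [← conj_pow, ← inv_pow, ← mul_assoc, b2, one_mul, mul_inv_rev, inv_eq_of_mul_eq_one_left c2]
  have y4 := pow_mem (mul_mem b1 c1) m
  generalize (ψ b * c) ^ m = y at y1 y2 y3 y4
  obtain ⟨n, n1, n2⟩ := s.conjN (R := zpowers (ψ b) ⊔ zpowers y) (isPGroup_sup_of_le_normalizer
    (isPGroup_zpowers_of_pow (k := 1) (by rw [pow_one, sq, b2])) (isPGroup_zpowers_of_pow y2)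
    (zpowers_le.2 (cj_eq_self_iff.1 (by rw [cj_zpowers, y3, zpowers_inv])))) (sup_le (zpowers_le.2 b1) (zpowers_le.2 y4))
  obtain ⟨b', hb⟩ := n2 (conj_mem_cj n (mem_sup_left (mem_zpowers _)))
  obtain ⟨y', hy⟩ := n2 (conj_mem_cj n (mem_sup_right (mem_zpowers _)))
  have hb : C ψ n b b' := hb.symm
  obtain ⟨u', u1, u2⟩ := s.exN n1 (k := u) (by decide +kernel)
  obtain ⟨a1, a2, a3⟩ := s.exN n1 (k := a) (by decide +kernel)
  have nm : ∀ x : TT, ψ x ∈ 𝐍 (A.map ψ) → x * a * x⁻¹ ∈ A := fun x hx => by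
    obtain ⟨l, l1, l2⟩ := s.exN hx (k := a) (by decide +kernel)
    exact (l2.un hi (C.self x a)) ▸ l1
  have v : inV u' := ((F1 b' (nm _ (hb ▸ mul_mem (mul_mem n1 b1) (inv_mem n1)))).resolve_left fun e => by
    have a4 := A_sq _ (mul_mem e a2)
    refine absurd ((hb.com hi a3).1 ?_) (by decide +kernel)
    rw [← mul_inv_eq_one, mul_inv_rev, inv_eq_of_mul_eq_one_left (A_sq _ e), inv_eq_of_mul_eq_one_left (A_sq _ a2), a4])
    u' u1 ((hb.com hi u2).2 (by decide +kernel))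
  have y5 := F2 y' (nm _ (hy ▸ mul_mem (mul_mem n1 y4) (inv_mem n1)))
  have y6 : y' * u' * y'⁻¹ = u' := by
    rw [mul_inv_eq_iff_eq_mul]
    rcases v with h | h | h | h <;> rw [h]
    exacts [by simp, z_cen _, y5, by rw [← mul_assoc, y5, mul_assoc, z_cen, mul_assoc]]
  have y7 : C ψ (n⁻¹ * (ψ y' * n)) u u := (u2.comp (C.of y' y6)).comp u2.symm
  rw [hy, show n⁻¹ * (n * y * n⁻¹ * n) = y by group] at y7
  exact absurd (y7.un hi y1) (by decide +kernel)

theorem syl_u : Syl 2 ((centralizer {u}).map ψ) (centralizer {ψ u}) := by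
  have : Fact (Nat.Prime 2) := ⟨Nat.prime_two⟩
  have hi := s.inj
  obtain ⟨R, R1, R2⟩ := exists_syl_ge (H := centralizer {ψ u}) ((pgT.to_subgroup (centralizer {u})).map ψ) (by
    rintro _ ⟨x, hx, rfl⟩; rw [mem_centralizer_singleton_iff, ← map_mul, mem_centralizer_singleton_iff.1 hx, map_mul])
  obtain ⟨m, -, hm⟩ := s.syl.exists_conj_le R1.isPGroup le_top
  obtain ⟨y, hy⟩ := C.ex ((cj_mono m R2).trans hm) (k := u) (mem_centralizer_singleton_iff.2 rfl)
  have h1 : cj m R ≤ (centralizer {y}).map ψ := fun x hx => by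
    obtain ⟨k, rfl⟩ := hm hx
    refine ⟨k, mem_centralizer_singleton_iff.2 (hi ?_), rfl⟩
    have := cj_mono m R1.le hx
    rw [cj_centralizer_singleton, hy, mem_centralizer_singleton_iff] at this
    rw [map_mul, map_mul, this]
  have h2 : centralizer {y} ≠ ⊤ := fun e => by
    have := fun k => mem_centralizer_singleton_iff.1 (e.ge (mem_top k))
    rcases cen_z y (this _).symm (this _).symm (this _).symm (this _).symm with rfl | rfl
    exacts [absurd (hy.un' hi (C.one m)) (by decide +kernel), absurd (hy.un' hi (s.cen m)) (by decide +kernel)]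
  have h3 : ∀ y : TT, 2 * Nat.card (centralizer {y}) ≤ (centralizer {y}).index * Nat.card (centralizer {y}) → 
      2 * Nat.card (centralizer {y}) ≤ 128 := fun y h => by rwa [index_mul_card, card_TT] at h
  have h4 : (centralizer {u}).index = 2 := by
    rw [index_eq_two_iff]
    refine ⟨p, fun x => ?_⟩
    simp only [mem_centralizer_singleton_iff, xor_iff_not_iff]
    revert x; decide +kernel
  have h5 := (centralizer {u}).index_mul_card
  have h6 := h3 y (Nat.mul_le_mul_right _ (one_lt_index_of_ne_top h2))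
  have h7 := card_le_of_le h1
  rw [card_cj, card_map_of_injective hi] at h7
  rw [eq_of_le_of_card_ge R2 (by rw [card_map_of_injective hi]; rw [h4, card_TT] at h5; omega)]
  exact R1

theorem not_u {t : TT} (t1 : t ∉ Q) (hg : C ψ g t u) : False := by
  have : Fact (Nat.Prime 2) := ⟨Nat.prime_two⟩
  have hi := s.inj
  obtain ⟨r, -, r1, -⟩ := F4 t t1 ((hg.sq hi).1 (by decide +kernel))
  have t2 : r * t * r⁻¹ ∉ Q := fun e => t1 (by simpa [mul_assoc] using Q_conj _ e r⁻¹)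
  have g2 := (C.self (ψ := ψ) r t).symm.comp hg
  generalize r * t * r⁻¹ = t at r1 t2 g2
  generalize g * (ψ r)⁻¹ = g at g2
  obtain ⟨c, c1, c2⟩ := s.syl_u.exists_conj_le (P := cj g (A.map ψ)) (isPGroup_cj _ ((pgT.to_subgroup _).map ψ)) (cj_le_iff'.2 (by
    rintro _ ⟨x, hx, rfl⟩
    have a4 := A_sq _ (mul_mem hx r1)
    have : x * t = t * x := by
      rw [← mul_inv_eq_one, mul_inv_rev, inv_eq_of_mul_eq_one_left (A_sq _ hx), inv_eq_of_mul_eq_one_left (A_sq _ r1), a4]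
    rw [mem_centralizer_singleton_iff, ← show _ = ψ u from g2, conj_mul, conj_mul, ← map_mul, this, map_mul]))
  rw [← cj_mul] at c2
  obtain ⟨w, hw⟩ := s.wc (c2.trans (map_le_range _ _))
  have g3 : C ψ (ψ w * (c * g)) t (w * u * w⁻¹) :=
    (g2.comp (show C ψ c u u from mul_inv_eq_iff_eq_mul.2 (mem_centralizer_singleton_iff.1 c1))).comp (C.self w u)
  generalize ψ w * (c * g) = h at hw g3
  obtain ⟨d, d1, ⟨d2, d3, d4⟩, d5⟩ := F11 t r1 t2
  have dn : ψ d ∈ 𝐍 (A.map ψ) := mem_normalizer_of_cj_le (cj_le_iff'.2 (by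
    rintro _ ⟨k, hk, rfl⟩
    refine ⟨d * k * d⁻¹, A_le (M := A.comap (MulAut.conj d).toMonoidHom) ?_ d4 d2 d3 hk, by simp⟩
    change d * z * d⁻¹ ∈ A
    rw [z_cen, mul_inv_cancel_right]; decide +kernel))
  have e : C ψ (h * ψ d * h⁻¹) (w * u * w⁻¹) (w * u * w⁻¹ * z) := by
    rw [mul_assoc h]; exact (g3.symm.comp (C.of d d5)).comp (g3.mul (s.cen h))
  refine s.no_inv (mul_mem (mul_mem hw dn) (inv_mem hw)) (by rw [conj_mul, ← map_mul, d1]; simp) ?_
  rcases (show ∀ w : TT, w * u * w⁻¹ = u ∨ w * u * w⁻¹ = u * z by decide +kernel) w with e' | e' <;> rw [e'] at e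
  exacts [e, (e.mul (s.cen _)).cast (by decide +kernel) (by decide +kernel)]

theorem closed (hk : k ∈ Q) (hg : C ψ g k l) : l ∈ Q := by
  have hi := s.inj
  by_contra hl
  rcases F8 k hk with e | rfl | rfl | ⟨r, e | e⟩
  · exact hl (F7 l ((hg.mul hg).un hi ((s.cen g).cast e.symm rfl)))
  · exact hl (hg.un hi (C.one g) ▸ one_mem _)
  · exact hl (hg.un hi (s.cen g) ▸ hk)
  · exact s.not_u hl (hg.symm.comp (C.of r e))
  · obtain ⟨c, hc⟩ := s.fus
    exact s.not_u hl ((hg.symm.comp (C.of r e)).comp hc)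

end St

end Cfsg.Lib.JT.Sy
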